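import Cfsg.Agent.Lib.Bender.Full.Basic
import Cfsg.Agent.Lib.Bender.RankOne
import Cfsg.Agent.Lib.Invol.StronglyPEmbedded
import Cfsg.Prelude.Def_ClassificationStages

/-!
# Simple groups with a strongly embedded maximal subgroup are of Suzuki type
-/

set_option autoImplicit false
set_option linter.style.haveILetI false

namespace CfsgLib.Bender.Full

open Subgroup
open CfsgLib.Invol (mem_of_conj_mem exists_invol_mem)

universe u

variable {G : Type u} [Group G] [Finite G] {H : Subgroup G}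

theorem normalizer_eq_self (hH : Cfsg.IsStronglyEmbedded H) : normalizer (H : Set G) = H := by
  refine le_antisymm (fun g hg => ?_) le_normalizer
  obtain ⟨t, ht, hto⟩ := exists_invol_mem hH.2.1
  exact mem_of_conj_mem hH ht hto ((mem_normalizer_iff.1 hg t).1 ht)

theorem conj_map_eq_iff (hH : Cfsg.IsStronglyEmbedded H) (g k : G) :
    H.map (MulAut.conj g).toMonoidHom = H.map (MulAut.conj k).toMonoidHom ↔ k⁻¹ * g ∈ H := by
  have hmem : ∀ (a x : G), x ∈ H.map (MulAut.conj a).toMonoidHom ↔ a⁻¹ * x * a ∈ H := fun a x =>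
    ⟨fun ⟨y, hy, e⟩ => by rw [← e]; simpa [mul_assoc] using hy, fun h => ⟨_, h, by simp [mul_assoc]⟩⟩
  constructor
  · intro e
    rw [← normalizer_eq_self hH, mem_normalizer_iff]
    intro x
    have h1 := hmem g (g * x * g⁻¹)
    rw [e, hmem k] at h1
    rw [show g⁻¹ * (g * x * g⁻¹) * g = x by group] at h1
    rw [show k⁻¹ * g * x * (k⁻¹ * g)⁻¹ = k⁻¹ * (g * x * g⁻¹) * k by group]
    exact h1.symm
  · intro h
    ext x
    rw [hmem, hmem, show g⁻¹ * x * g = (k⁻¹ * g)⁻¹ * (k⁻¹ * x * k) * (k⁻¹ * g) by group]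
    constructor
    · intro hx
      have := mul_mem (mul_mem h hx) (inv_mem h)
      simpa [mul_assoc] using this
    · exact fun hx => mul_mem (mul_mem (inv_mem h) hx) h

theorem map_conj_map (g m : G) :
    (H.map (MulAut.conj g).toMonoidHom).map (MulAut.conj m).toMonoidHom = H.map (MulAut.conj (m * g)).toMonoidHom := by
  rw [Subgroup.map_map]
  congr 1
  ext x
  simp [mul_assoc]

theorem hasPair_of_simple [IsSimpleGroup G] (hH : Cfsg.IsStronglyEmbedded H) : CfsgLib.Bender.HasPair G := by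
  by_contra hp
  have h := CfsgLib.Bender.oddCore_sup_eq_top hH hp
  haveI := CfsgLib.Coprime.pPrimeCore_characteristic (G := G) 2
  rcases Subgroup.Normal.eq_bot_or_eq_top (inferInstance : (Cfsg.pPrimeCore 2 G).Normal) with e | e
  · change Cfsg.pPrimeCore 2 G ⊔ H = ⊤ at h
    rw [e, bot_sup_eq] at h
    exact hH.1 h
  · have := CfsgLib.Coprime.pPrimeCore_not_dvd (G := G) Nat.prime_two
    rw [e, card_top] at this
    exact this (hH.2.1.two_dvd.trans (card_subgroup_dvd_card H))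

/-- the statement of S2027 -/
theorem suzukiType_of_statement [IsSimpleGroup G] (hF : FullStatement.{u}) (hM : Cfsg.IsStronglyPEmbedded 2 H) :
    Cfsg.IsDoublyTransitiveSuzukiType H := by
  haveI : Fact (Nat.Prime 2) := ⟨Nat.prime_two⟩
  have hH := CfsgLib.Invol.stronglyEmbedded_of_stronglyPEmbedded hM
  have hcore : H.normalCore = ⊥ :=
    (inferInstance : H.normalCore.Normal).eq_bot_or_eq_top.resolve_right fun e =>
      hH.1 (eq_top_iff.2 (e ▸ H.normalCore_le))
  obtain ⟨Q, hQH, hn, hQ, hreg⟩ := hF G H hH hcore (hasPair_of_simple hH)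
  have hne : ∀ g : G, H.map (MulAut.conj g).toMonoidHom ≠ H ↔ g ∉ H := by
    intro g
    have h1 : H.map (MulAut.conj (1 : G)).toMonoidHom = H := by ext x; simp
    have := conj_map_eq_iff hH g 1
    rw [h1, inv_one, one_mul] at this
    exact not_congr this
  obtain ⟨g, hg⟩ : ∃ g, g ∉ H := by
    by_contra hc
    push Not at hc
    exact hH.1 (eq_top_iff.2 fun g _ => hc g)
  set D := H ⊓ H.map (MulAut.conj g).toMonoidHom with hD
  have hDn : H ⊓ normalizer ((H.map (MulAut.conj g).toMonoidHom : Subgroup G) : Set G) = D := by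
    rw [hD, ← Subgroup.map_equiv_normalizer_eq, normalizer_eq_self hH]
  have hQD : Q ⊓ D = ⊥ := by
    refine eq_bot_iff.2 fun x hx => ?_
    obtain ⟨k, hk⟩ := hQ ⟨x, hx.1⟩
    exact mem_bot.2 (eq_of_two_element (hH.2.2 g hg) hx.2 (congrArg Subtype.val hk))
  refine ⟨normalizer_eq_self hH, ⟨g, (hne g).2 hg⟩, fun g₁ g₂ h1 h2 => ?_, g, (hne g).2 hg, Q, hQH,
    normal_subgroupOf_iff_le_normalizer hQH |>.2 hn, ?_, ?_, hQ.isNilpotent, ?_, fun g₁ g₂ h1 h2 => ?_⟩
  · obtain ⟨x, ⟨hx, hxH⟩, -⟩ := hreg g₁ g₂ ((hne g₁).1 h1) ((hne g₂).1 h2)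
    exact ⟨x, hQH hx, by rw [map_conj_map, conj_map_eq_iff hH]; exact hxH⟩
  · rw [hDn, hQD]
  · rw [hDn]
    refine le_antisymm (sup_le hQH inf_le_left) fun h hh => ?_
    obtain ⟨x, hx, d, hd, rfl⟩ := exists_mul hQH hreg hg hh
    exact mul_mem_sup hx hd
  · obtain ⟨-, -, P, hP⟩ := CfsgLib.Invol.stronglyPEmbedded_of_stronglyEmbedded hH
    have hPH : (P : Subgroup G) ≤ H := by
      refine le_normalizer.trans (le_trans ?_ hP)
      refine le_iSup_of_le (f := fun R : {R : Subgroup G // R ≤ (P : Subgroup G) ∧ ¬ Cfsg.PRankLE 2 (1 - 1) R} =>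
        normalizer ((R : Subgroup G) : Set G)) ⟨P, le_rfl, fun hr => ?_⟩ le_rfl
      obtain ⟨a, ha⟩ := exists_prime_orderOf_dvd_card' (G := (P : Subgroup G)) 2
        (P.dvd_card_of_dvd_card (hH.2.1.two_dvd.trans (card_subgroup_dvd_card H)))
      have h1 := hr (zpowers a) inferInstance fun b hb => by
        obtain ⟨i, rfl⟩ := mem_zpowers_iff.1 hb
        have ha2 : a ^ 2 = 1 := by simpa [ha] using pow_orderOf_eq_one a
        rw [← zpow_natCast (a ^ i), ← zpow_mul, mul_comm, zpow_mul, zpow_natCast, ha2, one_zpow]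
      rw [Nat.card_zpowers, ha, Nat.sub_self, pow_zero] at h1
      omega
    refine ⟨P, fun p hp => ?_⟩
    obtain ⟨x, hx, d, hd, rfl⟩ := exists_mul hQH hreg hg (hPH hp)
    haveI : (Q.subgroupOf H).Normal := normal_subgroupOf_iff_le_normalizer hQH |>.2 hn
    set π := QuotientGroup.mk' (Q.subgroupOf H)
    have hπ : π ⟨x * d, hPH hp⟩ = π ⟨d, hd.1⟩ := by
      rw [QuotientGroup.mk'_apply, QuotientGroup.mk'_apply, QuotientGroup.eq, mem_subgroupOf]
      simp only [coe_mul, coe_inv, mul_inv_rev, mul_assoc]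
      have := (mem_normalizer_iff.1 (inv_mem (hn hd.1)) x⁻¹).1 (inv_mem hx)
      simpa [mul_assoc] using this
    obtain ⟨k, hk⟩ := P.2 ⟨x * d, hp⟩
    have h1 : π ⟨d, hd.1⟩ ^ 2 ^ k = 1 := by
      rw [← hπ, ← map_pow, show (⟨x * d, hPH hp⟩ : H) ^ 2 ^ k = 1 from Subtype.ext (congrArg Subtype.val hk :), map_one]
    have hdQ : d ^ 2 ^ k ∈ Q := by
      rw [← map_pow, QuotientGroup.mk'_apply, QuotientGroup.eq_one_iff, mem_subgroupOf] at h1
      simpa using h1
    obtain ⟨j, hj⟩ := hQ ⟨_, hdQ⟩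
    have hd1 : d = 1 := eq_of_two_element (hH.2.2 g hg) hd (k := k + j) (by
      rw [pow_add, pow_mul]; exact congrArg Subtype.val hj)
    rw [hd1, mul_one]; exact hx
  · obtain ⟨x, ⟨hx, hxH⟩, huniq⟩ := hreg g₁ g₂ ((hne g₁).1 h1) ((hne g₂).1 h2)
    refine ⟨⟨x, hx⟩, (map_conj_map g₁ x).trans ((conj_map_eq_iff hH _ _).2 hxH), fun y hy => Subtype.ext (huniq y ⟨y.2, ?_⟩)⟩
    have := (conj_map_eq_iff hH _ _).1 ((map_conj_map g₁ (y : G)).symm.trans hy)
    exact this

end CfsgLib.Bender.Full
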