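import Cfsg.Agent.Lib.Bender.Full.Statement
import Cfsg.Agent.Lib.Invol.StronglyEmbedded
import Cfsg.Agent.Lib.Coprime.Core
import Cfsg.Prelude.Def_EvenType
import Mathlib.GroupTheory.QuotientGroup.Basic

/-!
# First consequences of the structure of strongly embedded subgroups
-/

set_option autoImplicit false
set_option linter.style.haveILetI false

namespace CfsgLib.Bender.Full

open Subgroup
open CfsgLib.Invol (mem_of_conj_mem exists_invol_mem)

universe u

variable {G : Type u} [Group G] [Finite G] {H : Subgroup G}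

theorem odd_normalCore (hH : Cfsg.IsStronglyEmbedded H) : Odd (Nat.card H.normalCore) := by
  rw [← Nat.not_even_iff_odd]
  intro he
  obtain ⟨t, ht, hto⟩ := exists_invol_mem he
  refine hH.1 (eq_top_iff.2 fun g _ => ?_)
  exact mem_of_conj_mem hH (H.normalCore_le ht) hto (H.normalCore_le ((inferInstance : H.normalCore.Normal).conj_mem t ht g))

theorem eq_of_two_element {N : Subgroup G} (hN : Odd (Nat.card N)) {x : G} (hx : x ∈ N) {k : ℕ}
    (hxk : x ^ 2 ^ k = 1) : x = 1 := by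
  have h1 : (orderOf x).Coprime (2 ^ k) := by
    refine Nat.Coprime.pow_right _ (Nat.coprime_two_right.2 ?_)
    have hd : orderOf (⟨x, hx⟩ : N) ∣ Nat.card N := orderOf_dvd_natCard _
    rw [orderOf_mk] at hd
    exact hN.of_dvd_nat hd
  exact orderOf_eq_one_iff.1 (Nat.eq_one_of_dvd_coprimes h1 dvd_rfl (orderOf_dvd_of_pow_eq_one hxk))

theorem exists_quotient (hH : Cfsg.IsStronglyEmbedded H) (hp : CfsgLib.Bender.HasPair G) :
    Cfsg.IsStronglyEmbedded (H.map (QuotientGroup.mk' H.normalCore)) ∧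
      (H.map (QuotientGroup.mk' H.normalCore)).normalCore = ⊥ ∧
      CfsgLib.Bender.HasPair (G ⧸ H.normalCore) := by
  set N := H.normalCore with hN
  set π := QuotientGroup.mk' N with hπ
  have hker : π.ker ≤ H := by rw [hπ, QuotientGroup.ker_mk']; exact H.normalCore_le
  have hsurj : Function.Surjective π := QuotientGroup.mk'_surjective N
  have hcomap : (H.map π).comap π = H := comap_map_eq_self hker
  have hodd := odd_normalCore hH
  have himg : ∀ x : G, orderOf x = 2 → orderOf (π x) = 2 := by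
    intro x hx
    refine orderOf_eq_prime (hp := ⟨Nat.prime_two⟩) (by rw [← map_pow, ← hx, pow_orderOf_eq_one, map_one]) ?_
    intro e
    have h1 := eq_of_two_element hodd ((QuotientGroup.eq_one_iff x).1 e) (k := 1)
      (by rw [pow_one, ← hx, pow_orderOf_eq_one])
    rw [h1, orderOf_one] at hx
    omega
  refine ⟨⟨fun h => hH.1 ?_, ?_, fun q hq => ?_⟩, ?_, ?_⟩
  · rw [← hcomap, h, comap_top]
  · obtain ⟨t, ht, hto⟩ := exists_invol_mem hH.2.1
    refine even_iff_two_dvd.2 ?_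
    rw [← himg t hto, ← orderOf_mk (π t) (mem_map_of_mem π ht)]
    exact orderOf_dvd_natCard _
  · obtain ⟨g, rfl⟩ := hsurj q
    have hg : g ∉ H := fun h => hq (mem_map_of_mem π h)
    have hc : H.map π ⊓ (H.map π).map (MulAut.conj (π g)).toMonoidHom =
        (H ⊓ H.map (MulAut.conj g).toMonoidHom).map π := by
      refine le_antisymm ?_ ?_
      · rintro _ ⟨⟨a, ha, rfl⟩, ⟨_, ⟨b, hb, rfl⟩, hbe⟩⟩
        refine ⟨a, ⟨ha, ⟨g⁻¹ * a * g, ?_, by simp [mul_assoc]⟩⟩, rfl⟩
        have e : π (g⁻¹ * a * g) = π b := by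
          simp only [MulEquiv.toMonoidHom_eq_coe, MonoidHom.coe_coe, MulAut.conj_apply] at hbe
          rw [map_mul, map_mul, map_inv, ← hbe]; group
        have : g⁻¹ * a * g ∈ (H.map π).comap π := by rw [mem_comap, e]; exact mem_map_of_mem π hb
        rwa [hcomap] at this
      · rintro _ ⟨a, ⟨ha, ⟨b, hb, rfl⟩⟩, rfl⟩
        exact ⟨mem_map_of_mem π ha, ⟨π b, mem_map_of_mem π hb, by simp⟩⟩
    rw [hc]
    exact (hH.2.2 g hg).of_dvd_nat (card_map_dvd _ _)
  · rw [eq_bot_iff]
    intro q hq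
    obtain ⟨x, rfl⟩ := hsurj q
    rw [mem_bot, hπ, QuotientGroup.mk'_apply, QuotientGroup.eq_one_iff]
    intro b
    have h : π (b * x * b⁻¹) ∈ H.map π := by
      rw [map_mul, map_mul, map_inv]
      exact (H.map π).normalCore_le ((inferInstance : (H.map π).normalCore.Normal).conj_mem _ hq (π b))
    have : b * x * b⁻¹ ∈ (H.map π).comap π := h
    rwa [hcomap] at this
  · obtain ⟨t, s, ht, hs, hne, hc⟩ := hp
    refine ⟨π t, π s, himg t ht, himg s hs, fun e => hne ?_, hc.map π⟩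
    have h1 : t⁻¹ * s ∈ N := QuotientGroup.eq.1 e
    have h2 := eq_of_two_element hodd h1 (k := 1) (by
      rw [pow_one, (hc.inv_left).mul_pow, inv_pow]
      have et := pow_orderOf_eq_one t
      have es := pow_orderOf_eq_one s
      rw [ht] at et; rw [hs] at es
      rw [et, es, inv_one, mul_one])
    exact inv_mul_eq_one.1 h2

theorem hasPair_of_rank {G : Type u} [Group G] [Finite G] (h : Cfsg.PRankAtLeast 2 2 G) :
    CfsgLib.Bender.HasPair G := by
  obtain ⟨A, hA, h2, hcard⟩ := h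
  haveI := Fintype.ofFinite A
  have : ∃ a b : A, a ≠ 1 ∧ b ≠ 1 ∧ a ≠ b := by
    classical
    have h3 : 1 < (Finset.univ.erase (1 : A)).card := by
      rw [Finset.card_erase_of_mem (Finset.mem_univ _), Finset.card_univ, ← Nat.card_eq_fintype_card]
      omega
    obtain ⟨a, ha, b, hb, hab⟩ := Finset.one_lt_card.1 h3
    exact ⟨a, b, (Finset.mem_erase.1 ha).1, (Finset.mem_erase.1 hb).1, hab⟩
  obtain ⟨a, b, ha, hb, hab⟩ := this
  have ho : ∀ x : A, x ≠ 1 → orderOf (x : G) = 2 := fun x hx =>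
    orderOf_eq_prime (hp := ⟨Nat.prime_two⟩) (by
      have := h2 x x.2; exact_mod_cast this) fun e => hx (Subtype.ext e)
  exact ⟨a, b, ho a ha, ho b hb, fun e => hab (Subtype.ext e), congrArg Subtype.val (mul_comm' a b)⟩

/-- the two-point part is a complement of the regular subgroup -/
theorem exists_mul {Q : Subgroup G} (hQH : Q ≤ H)
    (hreg : ∀ g k : G, g ∉ H → k ∉ H → ∃! x, x ∈ Q ∧ k⁻¹ * (x * g) ∈ H) {g : G} (hg : g ∉ H) {h : G}
    (hh : h ∈ H) : ∃ x ∈ Q, ∃ d ∈ H ⊓ H.map (MulAut.conj g).toMonoidHom, h = x * d := by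
  have hk : h * g ∉ H := fun e => hg (by simpa using mul_mem (inv_mem hh) e)
  obtain ⟨x, ⟨hx, hxH⟩, -⟩ := hreg g (h * g) hg hk
  refine ⟨x, hx, x⁻¹ * h, ⟨Subgroup.mul_mem _ (Subgroup.inv_mem _ (hQH hx)) hh, ⟨g⁻¹ * (x⁻¹ * h * g), ?_, ?_⟩⟩,
    by group⟩
  · have := inv_mem hxH
    have e : ((h * g)⁻¹ * (x * g))⁻¹ = g⁻¹ * (x⁻¹ * h * g) := by group
    rwa [e] at this
  · simp [mul_assoc]

end CfsgLib.Bender.Full
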