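import Cfsg.Agent.Lib.Bender.Full.Basic
import Cfsg.Agent.Lib.Invol.StronglyPEmbedded
import Cfsg.Agent.S0205
import Mathlib.GroupTheory.Solvable

/-!
# Strongly embedded subgroups are solvable
-/

set_option autoImplicit false
set_option linter.style.haveILetI false

namespace CfsgLib.Bender.Full

open Subgroup

universe u

theorem solvable_of_odd {X : Type u} [Group X] [Finite X] (h : Odd (Nat.card X)) : Group.IsSolvable X :=
  Cfsg.Agent.S0205.result h

variable {G : Type u} [Group G] [Finite G] {H : Subgroup G}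

theorem solvable_of_regular {Q : Subgroup G} (hH : Cfsg.IsStronglyEmbedded H) (hQH : Q ≤ H)
    (hn : H ≤ normalizer (Q : Set G)) (hQ : IsPGroup 2 Q)
    (hreg : ∀ g k : G, g ∉ H → k ∉ H → ∃! x, x ∈ Q ∧ k⁻¹ * (x * g) ∈ H) : Group.IsSolvable H := by
  haveI : Fact (Nat.Prime 2) := ⟨Nat.prime_two⟩
  obtain ⟨g, hg⟩ : ∃ g, g ∉ H := by
    by_contra hc
    push Not at hc
    exact hH.1 (eq_top_iff.2 fun g _ => hc g)
  haveI : (Q.subgroupOf H).Normal := normal_subgroupOf_iff_le_normalizer hQH |>.2 hn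
  haveI : Group.IsNilpotent Q := hQ.isNilpotent
  haveI : Group.IsSolvable (Q.subgroupOf H) :=
    solvable_of_solvable_injective (f := (subgroupOfEquivOfLe hQH).toMonoidHom) (subgroupOfEquivOfLe hQH).injective
  set D := H ⊓ H.map (MulAut.conj g).toMonoidHom
  haveI : Group.IsSolvable D := solvable_of_odd (hH.2.2 g hg)
  have hs : Function.Surjective ((QuotientGroup.mk' (Q.subgroupOf H)).comp (inclusion (inf_le_left : D ≤ H))) := by
    intro q
    obtain ⟨⟨h, hh⟩, rfl⟩ := QuotientGroup.mk'_surjective (Q.subgroupOf H) q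
    obtain ⟨x, hx, d, hd, rfl⟩ := exists_mul hQH hreg hg hh
    refine ⟨⟨d, hd⟩, ?_⟩
    rw [MonoidHom.comp_apply, QuotientGroup.mk'_apply, QuotientGroup.mk'_apply, QuotientGroup.eq, mem_subgroupOf]
    show d⁻¹ * (x * d) ∈ Q
    rw [← mul_assoc]
    have := (mem_normalizer_iff.1 (inv_mem (hn hd.1)) x).1 hx
    simpa using this
  haveI : Group.IsSolvable (H ⧸ Q.subgroupOf H) := solvable_of_surjective hs
  exact solvable_of_ker_le_range (Q.subgroupOf H).subtype (QuotientGroup.mk' (Q.subgroupOf H))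
    (by rw [QuotientGroup.ker_mk', range_subtype])

theorem isSolvable_of_pair (hF : FullStatement.{u}) (hH : Cfsg.IsStronglyEmbedded H)
    (hp : CfsgLib.Bender.HasPair G) : Group.IsSolvable H := by
  obtain ⟨hH', hc, hp'⟩ := exists_quotient hH hp
  obtain ⟨Q, hQH, hn, hQ, hreg⟩ := hF (G ⧸ H.normalCore) _ hH' hc hp'
  haveI : Group.IsSolvable H.normalCore := solvable_of_odd (odd_normalCore hH)
  haveI : Group.IsSolvable (H.map (QuotientGroup.mk' H.normalCore)) := solvable_of_regular hH' hQH hn hQ hreg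
  refine solvable_of_ker_le_range (inclusion H.normalCore_le)
    ((QuotientGroup.mk' H.normalCore).subgroupMap H) ?_
  intro x hx
  have h1 : (QuotientGroup.mk' H.normalCore) (x : G) = 1 := congrArg Subtype.val hx
  exact ⟨⟨x, (QuotientGroup.eq_one_iff _).1 h1⟩, rfl⟩

/-- the statement of S2903 -/
theorem solvable_of_statement (hF : FullStatement.{u}) (hrank : Cfsg.PRankAtLeast 2 2 G)
    (hH : Cfsg.IsStronglyPEmbedded 2 H) : Group.IsSolvable H :=
  isSolvable_of_pair hF (CfsgLib.Invol.stronglyEmbedded_of_stronglyPEmbedded hH) (hasPair_of_rank hrank)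

end CfsgLib.Bender.Full
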