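import Cfsg.Agent.Lib.Char.TransLinear.Structure
import Cfsg.Agent.S0205
import Cfsg.Agent.S3769
import Cfsg.Agent.Lib.Coprime.Core

/-!
# Point stabilizers of a coprime action with centralizing normalizers

`C0` of odd order acts coprimely on the abelian group `M` and the normalizer of every non-trivial
`p`-subgroup `Y` of `C0` centralizes `C_M(Y)`. Then the stabilizer in `C0` of an element of `M` is
`C0` or abelian (in fact of order one or a prime): the orbit sums of a normal elementary subgroup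
tell a further element normalizing `⟨y⟩` apart from the powers of `y`.
-/

set_option autoImplicit false
set_option linter.unusedSectionVars false

namespace CfsgLib.Bender.Full

open Subgroup
open scoped commutatorElement

attribute [local instance 1100] Fintype.ofFinite

universe u

variable {G : Type u} [Group G] [Finite G]

theorem exists_normal_elementary_in {T : Subgroup G} (hodd : Odd (Nat.card T)) (hT : T ≠ ⊥) :
    ∃ (q : ℕ) (X : Subgroup G), q.Prime ∧ X ≤ T ∧ T ≤ normalizer (X : Set G) ∧ X ≠ ⊥ ∧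
      (∀ a ∈ X, ∀ b ∈ X, a * b = b * a) ∧ IsPGroup q X := by
  haveI : Group.IsSolvable T := Cfsg.Agent.S0205.result hodd
  haveI : Nontrivial T := (Subgroup.nontrivial_iff_ne_bot T).2 hT
  obtain ⟨q, X, hq, hXn, -, hX1, hXc, hXe⟩ :=
    CfsgLib.Char.exists_normal_elementary_sub (D := (⊤ : Subgroup T)) top_ne_bot
  refine ⟨q, X.map T.subtype, hq, map_subtype_le X, fun g hg => ?_, ?_, ?_, ?_⟩
  · have key : ∀ g ∈ T, ∀ x ∈ X.map T.subtype, g * x * g⁻¹ ∈ X.map T.subtype := by
      rintro g hg _ ⟨x, hx, rfl⟩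
      exact ⟨_, hXn.conj_mem x hx ⟨g, hg⟩, rfl⟩
    exact mem_normalizer_iff.2 fun x => ⟨key g hg x, fun h => by
      simpa [mul_assoc] using key g⁻¹ (inv_mem hg) _ h⟩
  · rwa [Ne, Subgroup.map_eq_bot_iff_of_injective _ T.subtype_injective]
  · rintro _ ⟨a, ha, rfl⟩ _ ⟨b, hb, rfl⟩
    exact congrArg (fun x : T => (x : G)) (hXc a ha b hb)
  · rintro ⟨_, ⟨a, ha, rfl⟩⟩
    exact ⟨1, Subtype.ext (by
      rw [pow_one]
      exact congrArg (fun x : T => (x : G)) (hXe a ha))⟩

theorem commute_of_commute_pow {M : Subgroup G} {g a : G} (ha : a ∈ M) {n : ℕ}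
    (hn : (Nat.card M).Coprime n) (h : Commute g (a ^ n)) : Commute g a := by
  obtain ⟨d, hd⟩ := exists_pow_eq_self_of_coprime (n := n) (x := a)
    (Nat.Coprime.coprime_dvd_left (Subgroup.orderOf_dvd_natCard M ha) hn).symm
  rw [← hd]
  exact h.pow_right d

/-- The orbit sum argument. -/
theorem commute_of_fpf_pair {M X : Subgroup G} [IsMulCommutative M]
    (hcop : (Nat.card M).Coprime (Nat.card X)) (hX : X ≤ normalizer (M : Set G)) {a y v : G}
    (ha : a ∈ M) (hyM : y ∈ normalizer (M : Set G)) (hvM : v ∈ normalizer (M : Set G))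
    (hyX : y ∈ normalizer (X : Set G)) (hvX : v ∈ normalizer (X : Set G)) (hya : Commute y a)
    (hva : Commute v a) {p : ℕ} (hp : 0 < p) (hyp : y ^ p = 1)
    (hfy : ∀ i, 0 < i → i < p → ∀ x ∈ X, Commute (y ^ i) x → x = 1)
    (hfv : ∀ i, i < p → ∀ x ∈ X, Commute (v * y ^ i) x → x = 1)
    (hA : ∀ b ∈ M, Commute y b → Commute v b) :
    ∀ x ∈ X, Commute x a := by
  classical
  letI : CommGroup M := { (inferInstance : Group M) with
    mul_comm := fun b c => Subtype.ext (setLike_mul_comm b.2 c.2) }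
  haveI : (M.subgroupOf (normalizer (M : Set G))).Normal := normal_in_normalizer
  let cM : normalizer (M : Set G) →* MulAut M := Subgroup.normalizerMonoidHom M
  have hcM : ∀ (g : normalizer (M : Set G)) (b : M), ((cM g b : M) : G) = g * b * (g : G)⁻¹ :=
    fun _ _ => rfl
  let y' : normalizer (M : Set G) := ⟨y, hyM⟩
  let v' : normalizer (M : Set G) := ⟨v, hvM⟩
  let a' : M := ⟨a, ha⟩
  let ι : X → normalizer (M : Set G) := fun x => ⟨x, hX x.2⟩
  -- the shifted elements
  have hcj : ∀ (g : normalizer (M : Set G)), (g : G) ∈ normalizer (X : Set G) → Commute (g : G) a →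
      ∀ x : X, cM g (cM (ι x) a') = cM ⟨g * x * (g : G)⁻¹, mul_mem (mul_mem g.2 (hX x.2)) (inv_mem g.2)⟩ a' := by
    intro g _ hga x
    apply Subtype.ext
    simp only [hcM, ι, a']
    have e : (g : G)⁻¹ * a * g = a := by rw [mul_assoc, ← hga.eq, inv_mul_cancel_left]
    calc (g : G) * ((x : G) * a * (x : G)⁻¹) * (g : G)⁻¹
        = (g : G) * (x : G) * a * (x : G)⁻¹ * (g : G)⁻¹ := by group
      _ = (g : G) * (x : G) * ((g : G)⁻¹ * a * g) * (x : G)⁻¹ * (g : G)⁻¹ := by rw [e]
      _ = (g : G) * x * (g : G)⁻¹ * a * ((g : G) * x * (g : G)⁻¹)⁻¹ := by group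
  let W : M := ∏ x : X, cM (ι x) a'
  have hprod : ∀ (g : normalizer (M : Set G)), (g : G) ∈ normalizer (X : Set G) → Commute (g : G) a →
      ∏ x : X, cM (ι x⁻¹) (cM g (cM (ι x) a')) =
        if ∀ z ∈ X, Commute (g : G) z → z = 1 then W
        else ∏ x : X, cM (ι x⁻¹) (cM g (cM (ι x) a')) := by
    intro g hgX hga
    split_ifs with hfree
    · let σ : X → X := fun x =>
        ⟨(x : G)⁻¹ * ((g : G) * x * (g : G)⁻¹),
          mul_mem (inv_mem x.2) ((mem_normalizer_iff.1 hgX x).1 x.2)⟩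
      have hσ : Function.Bijective σ := by
        refine Finite.injective_iff_bijective.1 fun x₁ x₂ e => ?_
        have e' : (x₁ : G)⁻¹ * ((g : G) * x₁ * (g : G)⁻¹) =
            (x₂ : G)⁻¹ * ((g : G) * x₂ * (g : G)⁻¹) := congrArg Subtype.val e
        have h1 : Commute (g : G) ((x₁ : G) * (x₂ : G)⁻¹) := by
          calc (g : G) * ((x₁ : G) * (x₂ : G)⁻¹)
              = (x₁ : G) * ((x₁ : G)⁻¹ * ((g : G) * x₁ * (g : G)⁻¹)) * ((g : G) * (x₂ : G)⁻¹ * (g : G)⁻¹) * g := by
                group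
            _ = (x₁ : G) * (x₂ : G)⁻¹ * g := by rw [e']; group
        exact Subtype.ext (mul_inv_eq_one.1 (hfree _ (mul_mem x₁.2 (inv_mem x₂.2)) h1))
      refine Fintype.prod_bijective σ hσ _ _ fun x => ?_
      rw [hcj g hgX hga, ← MulAut.mul_apply, ← map_mul]
      exact congrArg (fun k => cM k a') (Subtype.ext (by simp [σ, ι, mul_assoc]))
    · rfl
  -- the value at each power of `y`
  let T : normalizer (M : Set G) → M := fun g => ∏ x : X, cM (ι x⁻¹) (cM g (cM (ι x) a'))
  have hT1 : T 1 = a' ^ Nat.card X := by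
    simp only [T, map_one, MulAut.one_apply]
    rw [Nat.card_eq_fintype_card, ← Finset.card_univ, ← Finset.prod_const]
    refine Finset.prod_congr rfl fun x _ => ?_
    rw [← MulAut.mul_apply, ← map_mul,
      show ι x⁻¹ * ι x = 1 from Subtype.ext (inv_mul_cancel (x : G)), map_one, MulAut.one_apply]
  have hTW : ∀ g : normalizer (M : Set G), (g : G) ∈ normalizer (X : Set G) → Commute (g : G) a →
      (∀ z ∈ X, Commute (g : G) z → z = 1) → T g = W := fun g h1 h2 h3 =>
    (hprod g h1 h2).trans (if_pos h3)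
  -- the orbit product is fixed by `v`
  have hfix : ∀ b : M, cM v' (∏ i ∈ Finset.range p, cM (y' ^ i) b) =
      ∏ i ∈ Finset.range p, cM (y' ^ i) b := by
    intro b
    set c := ∏ i ∈ Finset.range p, cM (y' ^ i) b with hc
    have hy' : y' ^ p = 1 := Subtype.ext (by simpa [y'] using hyp)
    have hyc : cM y' c = c := by
      rw [hc, map_prod]
      have e2 := Finset.prod_range_succ' (fun i => cM (y' ^ i) b) p
      rw [Finset.prod_range_succ, hy', pow_zero, mul_left_inj] at e2
      refine Eq.trans (Finset.prod_congr rfl fun i _ => ?_) e2.symm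
      rw [← MulAut.mul_apply, ← map_mul, ← pow_succ']
    have h1 : Commute y (c : G) := by
      have := congrArg Subtype.val hyc
      rw [hcM] at this
      exact mul_inv_eq_iff_eq_mul.1 this
    exact Subtype.ext (mul_inv_eq_iff_eq_mul.2 (hA _ c.2 h1).eq)
  have key : ∏ i ∈ Finset.range p, T (v' * y' ^ i) = ∏ i ∈ Finset.range p, T (y' ^ i) := by
    simp only [T]
    rw [Finset.prod_comm, Finset.prod_comm (s := Finset.range p)]
    refine Finset.prod_congr rfl fun x _ => ?_
    rw [← map_prod, ← map_prod]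
    congr 1
    simp only [map_mul, MulAut.mul_apply]
    rw [← map_prod]
    exact hfix _
  have hyi : ∀ i : ℕ, ((y' ^ i : normalizer (M : Set G)) : G) = y ^ i := fun i => rfl
  rw [Finset.prod_congr rfl fun i hi => hTW (v' * y' ^ i) (mul_mem hvX (pow_mem hyX i))
      (hva.mul_left (hya.pow_left i)) (hfv i (Finset.mem_range.1 hi)),
    Finset.prod_const, Finset.card_range] at key
  obtain ⟨p', rfl⟩ : ∃ p', p = p' + 1 := ⟨p - 1, by omega⟩
  rw [Finset.prod_range_succ', pow_zero, hT1, pow_succ,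
    Finset.prod_congr rfl fun i hi => hTW (y' ^ (i + 1)) (pow_mem hyX _) (hya.pow_left _)
      (hfy (i + 1) (Nat.succ_pos i) (Nat.succ_lt_succ (Finset.mem_range.1 hi))),
    Finset.prod_const, Finset.card_range, mul_right_inj] at key
  -- so the orbit sum of `X` is a power of `a`
  intro x hx
  refine commute_of_commute_pow ha hcop ?_
  have hW : cM (ι ⟨x, hx⟩) W = W := by
    simp only [W, map_prod]
    refine Fintype.prod_equiv (Equiv.mulLeft ⟨x, hx⟩) _ _ fun z => ?_
    rw [Equiv.coe_mulLeft, ← MulAut.mul_apply, ← map_mul]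
    rfl
  rw [key] at hW
  have := congrArg Subtype.val hW
  rw [hcM, Subgroup.coe_pow] at this
  exact mul_inv_eq_iff_eq_mul.1 this

/-- Stabilizers of points are abelian or everything. -/
theorem stabilizer_abelian {C0 M : Subgroup G} [IsMulCommutative M] (hodd : Odd (Nat.card C0))
    (hC0M : C0 ≤ normalizer (M : Set G)) (hcop : (Nat.card M).Coprime (Nat.card C0))
    (hnorm : ∀ (p : ℕ), p.Prime → ∀ Y : Subgroup G, Y ≤ C0 → Y ≠ ⊥ → IsPGroup p Y → ∀ g ∈ C0,
      g ∈ normalizer (Y : Set G) → ∀ b ∈ M, (∀ y ∈ Y, Commute y b) → Commute g b)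
    {a : G} (ha : a ∈ M) :
    IsMulCommutative ↥(C0 ⊓ centralizer {a}) ∨ C0 ⊓ centralizer {a} = C0 := by
  classical
  set T := C0 ⊓ centralizer ({a} : Set G) with hT
  have hTmem : ∀ {g : G}, g ∈ T → g ∈ C0 ∧ Commute g a := fun {g} hg =>
    ⟨hg.1, mem_centralizer_singleton_iff.1 hg.2⟩
  by_cases hall : ∀ g ∈ C0, Commute g a
  · exact Or.inr (le_antisymm inf_le_left fun g hg =>
      ⟨hg, mem_centralizer_singleton_iff.2 (hall g hg).eq⟩)
  left
  have hC01 : C0 ≠ ⊥ := fun e => hall fun g hg => by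
    rw [e, Subgroup.mem_bot] at hg
    rw [hg]
    exact Commute.one_left a
  obtain ⟨q, X, hq, hXC, hCX, hX1, hXc, hXp⟩ := exists_normal_elementary_in hodd hC01
  have hXa : ¬ ∀ x ∈ X, Commute x a := fun h =>
    hall fun g hg => hnorm q hq X hXC hX1 hXp g hg (hCX hg) a ha h
  -- `T` meets `X` trivially and acts on it without fixed points
  have hTX : ∀ x ∈ X, x ∈ T → x = 1 := by
    intro x hx hxT
    by_contra hx1
    refine hXa fun z hz => hnorm q hq (zpowers x) (zpowers_le.2 (hXC hx)) (zpowers_ne_bot.2 hx1)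
      (hXp.to_le (zpowers_le.2 hx)) z (hXC hz) ?_ a ha ?_
    · refine mem_normalizer_iff.2 fun w => ?_
      have hc : ∀ w ∈ zpowers x, z * w * z⁻¹ = w := fun w hw => by
        rw [hXc z hz w (zpowers_le.2 hx hw), mul_inv_cancel_right]
      refine ⟨fun hw => by rwa [hc w hw], fun hw => ?_⟩
      have : w = z * w * z⁻¹ := by
        have h2 := hc _ hw
        exact mul_left_cancel (a := z) (mul_right_cancel (b := z⁻¹) (h2.trans (by group))).symm
      rwa [this]
    · intro w hw
      obtain ⟨k, rfl⟩ := mem_zpowers_iff.1 hw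
      exact (hTmem hxT).2.zpow_left k
  have hfree : ∀ g ∈ T, g ≠ 1 → ∀ x ∈ X, Commute g x → x = 1 := by
    intro g hg hg1 x hx hgx
    obtain ⟨p, hp, hpd⟩ := Nat.exists_prime_and_dvd (fun e => hg1 (orderOf_eq_one_iff.1 e))
    set g' := g ^ (orderOf g / p) with hg'
    have hg'o : orderOf g' = p := orderOf_pow_orderOf_div (orderOf_pos g).ne' hpd
    have hg'1 : g' ≠ 1 := fun e => hp.ne_one (by rw [← hg'o, e, orderOf_one])
    refine hTX x hx ⟨hXC hx, mem_centralizer_singleton_iff.2 (hnorm p hp (zpowers g')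
      (zpowers_le.2 (pow_mem (hTmem hg).1 _)) (zpowers_ne_bot.2 hg'1) ?_ x (hXC hx) ?_ a ha ?_).eq⟩
    · exact IsPGroup.of_card (n := 1) (by rw [Nat.card_zpowers, hg'o, pow_one])
    · refine (centralizer_le_normalizer (zpowers g' : Set G)) (mem_centralizer_iff.2 fun w hw => ?_)
      obtain ⟨k, rfl⟩ := mem_zpowers_iff.1 hw
      exact ((hgx.pow_left _).zpow_left k).eq
    · intro w hw
      obtain ⟨k, rfl⟩ := mem_zpowers_iff.1 hw
      exact (((hTmem hg).2.pow_left _).zpow_left k)
  -- a prime order element is self-normalizing in `T`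
  have hself : ∀ y ∈ T, (orderOf y).Prime → ∀ v ∈ T, v ∈ normalizer (zpowers y : Set G) →
      v ∈ zpowers y := by
    intro y hy hyp v hv hvn
    by_contra hvy
    have hy1 : y ≠ 1 := fun e => hyp.ne_one (by rw [e, orderOf_one])
    refine hXa (commute_of_fpf_pair (Nat.Coprime.coprime_dvd_right (card_dvd_of_le hXC) hcop)
      (hXC.trans hC0M) ha (hC0M (hTmem hy).1) (hC0M (hTmem hv).1) (hCX (hTmem hy).1)
      (hCX (hTmem hv).1) (hTmem hy).2 (hTmem hv).2 hyp.pos (pow_orderOf_eq_one y)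
      (fun i hi0 hi x hx hc => hfree _ (pow_mem hy i) (pow_ne_one_of_lt_orderOf hi0.ne' hi) x hx hc)
      (fun i _ x hx hc => hfree _ (mul_mem hv (pow_mem hy i)) (fun e => hvy ?_) x hx hc)
      (fun b hb hyb => hnorm _ hyp (zpowers y) (zpowers_le.2 (hTmem hy).1) (zpowers_ne_bot.2 hy1)
        (IsPGroup.of_card (n := 1) (by rw [Nat.card_zpowers, pow_one])) v (hTmem hv).1 hvn b hb
        fun w hw => by
          obtain ⟨k, rfl⟩ := mem_zpowers_iff.1 hw
          exact hyb.zpow_left k))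
    rw [eq_inv_of_mul_eq_one_left e]
    exact inv_mem (pow_mem (mem_zpowers y) i)
  -- so `T` is trivial or of prime order
  by_cases hT1 : T = ⊥
  · haveI : Subsingleton T := by rw [hT1]; infer_instance
    exact ⟨⟨fun g h => Subsingleton.elim _ _⟩⟩
  have hToddT : Odd (Nat.card T) := hodd.of_dvd_nat (card_dvd_of_le inf_le_left)
  obtain ⟨r, U, hr, hUT, hTU, hU1, hUc, hUp⟩ := exists_normal_elementary_in hToddT hT1
  obtain ⟨u0, hu0, hu01⟩ := (Subgroup.bot_or_exists_ne_one U).resolve_left hU1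
  obtain ⟨p, hp, hpd⟩ := Nat.exists_prime_and_dvd (fun e => hu01 (orderOf_eq_one_iff.1 e))
  set y := u0 ^ (orderOf u0 / p) with hy
  have hyo : orderOf y = p := orderOf_pow_orderOf_div (orderOf_pos u0).ne' hpd
  have hyU : y ∈ U := pow_mem hu0 _
  have hUy : U ≤ zpowers y := fun v hv => hself y (hUT hyU) (hyo ▸ hp) v (hUT hv)
    (centralizer_le_normalizer (zpowers y : Set G) (mem_centralizer_iff.2 fun w hw =>
      hUc w (zpowers_le.2 hyU hw) v hv))
  have hUeq : U = zpowers y := le_antisymm hUy (zpowers_le.2 hyU)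
  have hTy : T ≤ zpowers y := fun v hv => hself y (hUT hyU) (hyo ▸ hp) v hv (hUeq ▸ hTU hv)
  refine ⟨⟨fun g h => Subtype.ext ?_⟩⟩
  obtain ⟨i, hi⟩ := mem_zpowers_iff.1 (hTy g.2)
  obtain ⟨j, hj⟩ := mem_zpowers_iff.1 (hTy h.2)
  show (g : G) * h = h * g
  rw [← hi, ← hj, ← zpow_add, ← zpow_add, add_comm]

/-- An operator of prime order without fixed points on the faithful coprime module centralizes. -/
theorem commute_of_fpf {C0 M : Subgroup G} [IsMulCommutative M] (hodd : Odd (Nat.card C0))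
    (hC0M : C0 ≤ normalizer (M : Set G)) (hcop : (Nat.card M).Coprime (Nat.card C0))
    (hfaith : ∀ c ∈ C0, (∀ b ∈ M, Commute c b) → c = 1) {z : G} {s : ℕ} (hs : s.Prime) (hs2 : s ≠ 2)
    (hzo : orderOf z = s) (hzM : z ∈ normalizer (M : Set G)) (hzC : z ∈ normalizer (C0 : Set G))
    (hsC : ¬ s ∣ Nat.card C0) (hsM : ¬ s ∣ Nat.card M) (hfree : ∀ b ∈ M, Commute z b → b = 1) :
    ∀ c ∈ C0, Commute c z := by
  classical
  set Gz := C0 ⊔ zpowers z with hGz
  have hdis : C0 ⊓ zpowers z = ⊥ := by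
    refine Subgroup.inf_eq_bot_of_coprime ?_
    rw [Nat.card_zpowers, hzo]
    exact ((hs.coprime_iff_not_dvd).2 hsC).symm
  have hzn : zpowers z ≤ normalizer (C0 : Set G) := zpowers_le.2 hzC
  have hcard : Nat.card Gz = Nat.card C0 * s := by
    refine Nat.dvd_antisymm ?_ (Nat.Coprime.mul_dvd_of_dvd_of_dvd
      ((hs.coprime_iff_not_dvd).2 hsC).symm (card_dvd_of_le le_sup_left) ?_)
    · rw [hGz, sup_comm, ← hzo, ← Nat.card_zpowers z, mul_comm]
      exact CfsgLib.Coprime.card_sup_dvd_of_le_normalizer hzn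
    · rw [← hzo, ← Nat.card_zpowers z]
      exact card_dvd_of_le le_sup_right
  have hoddz : Odd (Nat.card Gz) := by
    rw [hcard]
    exact hodd.mul (hs.odd_of_ne_two hs2)
  have hGM : Gz ≤ normalizer (M : Set G) := sup_le hC0M (zpowers_le.2 hzM)
  intro c hc
  by_contra hne
  have hKn : Gz ≤ normalizer (C0 : Set G) := sup_le le_normalizer hzn
  set d := c * z * c⁻¹ * z⁻¹ with hd
  have hzc : z * c⁻¹ * z⁻¹ ∈ C0 := (mem_normalizer_iff.1 hzC c⁻¹).1 (inv_mem hc)
  have hdC : d ∈ C0 := by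
    rw [hd, show c * z * c⁻¹ * z⁻¹ = c * (z * c⁻¹ * z⁻¹) by group]
    exact mul_mem hc hzc
  refine hne (mul_inv_eq_iff_eq_mul.1 (mul_inv_eq_one.1 (hfaith d hdC fun b hb => ?_)))
  -- `d` centralizes the elements of prime order, hence everything
  have hprime : ∀ b ∈ M, (orderOf b).Prime → Commute d b := by
    intro b hb hbp
    set r := orderOf b
    have hrM : r ∣ Nat.card M := Subgroup.orderOf_dvd_natCard M hb
    let V : Subgroup G :=
      { carrier := {w | w ∈ M ∧ w ^ r = 1}
        one_mem' := ⟨one_mem _, one_pow _⟩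
        mul_mem' := fun {w w'} hw hw' => ⟨mul_mem hw.1 hw'.1, by
          rw [Commute.mul_pow (setLike_mul_comm hw.1 hw'.1), hw.2, hw'.2, one_mul]⟩
        inv_mem' := fun {w} hw => ⟨inv_mem hw.1, by rw [inv_pow, hw.2, inv_one]⟩ }
    have hVel : Cfsg.IsElementaryAbelian r V :=
      ⟨⟨⟨fun w w' => Subtype.ext (setLike_mul_comm w.2.1 w'.2.1)⟩⟩, fun w hw => hw.2⟩
    have hGV : Gz ≤ normalizer (V : Set G) := by
      have key : ∀ g ∈ Gz, ∀ w ∈ V, g * w * g⁻¹ ∈ V := fun g hg w hw =>
        ⟨(mem_normalizer_iff.1 (hGM hg) w).1 hw.1, by rw [conj_pow, hw.2, mul_one, mul_inv_cancel]⟩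
      exact fun g hg => mem_normalizer_iff.2 fun w => ⟨key g hg w, fun h => by
        simpa [mul_assoc] using key g⁻¹ (inv_mem hg) _ h⟩
    have hrG : ¬ r ∣ Nat.card Gz := by
      rw [hcard]
      intro h
      rcases hbp.dvd_mul.1 h with h' | h'
      · exact hbp.ne_one (Nat.eq_one_of_dvd_coprimes hcop hrM h')
      · exact hsM (((Nat.prime_dvd_prime_iff_eq hbp hs).1 h') ▸ hrM)
    have hcpK : (Nat.card C0).Coprime (C0.relIndex Gz) := by
      have h1 := Subgroup.card_mul_index (C0.subgroupOf Gz)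
      rw [Nat.card_congr (Subgroup.subgroupOfEquivOfLe (le_sup_left : C0 ≤ Gz)).toEquiv, hcard] at h1
      rw [Subgroup.relIndex, Nat.eq_of_mul_eq_mul_left Nat.card_pos h1]
      exact ((hs.coprime_iff_not_dvd).2 hsC).symm
    have hres := Cfsg.Agent.S3769.result Gz (Cfsg.Agent.S0205.result hoddz) hoddz V hbp hVel hrG hGV
      C0 (zpowers z) le_sup_left hKn hcpK le_sup_right (by rw [Nat.card_zpowers, hzo]; exact hs)
      hdis rfl
      (by
        rw [eq_bot_iff]
        intro w hw
        exact hfree w hw.1.1 ((mem_centralizer_iff.1 hw.2 z (mem_zpowers z)) ))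
    have hdR : d⁻¹ ∈ ⁅zpowers z, C0⁆ := by
      rw [show d⁻¹ = ⁅z, c⁆ by rw [hd, commutatorElement_def]; group]
      exact commutator_mem_commutator (mem_zpowers z) hc
    have h2 : Commute d⁻¹ b :=
      ((mem_centralizer_iff.1 (hres hdR)) b ⟨hb, pow_orderOf_eq_one b⟩).symm
    simpa using h2.inv_left
  -- coprime action: by induction on the order
  suffices key : ∀ n, ∀ w ∈ M, orderOf w = n → Commute d w from key _ b hb rfl
  intro n
  induction n using Nat.strong_induction_on with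
  | _ n ih =>
    intro w hw hwn
    rcases eq_or_ne w 1 with rfl | hw1
    · exact Commute.one_right d
    obtain ⟨r, hr, hrd⟩ := Nat.exists_prime_and_dvd (fun e => hw1 (orderOf_eq_one_iff.1 e))
    have hpow : Commute d (w ^ r) := by
      refine ih _ ?_ _ (pow_mem hw r) rfl
      rw [← hwn, orderOf_pow_of_dvd hr.ne_zero hrd]
      exact Nat.div_lt_self (orderOf_pos w) hr.one_lt
    set e := d * w * d⁻¹ * w⁻¹ with he
    have hdM : d * w * d⁻¹ ∈ M := (mem_normalizer_iff.1 (hC0M hdC) w).1 hw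
    have heM : e ∈ M := mul_mem hdM (inv_mem hw)
    have her : e ^ r = 1 := by
      rw [he, Commute.mul_pow (setLike_mul_comm hdM (inv_mem hw)), conj_pow, hpow.eq,
        mul_inv_cancel_right, inv_pow, mul_inv_cancel]
    have hde : Commute d e := by
      rcases eq_or_ne e 1 with h1 | h1
      · rw [h1]; exact Commute.one_right d
      · exact hprime e heM (by
          rw [(orderOf_eq_prime (hp := ⟨hr⟩) her h1)]; exact hr)
    have hiter : ∀ k : ℕ, d ^ k * w * (d ^ k)⁻¹ = e ^ k * w := by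
      intro k
      induction k with
      | zero => simp
      | succ k ihk =>
        calc d ^ (k + 1) * w * (d ^ (k + 1))⁻¹ = d * (d ^ k * w * (d ^ k)⁻¹) * d⁻¹ := by
              rw [pow_succ']; group
          _ = d * e ^ k * (d⁻¹ * d) * w * d⁻¹ := by rw [ihk]; group
          _ = e ^ k * (d * w * d⁻¹) := by
              rw [(hde.pow_right k).eq]; group
          _ = e ^ (k + 1) * w := by rw [pow_succ, he]; group
    have h3 := hiter (orderOf d)
    rw [pow_orderOf_eq_one, one_mul, inv_one, mul_one, right_eq_mul] at h3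
    have h4 : e = 1 := orderOf_eq_one_iff.1 (Nat.eq_one_of_dvd_coprimes hcop
      (Subgroup.orderOf_dvd_natCard M heM) ((orderOf_dvd_of_pow_eq_one h3).trans
        (Subgroup.orderOf_dvd_natCard C0 hdC)))
    exact mul_inv_eq_iff_eq_mul.1 (mul_inv_eq_one.1 h4)

end CfsgLib.Bender.Full
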