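import Cfsg.Agent.Lib.Bender.Full.CaseCommute.Field
import Cfsg.Agent.Lib.Bender.Full.Commute.Torus

/-!
# The case of commuting involutions

If `invCent H` meets the pair, or contains all two-elements of `H`, it supplements the pair and `H` is
regular; otherwise the pair is faithful on the involutions and forms a torus with a two-element moving
an involution, which is impossible.
-/

set_option autoImplicit false
set_option linter.style.haveILetI false
set_option linter.unusedSectionVars false

namespace CfsgLib.Bender.Full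

open Subgroup MulAction

universe u

variable {G : Type u} [Group G] [Finite G] {H : Subgroup G}

/-- If the involutions of `H` commute and a lonely line lies in the pair, `H` is regular, unless the
last case occurs. -/
theorem Setting.regular_of_commute_of (h : Setting H) {x : G ⧸ H} (hx : x ≠ base H)
    (hcomm : ∀ u ∈ H, ∀ v ∈ H, orderOf u = 2 → orderOf v = 2 → Commute u v)
    {s : ℕ} [Fact s.Prime] (hsm : ¬ s ∣ numInv H) {z : G} (hz : z ∈ pairStab (base H) x)
    (hzo : orderOf z = s) (hlon : ¬ Nonlonely (zpowers z))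
    (hhole : ∀ S R : Subgroup G, Hole.Torus H S R x s → H.normalCore = ⊥ →
      (∃ g ∈ H, (∃ j : ℕ, g ^ 2 ^ j = 1) ∧ ∃ u ∈ H, orderOf u = 2 ∧ ¬ Commute g u) → False) :
    Regular H := by
  refine h.regular_of_sup hx hcomm ?_
  by_cases htwo : ∀ g ∈ H, (∃ j : ℕ, g ^ 2 ^ j = 1) → g ∈ invCent H
  · exact h.sup_of_two hx hcomm hsm hz hzo hlon htwo
  exfalso
  push Not at htwo
  obtain ⟨g, hg, hg2, hgK⟩ := htwo
  have hbot : invCent H ⊓ pairStab (base H) x = ⊥ := by
    by_contra hA
    exact hgK (h.twoGen_le_invCent hx (h.sup_of_ne_bot hx hcomm hA)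
      (CfsgLib.Bender.Transfer.mem_twoGen hg hg2))
  obtain ⟨S, R, T⟩ := h.exists_torus hx hcomm hsm hz hzo hlon fun d hd hdc =>
    (eq_bot_iff_forall _).1 hbot d ⟨⟨pairStab_base_le H x hd,
      mem_centralizer_iff.2 fun u hu => (hdc u hu.2 hu.1).eq.symm⟩, hd⟩
  refine hhole S R T h.core ⟨g, hg, hg2, ?_⟩
  by_contra hall
  push Not at hall
  exact hgK ⟨hg, mem_centralizer_iff.2 fun u hu => (hall u hu.2 hu.1).eq.symm⟩

end CfsgLib.Bender.Full
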