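import Cfsg.Agent.Lib.Bender.Full.Control

/-!
# Lifting transitivity to the centralizer of a lonely element

`z` of prime order `s` commutes with `A`, fixes `a` and `c`, generates a Sylow `s`-subgroup of the
pair inside `L` and lies outside the kernel of `C(A)` on the fixed points of `A`.  Then two-elements
commuting with `A` and `z` are transitive on their common fixed points other than `a`.
-/

set_option autoImplicit false
set_option linter.style.haveILetI false
set_option linter.unusedSectionVars false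

namespace CfsgLib.Bender.Full

open Subgroup MulAction
open CfsgLib.Coprime (IsSylowIn conjBy conjBy_eq_self_iff)

universe u

variable {G : Type u} [Group G] [Finite G] {H : Subgroup G}

/-- An odd `l`-group preserving a set of two-power size fixes one of its points. -/
theorem exists_fixed_of_two_pow {l : ℕ} [hl : Fact l.Prime] (hl2 : l ≠ 2) {Q : Subgroup G}
    (hQ : IsPGroup l Q) {S : Set (G ⧸ H)} (hmem : ∀ q ∈ Q, ∀ y ∈ S, q • y ∈ S) {j : ℕ}
    (hS : S.ncard = 2 ^ j) : ∃ y ∈ S, ∀ q ∈ Q, q • y = y := by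
  letI : MulAction Q S :=
    { smul := fun q y => ⟨(q : G) • (y : G ⧸ H), hmem q q.2 y y.2⟩
      one_smul := fun y => Subtype.ext (one_smul G (y : G ⧸ H))
      mul_smul := fun p q y => Subtype.ext (mul_smul (p : G) (q : G) (y : G ⧸ H)) }
  obtain ⟨y, hy⟩ := hQ.nonempty_fixed_point_of_prime_not_dvd_card S (by
    rw [Nat.card_coe_set_eq, hS]
    exact fun hd => hl2 ((Nat.prime_dvd_prime_iff_eq hl.out Nat.prime_two).1
      (hl.out.dvd_of_dvd_pow hd)))
  exact ⟨y, y.2, fun q hq => congrArg Subtype.val (hy ⟨q, hq⟩)⟩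

/-- A nonlonely subgroup of a pair fixes a third point. -/
theorem three_of_nonlonely (hH : Cfsg.IsStronglyEmbedded H) {W : Subgroup G} {a c : G ⧸ H}
    (hW : W ≤ pairStab a c) (hac : a ≠ c) (hN : Nonlonely W) : 2 < (fixSet W H).ncard := by
  obtain ⟨t, -, ht, -, -, -, htC, -⟩ := nonlonely_iff.1 hN
  by_contra hle
  refine notMem_centralizer_of_two hH hW hac ?_ ht htC
  intro z hz
  by_contra hcon
  push Not at hcon
  exact hle ((Set.two_lt_ncard_iff (Set.toFinite _)).2 ⟨a, c, z, hW.trans inf_le_left,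
    hW.trans inf_le_right, hz, hac, Ne.symm hcon.1, Ne.symm hcon.2⟩)

namespace LocalData

variable {A P : Subgroup G} {a c : G ⧸ H}

/-- A lonely element lies outside the kernel. -/
theorem notMem_fixKer (D : LocalData H A a P) (h : Setting H) (ha : a ∈ fixSet A H)
    (hc : c ∈ fixSet A H) (hca : c ≠ a) (hN : Nonlonely A) {z : G}
    (hlon : ¬ Nonlonely (zpowers z)) : z ∉ fixKer A H := by
  intro hz
  obtain ⟨t, ht, htA, hta, -⟩ := D.central
  obtain ⟨u, v, hu, hv, huv, hcomm, huA, hvA, hua, hva⟩ := h.exists_two_at hN ht htA hta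
  refine hlon (nonlonely_iff.2 ⟨u, v, hu, hv, huv, hcomm, ?_, ?_⟩)
  · rw [zpowers_eq_closure, centralizer_closure, mem_centralizer_singleton_iff]
    exact (D.commute_fixKer h ha hc hca hu huA hua hz).eq
  · rw [zpowers_eq_closure, centralizer_closure, mem_centralizer_singleton_iff]
    exact (D.commute_fixKer h ha hc hca hv hvA hva hz).eq

/-- Transitivity lifts to the centralizer of `z`. -/
theorem exists_lift (D : LocalData H A a P) (h : Setting H) (hc : c ∈ fixSet A H) (hca : c ≠ a)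
    {L : Subgroup G} (htwo : ∀ g : G, g • a = a → (∃ i : ℕ, g ^ 2 ^ i = 1) → g ∈ L) {s : ℕ}
    [hs : Fact s.Prime] {z : G} (hzo : orderOf z = s) (hzA : z ∈ centralizer (A : Set G))
    (hzD : z ∈ L ⊓ pairStab a c) (hzK : z ∉ fixKer A H)
    (hR : IsSylowIn s (zpowers z) (L ⊓ pairStab a c))
    {y : G ⧸ H} (hy : y ∈ fixSet A H) (hyz : z • y = y) (hya : y ≠ a) :
    ∃ q ∈ centralizer (A : Set G), (∃ i : ℕ, q ^ 2 ^ i = 1) ∧ q • a = a ∧ q • c = y ∧
      Commute q z := by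
  have hzL : z ∈ L := hzD.1
  have hza : z • a = a := mem_stabilizer_iff.1 hzD.2.1
  have hzN : zpowers z ≤ normalizer (A : Set G) ⊓ stabilizer G a :=
    zpowers_le.2 ⟨centralizer_le_normalizer _ hzA, mem_stabilizer_iff.2 hza⟩
  obtain ⟨g, hg, hg2, hgc, hgR⟩ := D.exists_two_map h hc hca hzN
    (zpowers_le.2 hzD.2.2) hy (zpowers_le.2 (mem_stabilizer_iff.2 hyz)) hya
  have hga : g • a = a := mem_stabilizer_iff.1 (D.le hg).2
  have hgL : g ∈ L := htwo g hga hg2
  set k1 := g⁻¹ * z * g * z⁻¹ with hk1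
  have hk1K : k1 ∈ fixKer A H := hgR z (mem_zpowers z)
  have hk1L : k1 ∈ L := L.mul_mem (L.mul_mem (L.mul_mem (L.inv_mem hgL) hzL) hgL) (L.inv_mem hzL)
  set K' := fixKer A H ⊓ L with hK'
  have hKD : K' ≤ L ⊓ pairStab a c := fun k hk => ⟨hk.2,
    mem_stabilizer_iff.2 (mem_stabilizer_iff.1 (D.le (D.ker_le hk.1)).2),
    mem_stabilizer_iff.2 ((mem_fixKer.1 hk.1).2 c hc)⟩
  have hzn : zpowers z ≤ normalizer (K' : Set G) := by
    refine zpowers_le.2 (mem_normalizer_iff.2 fun k => ?_)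
    have hn := mem_normalizer_iff.1
      (normalizer_le_normalizer_fixKer (H := H) A (centralizer_le_normalizer _ hzA)) k
    have hL := mem_normalizer_iff.1 (le_normalizer hzL) k
    exact ⟨fun hk => ⟨hn.1 hk.1, hL.1 hk.2⟩, fun hk => ⟨hn.2 hk.1, hL.2 hk.2⟩⟩
  set U := K' ⊔ zpowers z with hU
  set z' := g⁻¹ * z * g with hz'
  have hz'U : z' ∈ U := by
    rw [show z' = k1 * z by rw [hk1, hz']; group]
    exact mul_mem (mem_sup_left ⟨hk1K, hk1L⟩) (mem_sup_right (mem_zpowers z))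
  have hUD : U ≤ L ⊓ pairStab a c := sup_le hKD (zpowers_le.2 hzD)
  have hz'o : orderOf z' = s := by
    rw [hz', show g⁻¹ * z * g = MulAut.conj g⁻¹ z by simp [MulAut.conj_apply], MulEquiv.orderOf_eq,
      hzo]
  have hSyl : IsSylowIn s (zpowers z) U := by
    refine ⟨le_sup_right, le_antisymm (isPGroup_card_le hR.isPGroup le_sup_right) ?_⟩
    rw [hR.2]
    exact Nat.pow_le_pow_right hs.out.pos
      ((Nat.factorization_le_iff_dvd Nat.card_pos.ne' Nat.card_pos.ne').2 (card_dvd_of_le hUD) s)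
  have hSyl' : IsSylowIn s (zpowers z') U := by
    refine ⟨zpowers_le.2 hz'U, ?_⟩
    rw [← hSyl.2, Nat.card_zpowers, Nat.card_zpowers, hz'o, hzo]
  obtain ⟨k, hk, hkR⟩ := hSyl.exists_conj hSyl'
  obtain ⟨k0, hk0, r, hr, rfl⟩ := CfsgLib.Coprime.mem_sup_exists hzn hk
  have hk0R : k0 * z * k0⁻¹ ∈ zpowers z' := by
    rw [← hkR, ← CfsgLib.Coprime.conjBy_conjBy,
      CfsgLib.Coprime.conjBy_eq_self_of_mem hr]
    exact CfsgLib.Coprime.conj_mem_conjBy (mem_zpowers z)
  set e := k0 * z * k0⁻¹ * z'⁻¹ with he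
  have heK : e ∈ fixKer A H := by
    have h1 : z * k0⁻¹ * z⁻¹ ∈ fixKer A H := (mem_normalizer_iff.1
      (normalizer_le_normalizer_fixKer (H := H) A (centralizer_le_normalizer _ hzA)) _).1
      (inv_mem hk0.1)
    rw [show e = k0 * (z * k0⁻¹ * z⁻¹) * k1⁻¹ by rw [he, hk1, hz']; group]
    exact mul_mem (mul_mem hk0.1 h1) (inv_mem hk1K)
  have he1 : e = 1 := by
    by_contra hne
    have hez : e ∈ zpowers z' := mul_mem hk0R (inv_mem (mem_zpowers z'))
    have h1 : zpowers e = zpowers z' := by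
      refine eq_of_le_of_card_ge (zpowers_le.2 hez) ?_
      rw [Nat.card_zpowers, Nat.card_zpowers, hz'o]
      have hd : orderOf e ∣ s := hz'o ▸ (Nat.card_zpowers z') ▸ orderOf_dvd_natCard _ hez
      rcases (Nat.dvd_prime hs.out).1 hd with h2 | h2
      · exact absurd (orderOf_eq_one_iff.1 h2) hne
      · exact h2.ge
    have h2 : z' ∈ fixKer A H := zpowers_le.1 (h1 ▸ zpowers_le.2 heK)
    exact hzK (by rw [show z = k1⁻¹ * z' by rw [hk1, hz']; group]; exact mul_mem (inv_mem hk1K) h2)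
  set q₀ := g * k0 with hq₀
  have hq₀z : Commute q₀ z := by
    have h1 : k0 * z * k0⁻¹ = g⁻¹ * z * g := mul_inv_eq_one.1 he1
    show g * k0 * z = z * (g * k0)
    calc g * k0 * z = g * (k0 * z * k0⁻¹) * k0 := by group
      _ = z * (g * k0) := by rw [h1]; group
  have hq₀P : q₀ ∈ P := mul_mem hg (D.ker_le hk0.1)
  obtain ⟨n, hn2, hnK⟩ := D.exists_two_power hq₀P
  refine ⟨q₀ ^ n, pow_mem (D.le hq₀P).1 n, hn2,
    mem_stabilizer_iff.1 (pow_mem (D.le hq₀P).2 n), ?_, hq₀z.pow_left n⟩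
  calc q₀ ^ n • c = (q₀ * (q₀⁻¹ * q₀ ^ n)) • c := by rw [mul_inv_cancel_left]
    _ = y := by rw [mul_smul, (mem_fixKer.1 hnK).2 c hc, mul_smul, (mem_fixKer.1 hk0.1).2 c hc, hgc]

/-- A nonlonely Sylow subgroup of the part of `M` fixing `c` is Sylow in `M`. -/
theorem sylow_of_lift {B : Subgroup G} (D : LocalData H B a P) (h : Setting H)
    (hc : c ∈ fixSet B H) (hca : c ≠ a) {l : ℕ} [hl : Fact l.Prime] (hl2 : l ≠ 2)
    {L M : Subgroup G} (htwo : ∀ g : G, g • a = a → (∃ i : ℕ, g ^ 2 ^ i = 1) → g ∈ L) {s : ℕ}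
    [hs : Fact s.Prime] {z : G} (hzo : orderOf z = s) (hzB : z ∈ centralizer (B : Set G))
    (hzD : z ∈ L ⊓ pairStab a c) (hzK : z ∉ fixKer B H)
    (hR : IsSylowIn s (zpowers z) (L ⊓ pairStab a c))
    (hMa : M ≤ stabilizer G a) (hMz : ∀ g ∈ M, Commute g z)
    (hMtwo : ∀ g : G, g • a = a → Commute g z → (∃ i : ℕ, g ^ 2 ^ i = 1) → g ∈ M)
    (hB : IsSylowIn l B (M ⊓ pairStab a c)) : IsSylowIn l B M := by
  refine sylowIn_of_normalizer ?_
  obtain ⟨Q, hQ, hBQ⟩ := exists_sylowIn_ge (K := normalizer (B : Set G) ⊓ M) hB.isPGroup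
    (le_inf le_normalizer (hB.1.trans inf_le_left))
  have hzN : zpowers z ≤ normalizer (B : Set G) ⊓ stabilizer G a :=
    zpowers_le.2 ⟨centralizer_le_normalizer _ hzB, hzD.2.1⟩
  obtain ⟨j, hj⟩ := D.ncard_fix_inter h (hB.1.trans (inf_le_right.trans inf_le_left) : a ∈ fixSet B H) hc hca hzN (zpowers_le.2 hzD.2.2)
  obtain ⟨y, ⟨hy, hyz, hya⟩, hyQ⟩ := exists_fixed_of_two_pow hl2 hQ.isPGroup (fun q hq y hy => by
    obtain ⟨hy1, hy2, hy3⟩ := hy
    have hqN : q ∈ normalizer (B : Set G) := (hQ.1 hq).1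
    have hqM : q ∈ M := (hQ.1 hq).2
    refine ⟨smul_mem_fixSet hqN hy1, smul_mem_fixSet (centralizer_le_normalizer _ ?_) hy2,
      fun e => hy3 (smul_left_cancel q (e.trans (mem_stabilizer_iff.1 (hMa hqM)).symm))⟩
    rw [zpowers_eq_closure, centralizer_closure, mem_centralizer_singleton_iff]
    exact (hMz q hqM).eq) hj
  obtain ⟨q, hqB, hq2, hqa, hqc, hqz⟩ := D.exists_lift h hc hca htwo hzo hzB hzD hzK hR hy
    (smul_eq_of_mem hyz (mem_zpowers z)) hya
  have hqM : q ∈ M := hMtwo q hqa hqz hq2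
  have hle : conjBy q⁻¹ Q ≤ M ⊓ pairStab a c := by
    intro k hk
    rw [CfsgLib.Coprime.mem_conjBy, inv_inv] at hk
    have hkM : k ∈ M := by
      have h1 := M.mul_mem (M.mul_mem (M.inv_mem hqM) (hQ.1 hk).2) hqM
      simpa [mul_assoc] using h1
    refine ⟨hkM, hMa hkM, mem_stabilizer_iff.2 ?_⟩
    have h1 := hyQ _ hk
    rw [← hqc, mul_smul, mul_smul, inv_smul_smul] at h1
    exact smul_left_cancel q h1
  have hBle : B ≤ conjBy q⁻¹ Q := fun b hb => by
    rw [CfsgLib.Coprime.mem_conjBy, inv_inv]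
    refine hBQ ?_
    rw [← (mem_centralizer_iff.1 hqB b hb), mul_inv_cancel_right]
    exact hb
  have hQB : Q = B := by
    have h1 := sylowIn_eq_of_le hB (hQ.isPGroup.map _) hle hBle
    refine (eq_of_le_of_card_ge hBQ ?_).symm
    rw [h1, CfsgLib.Coprime.card_conjBy]
  exact hQB ▸ hQ

end LocalData

end CfsgLib.Bender.Full
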