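import Cfsg.Agent.Lib.Bender.Full.CaseNonlonely.RankTwo

/-!
# An elementary group of rank two of a pair has a nonlonely line
-/

set_option autoImplicit false

namespace CfsgLib.Bender.Full

open Subgroup MulAction

universe u

variable {G : Type u} [Group G] [Finite G] {H : Subgroup G}

/-- (RANK) -/
theorem Setting.exists_nonlonely_line (h : Setting H) {a c : G ⧸ H} (hac : a ≠ c) {s : ℕ} [Fact s.Prime]
    (hsm : ¬ s ∣ numInv H) {W : Subgroup G} (hW : W ≤ pairStab a c) [IsMulCommutative W]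
    (hexp : ∀ w ∈ W, w ^ s = 1) (hcard : Nat.card W = s ^ 2) :
    ∃ w ∈ W, w ≠ 1 ∧ Nonlonely (zpowers w) :=
  h.exists_nonlonely_mem hsm hac hW ⟨inferInstance, hexp⟩ hcard

end CfsgLib.Bender.Full
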