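import Cfsg.Agent.Lib.Bender.Full.CaseNonlonely.CaseOne
import Cfsg.Agent.Lib.Bender.Full.CaseNonlonely.CaseTwo

/-!
# A prime not dividing the number of involutions lowers, or its Sylow subgroup is cyclic and lonely
-/

set_option autoImplicit false
set_option linter.style.haveILetI false
set_option linter.unusedSectionVars false

namespace CfsgLib.Bender.Full

open Subgroup MulAction
open CfsgLib.Coprime (IsSylowIn)

universe u

theorem Setting.canLower_or_cyclic {G : Type u} [Group G] [Finite G] {H : Subgroup G} (h : Setting H)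
    {x : G ⧸ H} (hx : x ≠ base H) {L : Subgroup G} (hL : Layer H (pairStab (base H) x) L) {s : ℕ}
    [hs : Fact s.Prime] (hsm : ¬ s ∣ numInv H) {R : Subgroup G}
    (hR : IsSylowIn s R (L ⊓ pairStab (base H) x))
    (hne : ¬ R ≤ ⁅L ⊓ pairStab (base H) x, L ⊓ pairStab (base H) x⁆) :
    CanLower (pairStab (base H) x) L ∨
      (IsCyclic R ∧ ∃ z ∈ R, orderOf z = s ∧ ¬ Nonlonely (zpowers z)) := by
  have hRD : R ≤ pairStab (base H) x := hR.1.trans inf_le_right
  obtain ⟨k, hk⟩ := IsPGroup.iff_card.1 hR.isPGroup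
  have hk0 : k ≠ 0 := fun e => hne ((card_eq_one.1 (by rw [hk, e, pow_zero])).le.trans bot_le)
  have hdvd : s ∣ Nat.card R := hk ▸ dvd_pow_self s hk0
  have hs2 : s ≠ 2 := by
    rintro rfl
    exact Nat.not_even_iff_odd.2 (odd_pairStab h.se hx.symm)
      (even_iff_two_dvd.2 (hdvd.trans (card_dvd_of_le hRD)))
  by_cases hI : ∃ y ∈ R, orderOf y = s ∧ (∀ r ∈ R, Commute y r) ∧ Nonlonely (zpowers y)
  · obtain ⟨y, hy, hys, hcen, hyN⟩ := hI
    exact Or.inl (h.canLower_of_central hx hL hs2 hsm hR hne hy hys hcen hyN)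
  push Not at hI
  by_cases hc : IsCyclic R
  · obtain ⟨z, hz⟩ := exists_prime_orderOf_dvd_card' (G := R) s hdvd
    refine Or.inr ⟨hc, z, z.2, by rwa [orderOf_coe], hI z z.2 (by rwa [orderOf_coe]) fun r hr => ?_⟩
    haveI := hc
    exact congrArg Subtype.val (IsCyclic.isMulCommutative.is_comm.comm z ⟨r, hr⟩)
  · exact Or.inl (h.canLower_of_lonely_centre hx hL hs2 hsm hR hne hc hI)

end CfsgLib.Bender.Full
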