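import Cfsg.Agent.Lib.Bender.Full.Descent

/-!
# The fixed point free case

`Fpf`: non-commuting involutions at the base point and a lonely element `z` of order `s` in a layer
that centralizes no element of prime order dividing the number `m` of involutions.  The `m`-part
`P` of `L ⊓ D` is then nilpotent, normalized by `z` and by the swapper `w` commuting with `z`, and
transitive on the involutions at the base point and on the swappers.
-/

set_option autoImplicit false
set_option linter.style.haveILetI false
set_option linter.unusedSectionVars false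

namespace CfsgLib.Bender.Full

open Subgroup MulAction

universe u

variable {G : Type u} [Group G] [Finite G] {H : Subgroup G}

/-- The data of the fixed point free case. -/
structure Fpf (H : Subgroup G) (x : G ⧸ H) (L P : Subgroup G) (s : ℕ) (z t w : G) : Prop where
  setting : Setting H
  ne : x ≠ base H
  layer : Layer H (pairStab (base H) x) L
  prime : s.Prime
  not_dvd : ¬ s ∣ numInv H
  noncomm : ∃ u ∈ H, ∃ v ∈ H, orderOf u = 2 ∧ orderOf v = 2 ∧ ¬ Commute u v
  z_mem : z ∈ L ⊓ pairStab (base H) x
  z_order : orderOf z = s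
  t_order : orderOf t = 2
  t_mem : t ∈ H
  t_comm : Commute t z
  t_unique : ∀ u ∈ H, orderOf u = 2 → Commute u z → u = t
  w_order : orderOf w = 2
  w_swap : w • base H = x
  w_comm : Commute w z
  fpf : ∀ a ∈ L ⊓ pairStab (base H) x, (orderOf a).Prime → orderOf a ∣ numInv H → ¬ Commute a z
  P_le : P ≤ L ⊓ pairStab (base H) x
  P_pi : ∀ r : ℕ, r.Prime → r ∣ Nat.card P → r ∣ numInv H
  P_hall : ∀ r : ℕ, r.Prime → r ∣ numInv H → ¬ r ∣ P.relIndex (L ⊓ pairStab (base H) x)
  P_nilpotent : Group.IsNilpotent P
  z_norm : z ∈ normalizer (P : Set G)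
  w_norm : w ∈ normalizer (P : Set G)
  z_free : ∀ a ∈ P, Commute a z → a = 1
  trans : ∀ u ∈ H, orderOf u = 2 → ∃ p ∈ P, p * t * p⁻¹ = u
  swap_trans : ∀ v : G, orderOf v = 2 → v • base H = x → ∃ p ∈ P, p * w * p⁻¹ = v

/-- The subgroup generated by the involutions at the base point. -/
def involGen (H : Subgroup G) : Subgroup G :=
  closure {u : G | orderOf u = 2 ∧ u ∈ H}

theorem involGen_le (H : Subgroup G) : involGen H ≤ H :=
  (closure_le _).2 fun _ hu => hu.2

theorem le_normalizer_involGen (H : Subgroup G) : H ≤ normalizer (involGen H : Set G) := by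
  have key : ∀ h ∈ H, (involGen H).map (MulAut.conj h).toMonoidHom ≤ involGen H := by
    intro h hh
    rw [involGen, MonoidHom.map_closure]
    refine Subgroup.closure_mono ?_
    rintro _ ⟨u, ⟨hu, huH⟩, rfl⟩
    exact ⟨CfsgLib.Invol.invol_conj hu h, H.mul_mem (H.mul_mem hh huH) (H.inv_mem hh)⟩
  intro h hh
  exact mem_normalizer_iff.2 fun g => ⟨fun hg => key h hh ⟨g, hg, rfl⟩, fun hg => by
    simpa [mul_assoc] using key h⁻¹ (inv_mem hh) ⟨_, hg, rfl⟩⟩

theorem Layer.involGen_le {H D L : Subgroup G} (hL : Layer H D L) : involGen H ≤ L := by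
  refine (closure_le _).2 fun u hu => hL.two (CfsgLib.Bender.Transfer.mem_twoGen hu.2 ⟨1, ?_⟩)
  rw [pow_one, ← hu.1, pow_orderOf_eq_one]

end CfsgLib.Bender.Full
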