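import Cfsg.Agent.Lib.Bender.Full.Local
import Cfsg.Agent.Lib.Bender.OddQuot.Field
import Mathlib.FieldTheory.Galois.Basic

/-!
# A lonely element acts as a generator of the field automorphisms

`A` a non-trivial `p`-group with two commuting involutions in its centralizer, fixing `a`; a group `R`
normalizing `A` and fixing two points, with an element `z` of order `s` centralizing exactly one
involution `t` at `a`.  Then `|R| = s`, `A` centralizes `2 ^ s - 1` involutions at `a`, and elements
commuting with `t` of order prime to `s` centralize all of them.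
-/

set_option autoImplicit false
set_option linter.style.haveILetI false
set_option linter.unusedSectionVars false

namespace CfsgLib.Bender.Full

open Subgroup MulAction
open CfsgLib.Invol (fixed_unique invol_conj invol_smul_smul invol_inv invol_mul_self invol_ne_one)
open CfsgLib.Bender.OddQuot (Semilin exists_semilin)

universe u

variable {G : Type u} [Group G] [Finite G] {H : Subgroup G}

/-- The group generated by the involutions of `C(A)` fixing `a`. -/
def invGroup (A : Subgroup G) (a : G ⧸ H) : Subgroup G :=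
  closure {u : G | orderOf u = 2 ∧ u ∈ centralizer (A : Set G) ∧ u • a = a}

namespace LocalData

variable {A P : Subgroup G} {a c : G ⧸ H} {p : ℕ} [hp : Fact p.Prime]
variable (D : LocalData H A a P) (h : Setting H) (ha : a ∈ fixSet A H) (hc : c ∈ fixSet A H)
  (hca : c ≠ a) (h3 : 2 < (fixSet A H).ncard) (hA : IsPGroup p A)
include D h ha hc hca h3 hA hp

theorem invGroup_spec {g : G} (hg : g ∈ invGroup A a) :
    g ∈ centralizer (A : Set G) ∧ g • a = a ∧ g * g = 1 ∧
      ∀ u : G, orderOf u = 2 → u ∈ centralizer (A : Set G) → u • a = a → Commute g u := by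
  induction hg using closure_induction with
  | mem g hg =>
    exact ⟨hg.2.1, hg.2.2, invol_mul_self hg.1, fun u hu huA hua =>
      D.commute_invol_invol h ha hc hca h3 hA hg.1 hg.2.1 hg.2.2 hu huA hua⟩
  | one => exact ⟨one_mem _, one_smul _ _, mul_one _, fun u _ _ _ => Commute.one_left u⟩
  | mul g k hg hk ihg ihk =>
    have hgk : Commute g k := by
      have : k ∈ centralizer ({g} : Set G) := (closure_le (K := centralizer ({g} : Set G))).2
        (fun u hu => mem_centralizer_singleton_iff.2 (ihg.2.2.2 u hu.1 hu.2.1 hu.2.2).eq.symm) hk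
      exact (mem_centralizer_singleton_iff.1 this).symm
    refine ⟨mul_mem ihg.1 ihk.1, by rw [mul_smul, ihk.2.1, ihg.2.1], ?_, fun u hu huA hua =>
      (ihg.2.2.2 u hu huA hua).mul_left (ihk.2.2.2 u hu huA hua)⟩
    rw [show g * k * (g * k) = g * (k * g) * k by group, ← hgk.eq,
      show g * (g * k) * k = g * g * (k * k) by group, ihg.2.2.1, ihk.2.2.1, one_mul]
  | inv g hg ih =>
    have e : g⁻¹ = g := inv_eq_of_mul_eq_one_right ih.2.2.1
    rw [e]
    exact ih

theorem isMulCommutative_invGroup : IsMulCommutative (invGroup A a) :=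
  ⟨⟨fun g k => Subtype.ext (by
    have : (k : G) ∈ centralizer ({(g : G)} : Set G) :=
      (closure_le (K := centralizer ({(g : G)} : Set G))).2
        (fun u hu => mem_centralizer_singleton_iff.2
          ((D.invGroup_spec h ha hc hca h3 hA g.2).2.2.2 u hu.1 hu.2.1 hu.2.2).eq.symm) k.2
    exact (mem_centralizer_singleton_iff.1 this).symm)⟩⟩

theorem invGroup_mem_invol {g : G} (hg : g ∈ invGroup A a) (hg1 : g ≠ 1) :
    orderOf g = 2 ∧ g ∈ centralizer (A : Set G) ∧ g • a = a :=
  ⟨CfsgLib.Invol.invol_iff.2 ⟨(D.invGroup_spec h ha hc hca h3 hA hg).2.2.1, hg1⟩,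
    (D.invGroup_spec h ha hc hca h3 hA hg).1, (D.invGroup_spec h ha hc hca h3 hA hg).2.1⟩

/-- The lonely element generates the field automorphisms. -/
theorem galois (hN : Nonlonely A) {t : G} (ht : orderOf t = 2) (htA : t ∈ centralizer (A : Set G))
    (hta : t • a = a) {s : ℕ} [Fact s.Prime] {R : Subgroup G}
    (hR : R ≤ normalizer (A : Set G) ⊓ pairStab a c) (hRt : R ≤ centralizer ({t} : Set G))
    {z : G} (hz : z ∈ R) (hzo : orderOf z = s)
    (hlon : ∀ u : G, orderOf u = 2 → u • a = a → Commute u z → u = t)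
    (hfree : ∀ r ∈ R, r ≠ 1 → ∃ u : G, orderOf u = 2 ∧ u ∈ centralizer (A : Set G) ∧ u • a = a ∧
      ¬ Commute u r) :
    Nat.card R = s ∧
      Nat.card {u : G // orderOf u = 2 ∧ u ∈ centralizer (A : Set G) ∧ u • a = a} = 2 ^ s - 1 ∧
      ∀ g ∈ normalizer (A : Set G) ⊓ pairStab a c, Commute g t →
        (orderOf g).Coprime s →
        ∀ u : G, orderOf u = 2 → u ∈ centralizer (A : Set G) → u • a = a → Commute g u := by
  classical
  set E := invGroup A a with hE
  haveI : IsMulCommutative E := D.isMulCommutative_invGroup h ha hc hca h3 hA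
  set M := normalizer (A : Set G) ⊓ pairStab a c with hM
  have hMn : M ≤ normalizer (E : Set G) := by
    have key : ∀ m ∈ M, E.map (MulAut.conj m).toMonoidHom ≤ E := by
      rintro m ⟨hmN, hma, -⟩
      rw [hE, invGroup, MonoidHom.map_closure]
      refine Subgroup.closure_mono ?_
      rintro _ ⟨u, ⟨hu, huA, hua⟩, rfl⟩
      refine ⟨invol_conj hu m, (mem_normalizer_iff.1
        (CfsgLib.Coprime.normalizer_le_normalizer_centralizer _ hmN) u).1 huA, ?_⟩
      show (m * u * m⁻¹) • a = a
      have hma' : m⁻¹ • a = a := by rw [inv_smul_eq_iff, mem_stabilizer_iff.1 hma]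
      rw [mul_smul, mul_smul, hma', hua, mem_stabilizer_iff.1 hma]
    intro m hm
    exact mem_normalizer_iff.2 fun x => ⟨fun hx => key m hm ⟨x, hx, rfl⟩, fun hx => by
      simpa [mul_assoc] using key m⁻¹ (inv_mem hm) ⟨_, hx, rfl⟩⟩
  set act : M →* MulAut E := E.normalizerMonoidHom.comp (Subgroup.inclusion hMn) with hact
  have hactv : ∀ (m : M) (v : E), ((act m v : E) : G) = (m : G) * v * (m : G)⁻¹ := fun m v => rfl
  have hfix : ∀ (m : M) (v : E), act m v = v ↔ Commute (m : G) v := fun m v => by
    rw [← Subtype.coe_inj, hactv, mul_inv_eq_iff_eq_mul]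
    exact Iff.rfl
  have htE : t ∈ E := subset_closure ⟨ht, htA, hta⟩
  set t' : E := ⟨t, htE⟩
  have ht1 : t' ≠ 1 := fun e => invol_ne_one ht (congrArg Subtype.val e)
  have hexp : ∀ v : E, v * v = 1 := fun v =>
    Subtype.ext (D.invGroup_spec h ha hc hca h3 hA v.2).2.2.1
  have htrans : ∀ v : E, v ≠ 1 → ∃ m : M, act m t' = v := by
    intro v hv
    obtain ⟨hvo, hvA, hva⟩ := D.invGroup_mem_invol h ha hc hca h3 hA v.2
      (fun e => hv (Subtype.ext e))
    obtain ⟨d, hdA, hd, hdt⟩ := D.exists_conj_invol h hc hca h3 hA ha ht htA hta hvo hvA hva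
    exact ⟨⟨d, centralizer_le_normalizer _ hdA, hd⟩, Subtype.ext hdt⟩
  have hModd : Odd (Nat.card M) :=
    (odd_pairStab h.se hca.symm).of_dvd_nat (card_dvd_of_le inf_le_right)
  letI : CommGroup E := { (E.toGroup : Group E) with
    mul_comm := fun x y => mul_comm' x y }
  obtain ⟨S⟩ := exists_semilin (M := M) (E := E) hModd hexp act ht1 htrans
  have hgfix : ∀ (m : M), Commute (m : G) t → ∀ v : E, Commute (m : G) v ↔
      S.gal m (S.e (Additive.ofMul v)) = S.e (Additive.ofMul v) := fun m hm v => by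
    rw [← hfix]
    exact S.fixes_iff ((hfix m t').2 hm) v
  set z' : M := ⟨z, hR hz⟩
  have hzt : Commute z t := mem_centralizer_singleton_iff.1 (hRt hz)
  haveI : IsGalois (ZMod 2) S.F := inferInstance
  set G0 := zpowers (S.gal z')
  have hff : IntermediateField.fixedField G0 = ⊥ := by
    refine le_bot_iff.1 fun x hx => ?_
    obtain ⟨v, rfl⟩ := S.e.surjective x
    have h1 : Commute z (v.toMul : E) := (hgfix z' hzt v.toMul).2
      (hx ⟨S.gal z', mem_zpowers _⟩)
    rcases eq_or_ne (v.toMul : E) 1 with e | e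
    · have hv0 : S.e v = 0 := S.e_eq_zero.2 e
      rw [hv0]
      exact zero_mem _
    · obtain ⟨hvo, -, hva⟩ := D.invGroup_mem_invol h ha hc hca h3 hA (v.toMul).2
        (fun e' => e (Subtype.ext e'))
      have hvt : (v.toMul : E) = t' := Subtype.ext (hlon _ hvo hva h1.symm)
      have hv1 : S.e v = 1 := (congrArg (fun w : E => S.e (Additive.ofMul w)) hvt).trans S.et
      rw [hv1]
      exact one_mem _
  have hgen : G0 = ⊤ := by
    rw [← IntermediateField.fixingSubgroup_fixedField G0, hff]
    exact IntermediateField.fixingSubgroup_bot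
  obtain ⟨u₀, v₀, hu₀, hv₀, huv, -, hu₀A, hv₀A, hu₀a, hv₀a⟩ := h.exists_two_at hN ht htA hta
  have hord : orderOf (S.gal z') = s := by
    have hdvd : orderOf (S.gal z') ∣ s := (orderOf_map_dvd S.gal z').trans (by
      rw [show orderOf z' = s from (Subgroup.orderOf_coe z').symm.trans hzo])
    refine ((Nat.dvd_prime Fact.out).1 hdvd).resolve_left fun e => ?_
    rw [orderOf_eq_one_iff] at e
    have key : ∀ u : G, orderOf u = 2 → u ∈ centralizer (A : Set G) → u • a = a → u = t :=
      fun u hu huA hua => hlon u hu hua ((hgfix z' hzt ⟨u, subset_closure ⟨hu, huA, hua⟩⟩).2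
        (by rw [e]; rfl)).symm
    exact huv ((key u₀ hu₀ hu₀A hu₀a).trans (key v₀ hv₀ hv₀A hv₀a).symm)
  have hGcard : Nat.card (S.F ≃ₐ[ZMod 2] S.F) = s := by
    rw [← Subgroup.card_top, ← hgen, Nat.card_zpowers, hord]
  refine ⟨?_, ?_, ?_⟩
  · let f : R →* (S.F ≃ₐ[ZMod 2] S.F) := S.gal.comp (Subgroup.inclusion hR)
    have hinj : Function.Injective f := (injective_iff_map_eq_one f).2 fun r hr => by
      by_contra hr1
      obtain ⟨u, hu, huA, hua, hur⟩ := hfree r r.2 fun e => hr1 (Subtype.ext e)
      refine hur ((hgfix (Subgroup.inclusion hR r) (mem_centralizer_singleton_iff.1 (hRt r.2))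
        ⟨u, subset_closure ⟨hu, huA, hua⟩⟩).2 ?_).symm
      rw [show S.gal (Subgroup.inclusion hR r) = 1 from hr]
      rfl
    refine ((Nat.dvd_prime Fact.out).1 (hGcard ▸ card_dvd_of_injective f hinj)).resolve_left ?_
    intro e
    have : z = 1 := (eq_bot_iff_forall R).1 (Subgroup.card_eq_one.1 e) z hz
    rw [this, orderOf_one] at hzo
    exact (Fact.out : s.Prime).ne_one hzo.symm
  · have hF : Nat.card E = 2 ^ s := by
      have hr : Module.finrank (ZMod 2) S.F = s := by
        rw [← IsGalois.card_aut_eq_finrank, hGcard]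
      rw [Nat.card_congr (Additive.ofMul.trans S.e.toEquiv),
        Module.natCard_eq_pow_finrank (K := ZMod 2), Nat.card_zmod, hr]
    have e : {u : G // orderOf u = 2 ∧ u ∈ centralizer (A : Set G) ∧ u • a = a} ≃
        {v : E // v ≠ 1} :=
      { toFun := fun u => ⟨⟨u, subset_closure u.2⟩, fun e =>
          invol_ne_one u.2.1 (congrArg Subtype.val e)⟩
        invFun := fun v => ⟨v.1, D.invGroup_mem_invol h ha hc hca h3 hA v.1.2
          fun e => v.2 (Subtype.ext e)⟩
        left_inv := fun u => rfl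
        right_inv := fun v => rfl }
    haveI : Fintype E := Fintype.ofFinite _
    rw [Nat.card_congr e, Nat.card_eq_fintype_card, Fintype.card_subtype_compl,
      Fintype.card_subtype_eq, ← Nat.card_eq_fintype_card, hF]
  · intro g hg hgt hgs u hu huA hua
    refine (hgfix ⟨g, hg⟩ hgt ⟨u, subset_closure ⟨hu, huA, hua⟩⟩).2 ?_
    have h1 : orderOf (S.gal ⟨g, hg⟩) ∣ orderOf g :=
      (orderOf_map_dvd S.gal _).trans (by rw [orderOf_mk])
    have h2 : orderOf (S.gal ⟨g, hg⟩) ∣ s := hGcard ▸ orderOf_dvd_natCard _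
    rw [orderOf_eq_one_iff.1 (Nat.eq_one_of_dvd_coprimes hgs h1 h2)]
    rfl

end LocalData

end CfsgLib.Bender.Full
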