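import Cfsg.Agent.Lib.Char.Orthogonality
import Cfsg.Agent.Lib.Char.Integrality
import Mathlib.GroupTheory.Subgroup.Simple

/-!
# Column orthogonality against Burnside's lemma

In a nonabelian simple group two non-conjugate non-identity elements `t, v` with the class of `v`
of size prime to `q` admit a nontrivial irreducible character non-zero on both; hence if every
irreducible character of degree divisible by a prime `r ≠ q` dividing the class of `t` vanishes at
`v`, we have a contradiction.
-/

set_option autoImplicit false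
set_option linter.style.haveILetI false

open scoped ComplexConjugate

namespace CfsgLib.Bender.Full

open Subgroup Cfsg CfsgLib.Char

universe u

variable {N : Type u} [Group N] [Finite N]

/-- Burnside: a nontrivial irreducible character of a nonabelian simple group vanishes at a
non-identity element whose class has size prime to its degree. -/
theorem char_eq_zero_of_coprime_class [IsSimpleGroup N] (hna : ¬ IsMulCommutative N)
    (χ : Cfsg.IrrCharacter N) (hχ : ∃ g, (χ : N → ℂ) g ≠ 1) {g : N} (hg : g ≠ 1) {d : ℕ}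
    (hd : (χ : N → ℂ) 1 = d) (hcop : d.Coprime (centralizer ({g} : Set N)).index) :
    (χ : N → ℂ) g = 0 := by
  obtain ⟨χ, k, ρ, hρ, rfl⟩ := χ
  simp only at hχ hd ⊢
  have hk : d = k := by
    rw [Representation.char_one, Module.finrank_fin_fun] at hd
    exact_mod_cast hd.symm
  refine (char_zero_or_norm_eq_degree ρ g (by rwa [Module.finrank_fin_fun, ← hk])).resolve_right
    fun hnorm => hg ?_
  obtain ⟨ω, hω⟩ := (norm_char_eq_iff ρ g).mp hnorm
  -- the kernel is trivial
  have hker : ρ.ker = ⊥ := by
    refine (Subgroup.Normal.eq_bot_or_eq_top (MonoidHom.normal_ker ρ)).resolve_right fun htop => ?_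
    have hone : ∀ x, ρ x = 1 := fun x => MonoidHom.mem_ker.1 (htop ▸ mem_top x)
    have hval : ∀ x, ρ.character x = (k : ℂ) := fun x => by
      have h1 : ρ.character x = ρ.character 1 := by
        show LinearMap.trace ℂ _ (ρ x) = LinearMap.trace ℂ _ (ρ 1)
        rw [hone x, hone 1]
      rw [h1, Representation.char_one, Module.finrank_fin_fun]
    obtain ⟨x, hx⟩ := hχ
    apply hx
    -- a trivial irreducible representation has degree one
    haveI := Fintype.ofFinite N
    have h1 := classInner_irr_self (G := N) ⟨_, k, ρ, hρ, rfl⟩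
    rw [classInner] at h1
    simp only [hval, map_natCast, Finset.sum_const, Finset.card_univ, nsmul_eq_mul,
      Nat.card_eq_fintype_card] at h1
    rw [← mul_assoc, inv_mul_cancel₀ (by exact_mod_cast Fintype.card_ne_zero), one_mul] at h1
    have hk1 : k = 1 := by
      have : k * k = 1 := by exact_mod_cast h1
      exact Nat.eq_one_of_mul_eq_one_left this
    rw [hval, hk1, Nat.cast_one]
  have hinj : Function.Injective ρ := (MonoidHom.ker_eq_bot_iff _).1 hker
  have hz : g ∈ center N := mem_center_iff.2 fun x => hinj (by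
    rw [map_mul, map_mul, hω]
    exact LinearMap.ext fun v => by simp)
  rcases Subgroup.Normal.eq_bot_or_eq_top (inferInstance : (center N).Normal) with h | h
  · rwa [h, mem_bot] at hz
  · exact absurd ⟨⟨fun a b => mem_center_iff.1 (h ▸ mem_top b) a⟩⟩ hna

/-- Column orthogonality of `t` and `v` contradicts vanishing at `v` in every degree divisible by
a prime other than `q` dividing the class of `t`. -/
theorem false_of_column [IsSimpleGroup N] (hna : ¬ IsMulCommutative N) {t v : N} (ht : t ≠ 1)
    (htv : ¬ IsConj t v) {q : ℕ} (hq : q.Prime)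
    (hqv : ¬ q ∣ (centralizer ({v} : Set N)).index)
    (hvan : ∀ r : ℕ, r.Prime → r ≠ q → r ∣ (centralizer ({t} : Set N)).index →
      ∀ (χ : Cfsg.IrrCharacter N) (d : ℕ), (χ : N → ℂ) 1 = d → r ∣ d → (χ : N → ℂ) v = 0) :
    False := by
  classical
  haveI := Fintype.ofFinite N
  haveI := Fintype.ofFinite (Cfsg.IrrCharacter N)
  let one : Cfsg.IrrCharacter N := ⟨fun _ => 1, isIrrCharacter_one⟩
  have key : ∀ χ : Cfsg.IrrCharacter N, χ ≠ one →
      ∃ z : ℂ, IsIntegral ℤ z ∧ (χ : N → ℂ) t * conj ((χ : N → ℂ) v) = q * z := by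
    intro χ hχ
    by_cases h0 : (χ : N → ℂ) t * conj ((χ : N → ℂ) v) = 0
    · exact ⟨0, isIntegral_zero, by rw [h0, mul_zero]⟩
    rw [mul_eq_zero, map_eq_zero] at h0
    push Not at h0
    obtain ⟨d, hd⟩ := isCharacter_degree (isCharacter_irr χ)
    have hnon : ∃ g, (χ : N → ℂ) g ≠ 1 := by
      by_contra hall
      push Not at hall
      exact hχ (Subtype.ext (funext hall))
    have hncop : ¬ d.Coprime (centralizer ({t} : Set N)).index := fun hc =>
      h0.1 (char_eq_zero_of_coprime_class hna χ hnon ht hd hc)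
    obtain ⟨r, hr, hrd, hrt⟩ := Nat.Prime.not_coprime_iff_dvd.1 hncop
    have hrq : r = q := by
      by_contra hne
      exact h0.2 (hvan r hr hne hrt χ d hd hrd)
    obtain ⟨d', hd'⟩ : q ∣ d := hrq ▸ hrd
    -- the value at `v` is divisible by `q`
    have hω := isIntegral_omega χ v
    rw [omega, card_isConj, hd] at hω
    have hcop : Int.gcd ((centralizer ({v} : Set N)).index : ℤ) (q : ℤ) = 1 := by
      rw [Int.gcd_natCast_natCast]
      exact Nat.coprime_comm.1 (hq.coprime_iff_not_dvd.2 hqv)
    obtain ⟨a, b, hab⟩ := Int.isCoprime_iff_gcd_eq_one.2 hcop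
    have hd0 : (d : ℂ) ≠ 0 := hd ▸ irr_one_ne_zero χ
    have hq0 : (q : ℂ) ≠ 0 := by exact_mod_cast hq.ne_zero
    set c : ℂ := ((centralizer ({v} : Set N)).index : ℂ) with hc
    have hdiv : IsIntegral ℤ ((χ : N → ℂ) v / q) := by
      have e : (χ : N → ℂ) v / q =
          (a : ℂ) * ((d' : ℂ) * (c * (χ : N → ℂ) v / d)) + (b : ℂ) * (χ : N → ℂ) v := by
        have hab' : (a : ℂ) * c + (b : ℂ) * q = 1 := by
          rw [hc]; exact_mod_cast hab
        have hdd : (d : ℂ) = q * d' := by exact_mod_cast hd'
        rw [hdd] at hd0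
        have hd'0 : (d' : ℂ) ≠ 0 := right_ne_zero_of_mul hd0
        rw [hdd]
        field_simp
        linear_combination -(χ : N → ℂ) v * hab'
      rw [e]
      exact ((isIntegral_algebraMap (x := a)).mul ((isIntegral_algebraMap (x := (d' : ℤ))).mul hω)).add
        ((isIntegral_algebraMap (x := b)).mul (isCharacter_isIntegral (isCharacter_irr χ) v))
    refine ⟨(χ : N → ℂ) t * conj ((χ : N → ℂ) v / q),
      (isCharacter_isIntegral (isCharacter_irr χ) t).mul (hdiv.map (starRingEnd ℂ).toIntAlgHom), ?_⟩
    rw [map_div₀, map_natCast]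
    field_simp
  choose! z hzint hz using key
  have hsum := sum_irr_mul_conj t v
  rw [if_neg htv, ← Finset.add_sum_erase _ _ (Finset.mem_univ one)] at hsum
  simp only [one, map_one, mul_one] at hsum
  rw [Finset.sum_congr rfl fun χ hχ => hz χ (Finset.ne_of_mem_erase hχ), ← Finset.mul_sum] at hsum
  set S : ℂ := ∑ χ ∈ Finset.univ.erase one, z χ with hS
  have hSint : IsIntegral ℤ S := IsIntegral.sum _ fun χ hχ => hzint χ (Finset.ne_of_mem_erase hχ)
  have hq0 : (q : ℂ) ≠ 0 := by exact_mod_cast hq.ne_zero
  have hSq : S = algebraMap ℚ ℂ (-1 / (q : ℚ)) := by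
    rw [map_div₀, map_neg, map_one, map_natCast, eq_div_iff hq0]
    linear_combination hsum
  rw [hSq, isIntegral_algebraMap_iff (algebraMap ℚ ℂ).injective,
    IsIntegrallyClosed.isIntegral_iff] at hSint
  obtain ⟨m, hm⟩ := hSint
  rw [eq_intCast, eq_div_iff (by exact_mod_cast hq.ne_zero)] at hm
  have hm' : m * (q : ℤ) = -1 := by exact_mod_cast hm
  have : (q : ℤ) ∣ 1 := ⟨-m, by linear_combination hm'⟩
  exact hq.not_dvd_one (Int.natCast_dvd_natCast.1 this)

end CfsgLib.Bender.Full
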