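import Cfsg.Agent.Lib.Bender.Full.Tools

/-!
# Three-fixers for a prime dividing the number of involutions have two commuting involutions

`Setting.nonlonely_of_dvd`: a `p`-group fixing three points, `p` dividing the number of involutions of
a point stabilizer, is centralized by two commuting involutions.
-/

set_option autoImplicit false
set_option linter.style.haveILetI false
set_option linter.unusedSectionVars false

namespace CfsgLib.Bender.Full

open Subgroup MulAction
open CfsgLib.Coprime (IsSylowIn conjBy)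
open CfsgLib.Invol (fixed_unique invol_conj invol_smul_smul invol_inv invol_mul_self)

universe u

variable {G : Type u} [Group G] [Finite G] {H : Subgroup G} {p : ℕ} [hp : Fact p.Prime]

include hp in
theorem sylowIn_inf_of_two {K P : Subgroup G} {a c : G ⧸ H} (hP : IsSylowIn p P (K ⊓ pairStab a c))
    (hac : a ≠ c) (htwo : ∀ z ∈ fixSet P H, z = a ∨ z = c) :
    IsSylowIn p P (K ⊓ stabilizer G a) := by
  have hle : P ≤ normalizer (P : Set G) ⊓ (K ⊓ stabilizer G a) :=
    le_inf le_normalizer (hP.1.trans (inf_le_inf_left _ inf_le_left))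
  refine sylowIn_of_normalizer ⟨hle, le_antisymm (isPGroup_card_le hP.isPGroup hle) ?_⟩
  rw [hP.2]
  refine Nat.pow_le_pow_right hp.out.pos ?_
  refine (Nat.factorization_le_iff_dvd Nat.card_pos.ne' Nat.card_pos.ne').2 (card_dvd_of_le ?_) p
  rintro g ⟨hgN, hgK, hga⟩
  refine ⟨hgK, hga, mem_stabilizer_iff.2 ?_⟩
  rcases htwo (g • c) (smul_mem_fixSet hgN (hP.1.trans (inf_le_right.trans inf_le_right))) with e | e
  · exact absurd (smul_left_cancel g (e.trans (mem_stabilizer_iff.1 hga).symm)) hac.symm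
  · exact e

include hp in
theorem ne_two_of_dvd (hH : Cfsg.IsStronglyEmbedded H) (hpm : p ∣ numInv H) {a c : G ⧸ H}
    (hac : a ≠ c) : p ≠ 2 := by
  rintro rfl
  obtain ⟨t, ht, hta⟩ := CfsgLib.Invol.exists_invol_fixing hH a
  have h1 : numInv H ∣ Nat.card (pairStab a c) :=
    relIndex_fix hH hac ht hta ▸ relIndex_dvd_card (centralizer ({t} : Set G)) (pairStab a c)
  exact Nat.not_even_iff_odd.2 (odd_pairStab hH hac) (even_iff_two_dvd.2 (hpm.trans h1))

namespace Setting

variable (h : Setting H)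
include h hp

/-- (PI) A `p`-group fixing three points has two commuting involutions in its centralizer. -/
theorem nonlonely_of_dvd (hpm : p ∣ numInv H) {A : Subgroup G} (hA : IsPGroup p A) {a : G ⧸ H}
    (ha : a ∈ fixSet A H) (h3 : 2 < (fixSet A H).ncard) : Nonlonely A := by
  classical
  by_contra hlon
  obtain ⟨Q, ⟨hQ, hAQ, haQ, hQ3⟩, hmax⟩ : ∃ Q : Subgroup G,
      (IsPGroup p Q ∧ A ≤ Q ∧ a ∈ fixSet Q H ∧ 2 < (fixSet Q H).ncard) ∧
      ∀ S : Subgroup G, IsPGroup p S → Q ≤ S → a ∈ fixSet S H → 2 < (fixSet S H).ncard →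
        S ≤ Q := by
    obtain ⟨Q, -, hQ⟩ := exists_maximal_ge_of_wellFoundedGT
      (fun Q : Subgroup G => IsPGroup p Q ∧ A ≤ Q ∧ a ∈ fixSet Q H ∧ 2 < (fixSet Q H).ncard) A
      ⟨hA, le_rfl, ha, h3⟩
    exact ⟨Q, hQ.prop, fun S hS hQS haS hS3 =>
      hQ.le_of_ge ⟨hS, hQ.prop.2.1.trans hQS, haS, hS3⟩ hQS⟩
  obtain ⟨c, hc, hca⟩ := Set.exists_ne_of_one_lt_ncard (show 1 < (fixSet Q H).ncard by omega) a
  have hp2 : p ≠ 2 := ne_two_of_dvd h.se hpm hca.symm
  set L := normalizer (Q : Set G) with hLdef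
  -- `N(Q)` is lonely
  have hL : Lonely L := fun v hv w hw hvo hwo hvw => by
    by_contra hne
    obtain ⟨d, hd, hvd, hwd⟩ :=
      exists_fixed_of_pair h.se (odd_card_of_isPGroup hp2 hQ) hvo hwo hne hvw hv hw
    obtain ⟨e, he, hed⟩ := Set.exists_ne_of_one_lt_ncard (show 1 < (fixSet Q H).ncard by omega) d
    exact hlon (Nonlonely.mono hAQ (nonlonely_iff.2 ⟨v, w, hvo, hwo, hne, hvw,
      h.mem_centralizer_of_normalize hvo hvd hed (le_inf hd he) hv,
      h.mem_centralizer_of_normalize hwo hwd hed (le_inf hd he) hw⟩))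
  obtain ⟨R, hR, hQR⟩ := exists_sylowIn_ge (K := pairStab a c) hQ (le_inf haQ hc)
  have hne : ¬ R ≤ Q := fun hle => by
    obtain rfl := le_antisymm hle hQR
    obtain ⟨z, hz, hza, hzc⟩ : ∃ z ∈ fixSet R H, z ≠ a ∧ z ≠ c := by
      obtain ⟨e, f, g, he, hf, hg, hef, heg, hfg⟩ := (Set.two_lt_ncard_iff (Set.toFinite _)).1 hQ3
      by_contra hcon
      push Not at hcon
      have k1 := hcon e he
      have k2 := hcon f hf
      have k3 := hcon g hg
      by_cases q1 : e = a <;> by_cases q2 : f = a <;> by_cases q3 : g = a <;> simp_all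
    exact (h.two_of_dvd hpm hca.symm hR hz).elim hza hzc
  obtain ⟨y, hyR, hyN, hyQ⟩ := CfsgLib.Invol.exists_mem_normalizer_notMem hR.isPGroup hQR hne
  obtain ⟨R2, hR2, hRR2⟩ := exists_sylowIn_ge (r := p) (K := L ⊓ pairStab a c) (P := R ⊓ L)
    (hR.isPGroup.to_le inf_le_left) (le_inf inf_le_right (inf_le_left.trans hR.1))
  have htwo : ∀ z ∈ fixSet R2 H, z = a ∨ z = c := by
    intro z hz
    by_contra hcon
    push Not at hcon
    refine hyQ (hmax (R ⊓ L) (hR.isPGroup.to_le inf_le_left) (le_inf hQR le_normalizer)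
      (inf_le_left.trans (hR.1.trans inf_le_left)) ?_ ⟨hyR, hyN⟩)
    exact (Set.two_lt_ncard_iff (Set.toFinite _)).2 ⟨a, c, z,
      inf_le_left.trans (hR.1.trans inf_le_left), inf_le_left.trans (hR.1.trans inf_le_right),
      hRR2.trans hz, hca.symm, Ne.symm hcon.1, Ne.symm hcon.2⟩
  have hR2c : IsSylowIn p R2 (L ⊓ stabilizer G c) := by
    refine sylowIn_inf_of_two (c := a) ?_ hca fun z hz => (htwo z hz).symm
    rwa [pairStab, inf_comm (stabilizer G c)]
  -- an element of the odd core mapping `a` to `c`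
  obtain ⟨t, ht, hta, htC⟩ := h.exists_invol_centralizing hQ haQ hQ3
  obtain ⟨u, hu, huc, huC⟩ := h.exists_invol_centralizing hQ hc hQ3
  obtain ⟨g, hg, hga⟩ := exists_zpowers_map h.se ht hu hta huc
  set O := coreOf L
  have hgO : g ∈ O := zpowers_le.2 (mul_mem_coreOf hL (centralizer_le_normalizer _ htC)
    (centralizer_le_normalizer _ huC) ht hu) hg
  set Y := O ⊔ R2 with hY
  have hR2L : R2 ≤ L := hR2.1.trans inf_le_left
  have hYL : Y ≤ L := sup_le (coreOf_le L) hR2L
  have hYodd : Odd (Nat.card Y) := by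
    have hdvd : Nat.card Y ∣ Nat.card R2 * Nat.card O := by
      rw [hY, sup_comm]
      exact CfsgLib.Coprime.card_sup_dvd_of_le_normalizer (hR2L.trans (le_normalizer_coreOf L))
    exact ((odd_card_of_isPGroup hp2 hR2.isPGroup).mul (odd_coreOf L)).of_dvd_nat hdvd
  have hle : R2 ≤ Y ⊓ stabilizer G c := le_inf le_sup_right (hR2c.1.trans inf_le_right)
  have hR2Y : IsSylowIn p R2 (Y ⊓ stabilizer G c) := by
    refine ⟨hle, le_antisymm (isPGroup_card_le hR2c.isPGroup hle) ?_⟩
    rw [hR2c.2]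
    exact Nat.pow_le_pow_right hp.out.pos ((Nat.factorization_le_iff_dvd Nat.card_pos.ne'
      Nat.card_pos.ne').2 (card_dvd_of_le (inf_le_inf_right _ hYL)) p)
  have hgR : conjBy g R2 ≤ Y ⊓ stabilizer G c := by
    refine le_inf ?_ (hga ▸ conjBy_le_stabilizer g (hR2.1.trans (inf_le_right.trans inf_le_left)))
    exact (map_mono (le_sup_right : R2 ≤ Y)).trans
      (CfsgLib.Coprime.conjBy_eq_self_iff.2 (le_normalizer (mem_sup_left hgO : g ∈ Y))).le
  obtain ⟨k, hk, hkR⟩ := exists_conjBy_le (hR2.isPGroup.map _) hgR hR2Y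
  rw [CfsgLib.Coprime.conjBy_conjBy] at hkR
  have hkR' : conjBy (k * g) R2 = R2 :=
    eq_of_le_of_card_ge hkR (CfsgLib.Coprime.card_conjBy _ _).ge
  set e := k * g with he
  have hea : e • a = c := by rw [he, mul_smul, hga, mem_stabilizer_iff.1 hk.2]
  have hec : e • c = a := by
    have hb' : e • c ∈ fixSet R2 H :=
      hkR' ▸ conjBy_le_stabilizer e (hR2.1.trans (inf_le_right.trans inf_le_right))
    rcases htwo _ hb' with e1 | e1
    · exact e1
    · exact absurd (smul_left_cancel e (hea.trans e1.symm)) hca.symm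
  obtain ⟨j, hj⟩ := (hYodd.of_dvd_nat (Subgroup.orderOf_dvd_natCard Y
    (x := e) (mul_mem hk.1 (mem_sup_left hgO))) : Odd (orderOf e))
  have h2 : e ^ 2 ∈ stabilizer G a := by
    rw [mem_stabilizer_iff, pow_two, mul_smul, hea, hec]
  refine hca ?_
  calc c = e • a := hea.symm
    _ = e • (e ^ 2) ^ j • a := by rw [mem_stabilizer_iff.1 (pow_mem h2 j)]
    _ = (e ^ orderOf e) • a := by rw [hj, pow_succ' e (2 * j), pow_mul, ← mul_smul]
    _ = a := by rw [pow_orderOf_eq_one, one_smul]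

end Setting

end CfsgLib.Bender.Full
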