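import Cfsg.Agent.Lib.Bender.Full.VanishArith
import Cfsg.Agent.Lib.Char.Integrality
import Cfsg.Agent.Lib.Char.Orthogonality
import Mathlib.GroupTheory.SchurZassenhaus
import Mathlib.GroupTheory.Transfer

/-!
# Characters of degree divisible by `r` vanish on the generators of a cyclic Sylow `r`-subgroup

`char_eq_zero_of_cyclic_sylow`: if `R = ⟨u⟩` is a cyclic Sylow `r`-subgroup, `y` of order prime to
`r` commutes with `u`, and `r` divides `χ 1`, then `χ (u * y) = 0`.

On the section `u ^ i * A` (`i` prime to `r`, `C(u) = R × A`) the values are divisible by `r`, so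
by Galois theory a non-zero one makes the sum of the squares at least `r ^ 2 φ(|R|) |A|`; but the
section meets each conjugacy class at most `|N(R)| / |C(R)| ≤ r - 1` times, so that sum is at most
`(r - 1) |R| |A|`.
-/

set_option autoImplicit false
set_option linter.style.haveILetI false
set_option linter.unusedSectionVars false
set_option linter.unusedSimpArgs false

open Finset
open scoped ComplexConjugate Pointwise

namespace CfsgLib.Bender.Full

open Cfsg CfsgLib.Char

universe u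

variable {N : Type u} [Group N] [Finite N]

namespace Vanish

/-- A value at an element whose class has size prime to `r` is divisible by `r` if the degree is. -/
theorem isIntegral_value_div {r : ℕ} (hr : r.Prime) (χ : Cfsg.IrrCharacter N) {d : ℕ}
    (hd : (χ : N → ℂ) 1 = d) (hrd : r ∣ d) {x : N}
    (hx : ¬ r ∣ (Subgroup.centralizer ({x} : Set N)).index) :
    IsIntegral ℤ ((χ : N → ℂ) x / r) := by
  obtain ⟨d', hd'⟩ := hrd
  have hω := isIntegral_omega χ x
  rw [omega, card_isConj, hd] at hω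
  have hcop : Int.gcd ((Subgroup.centralizer ({x} : Set N)).index : ℤ) (r : ℤ) = 1 := by
    rw [Int.gcd_natCast_natCast]
    exact Nat.coprime_comm.1 (hr.coprime_iff_not_dvd.2 hx)
  obtain ⟨a, b, hab⟩ := Int.isCoprime_iff_gcd_eq_one.2 hcop
  have hd0 : (d : ℂ) ≠ 0 := hd ▸ irr_one_ne_zero χ
  have hr0 : (r : ℂ) ≠ 0 := by exact_mod_cast hr.ne_zero
  set c : ℂ := ((Subgroup.centralizer ({x} : Set N)).index : ℂ) with hc
  have e : (χ : N → ℂ) x / r =
      (a : ℂ) * ((d' : ℂ) * (c * (χ : N → ℂ) x / d)) + (b : ℂ) * (χ : N → ℂ) x := by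
    have hab' : (a : ℂ) * c + (b : ℂ) * r = 1 := by
      rw [hc]; exact_mod_cast hab
    have hdd : (d : ℂ) = r * d' := by exact_mod_cast hd'
    rw [hdd] at hd0
    have hd'0 : (d' : ℂ) ≠ 0 := right_ne_zero_of_mul hd0
    rw [hdd]
    field_simp
    linear_combination -(χ : N → ℂ) x * hab'
  rw [e]
  exact ((isIntegral_algebraMap (x := a)).mul ((isIntegral_algebraMap (x := (d' : ℤ))).mul hω)).add
    ((isIntegral_algebraMap (x := b)).mul (isCharacter_isIntegral (isCharacter_irr χ) x))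

/-- Cauchy–Schwarz against an irreducible character. -/
theorem normSq_coeff_le {A : Type u} [Group A] [Fintype A] (F : A → ℂ) (θ : Cfsg.IrrCharacter A) :
    ‖(Nat.card A : ℂ)⁻¹ * ∑ a, F a * conj ((θ : A → ℂ) a)‖ ^ 2 ≤
      (Nat.card A : ℝ)⁻¹ * ∑ a, ‖F a‖ ^ 2 := by
  have hA : (0 : ℝ) < Nat.card A := by exact_mod_cast Nat.card_pos
  have h1 := classInner_irr_self θ
  rw [classInner_self, Complex.ofReal_eq_one, inv_mul_eq_iff_eq_mul₀ hA.ne', mul_one] at h1
  have h2 : ‖∑ a, F a * conj ((θ : A → ℂ) a)‖ ≤ ∑ a, ‖F a‖ * ‖(θ : A → ℂ) a‖ :=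
    (norm_sum_le _ _).trans_eq (Finset.sum_congr rfl fun a _ => by rw [norm_mul, Complex.norm_conj])
  have h3 := Finset.sum_mul_sq_le_sq_mul_sq Finset.univ (fun a => ‖F a‖) fun a => ‖(θ : A → ℂ) a‖
  rw [h1] at h3
  rw [norm_mul, norm_inv, Complex.norm_natCast, mul_pow, inv_pow, sq (Nat.card A : ℝ), mul_inv,
    mul_assoc]
  refine mul_le_mul_of_nonneg_left ?_ (inv_nonneg.2 hA.le)
  rw [inv_mul_le_iff₀ hA]
  calc ‖∑ a, F a * conj ((θ : A → ℂ) a)‖ ^ 2 ≤ (∑ a, ‖F a‖ * ‖(θ : A → ℂ) a‖) ^ 2 :=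
        pow_le_pow_left₀ (norm_nonneg _) h2 2
    _ ≤ _ := h3
    _ = _ := mul_comm _ _

/-- The coefficient of `θ` on the powers of `u` is an integer combination of roots of unity. -/
theorem exists_fourier (χ : Cfsg.IrrCharacter N) {u : N} {n : ℕ} [NeZero n] (hun : u ^ n = 1)
    {ζ : ℂ} (hζ : IsPrimitiveRoot ζ n) {A : Type u} [Group A] [Fintype A] (ι : A →* N)
    (hι : ∀ a, Commute u (ι a)) (θ : Cfsg.IrrCharacter A) :
    ∃ m : ℕ → ℕ, ∀ i, (Nat.card A : ℂ)⁻¹ * ∑ a, (χ : N → ℂ) (u ^ i * ι a) * conj ((θ : A → ℂ) a) =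
      ∑ j ∈ range n, (m j : ℂ) * ζ ^ (i * j) := by
  classical
  have hpow : ∀ i, u ^ (((i : ℕ) : ZMod n).val) = u ^ i := fun i => by
    rw [ZMod.val_natCast]
    exact (pow_eq_pow_mod i hun).symm
  let ψ : Multiplicative (ZMod n) × A →* N :=
    { toFun := fun p => u ^ p.1.toAdd.val * ι p.2
      map_one' := by simp
      map_mul' := fun p q => by
        have e : u ^ (p.1.toAdd + q.1.toAdd).val = u ^ p.1.toAdd.val * u ^ q.1.toAdd.val := by
          rw [ZMod.val_add, ← pow_add]
          exact (pow_eq_pow_mod _ hun).symm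
        show u ^ (p.1.toAdd + q.1.toAdd).val * ι (p.2 * q.2) = _
        rw [e, map_mul, mul_assoc, mul_assoc]
        congr 1
        rw [← mul_assoc, ← mul_assoc, ((hι p.2).pow_left _).eq] }
  have hζ0 : ∀ a : ℕ, ζ ^ a = ζ ^ (a % n) := fun a => pow_eq_pow_mod a hζ.pow_eq_one
  let lam : ℕ → (Multiplicative (ZMod n) × A →* ℂˣ) := fun j =>
    { toFun := fun p => (hζ.isUnit (NeZero.ne n)).unit ^ (j * p.1.toAdd.val)
      map_one' := by simp
      map_mul' := fun p q => by
        refine Units.ext ?_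
        show (((hζ.isUnit (NeZero.ne n)).unit ^ (j * (p.1.toAdd + q.1.toAdd).val) : ℂˣ) : ℂ) = _
        simp only [Units.val_pow_eq_pow_val, IsUnit.unit_spec, Units.val_mul, ← pow_add]
        rw [hζ0, hζ0 (_ + _), ZMod.val_add, ← mul_add, Nat.mul_mod, Nat.mod_mod, ← Nat.mul_mod] }
  have hm : ∀ j, ∃ m : ℕ, classInner (fun p : Multiplicative (ZMod n) × A => (χ : N → ℂ) (ψ p))
      ((fun p => ((lam j p : ℂˣ) : ℂ)) * fun p => (θ : A → ℂ) p.2) = m := fun j =>
    classInner_isCharacter (isCharacter_comp (isCharacter_irr χ) ψ)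
      (isCharacter_mul (isCharacter_of_isIrr (isIrrCharacter_lin (lam j)))
        (isCharacter_comp (isCharacter_irr θ) (MonoidHom.snd (Multiplicative (ZMod n)) A)))
  choose m hm using hm
  refine ⟨m, fun i => ?_⟩
  set F : ℕ → ℂ := fun l => ∑ a, (χ : N → ℂ) (u ^ l * ι a) * conj ((θ : A → ℂ) a) with hF
  have hFmod : ∀ l, F (l % n) = F l := fun l => by
    simp only [hF]
    refine Finset.sum_congr rfl fun a _ => ?_
    rw [← pow_eq_pow_mod l hun]
  have hmj : ∀ j, (m j : ℂ) = ((n : ℂ) * Nat.card A)⁻¹ * ∑ l ∈ range n, conj (ζ ^ (j * l)) * F l := by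
    intro j
    rw [← hm j, classInner, Nat.card_prod, Fintype.sum_prod_type]
    congr 1
    · simp [Nat.card_zmod]
    refine Finset.sum_bij (fun x _ => x.toAdd.val) (fun x _ => mem_range.2 (ZMod.val_lt _))
      (fun x _ y _ e => by exact Multiplicative.toAdd.injective (ZMod.val_injective n e))
      (fun l hl => ⟨Multiplicative.ofAdd (l : ZMod n), mem_univ _,
        ZMod.val_cast_of_lt (mem_range.1 hl)⟩) fun x _ => ?_
    simp only [hF, Finset.mul_sum]
    refine Finset.sum_congr rfl fun a _ => ?_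
    show (χ : N → ℂ) (u ^ x.toAdd.val * ι a) *
      conj ((((hζ.isUnit (NeZero.ne n)).unit ^ (j * x.toAdd.val) : ℂˣ) : ℂ) * (θ : A → ℂ) a) = _
    rw [Units.val_pow_eq_pow_val, IsUnit.unit_spec, map_mul]
    ring
  have hinv : ∀ l ∈ range n, ∑ j ∈ range n, conj (ζ ^ (j * l)) * ζ ^ (i * j) =
      if l = i % n then (n : ℂ) else 0 := by
    intro l hl
    have hconj : conj ζ = ζ⁻¹ := conj_eq_inv_of_pow_eq_one (NeZero.ne n) hζ.pow_eq_one
    have hζne : ζ ≠ 0 := hζ.ne_zero (NeZero.ne n)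
    have e : ∀ j, conj (ζ ^ (j * l)) * ζ ^ (i * j) = (ζ⁻¹ ^ l * ζ ^ i) ^ j := fun j => by
      rw [map_pow, hconj, mul_pow, ← pow_mul, ← pow_mul, mul_comm j l]
    simp only [e]
    have hpow1 : (ζ⁻¹ ^ l * ζ ^ i) ^ n = 1 := by
      rw [mul_pow, ← pow_mul, ← pow_mul, mul_comm l, mul_comm i, pow_mul, pow_mul, inv_pow,
        hζ.pow_eq_one, inv_one, one_pow, one_pow, mul_one]
    by_cases h : l = i % n
    · rw [if_pos h]
      have h1 : ζ⁻¹ ^ l * ζ ^ i = 1 := by
        rw [h, hζ0 i, inv_pow, inv_mul_cancel₀ (pow_ne_zero _ hζne)]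
      rw [h1]
      simp
    · rw [if_neg h]
      have h1 : ζ⁻¹ ^ l * ζ ^ i ≠ 1 := fun e1 => h (by
        rw [inv_pow, inv_mul_eq_one₀ (pow_ne_zero _ hζne), hζ0 i] at e1
        exact hζ.pow_inj (mem_range.1 hl) (Nat.mod_lt _ (NeZero.pos n)) e1)
      rw [geom_sum_eq h1, hpow1, sub_self, zero_div]
  calc (Nat.card A : ℂ)⁻¹ * F i
      = ((n : ℂ) * Nat.card A)⁻¹ * ∑ l ∈ range n, F l * (if l = i % n then (n : ℂ) else 0) := by
        simp only [mul_ite, mul_zero]
        rw [Finset.sum_ite_eq' _ (i % n), if_pos (mem_range.2 (Nat.mod_lt _ (NeZero.pos n))), hFmod]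
        have : (n : ℂ) ≠ 0 := by exact_mod_cast NeZero.ne n
        field_simp
    _ = _ := by
        simp only [hmj]
        rw [Finset.sum_congr rfl fun l hl => by rw [← hinv l hl]]
        simp only [Finset.mul_sum, Finset.sum_mul]
        rw [Finset.sum_comm]
        refine Finset.sum_congr rfl fun j _ => Finset.sum_congr rfl fun l _ => ?_
        ring

end Vanish

open Subgroup in
/-- A character of degree divisible by `r` vanishes at `u * y` for a generator `u` of a cyclic
Sylow `r`-subgroup and an element `y` of order prime to `r` commuting with `u`. -/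
theorem char_eq_zero_of_cyclic_sylow {r : ℕ} [Fact r.Prime] (R : Sylow r N) (u : N)
    (hu : (R : Subgroup N) = zpowers u) (y : N) (hyu : Commute y u) (hy : (orderOf y).Coprime r)
    (χ : Cfsg.IrrCharacter N) (d : ℕ) (hd : (χ : N → ℂ) 1 = d) (hrd : r ∣ d) :
    (χ : N → ℂ) (u * y) = 0 := by
  classical
  haveI := Fintype.ofFinite N
  have hr : r.Prime := Fact.out
  obtain ⟨k, hk⟩ := IsPGroup.iff_card.1 R.2
  have hindex : ¬ r ∣ (R : Subgroup N).index := R.not_dvd_index
  obtain ⟨k, rfl⟩ : ∃ k', k = k' + 1 := Nat.exists_eq_succ_of_ne_zero fun h0 => by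
    have h := hrd.trans (degree_dvd_card χ hd)
    rw [← (R : Subgroup N).card_mul_index, hk, h0, pow_zero, one_mul] at h
    exact hindex h
  set n := r ^ (k + 1) with hn
  haveI : NeZero n := ⟨pow_ne_zero _ hr.ne_zero⟩
  have hord : orderOf u = n := by rw [← Nat.card_zpowers, ← hu, hk]
  have hun : u ^ n = 1 := hord ▸ pow_orderOf_eq_one u
  -- the centralizer of `u` is `R × A`
  set C := centralizer ({u} : Set N) with hC
  have hRC : (R : Subgroup N) ≤ C := by
    rw [hu, zpowers_le]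
    exact mem_centralizer_singleton_iff.2 rfl
  haveI : ((R : Subgroup N).subgroupOf C).Normal := ⟨fun x hx g => by
    rw [mem_subgroupOf, hu] at hx ⊢
    obtain ⟨i, hi⟩ := hx
    refine ⟨i, ?_⟩
    have hg : Commute (g : N) u := mem_centralizer_singleton_iff.1 g.2
    simp only [Subgroup.coe_mul, Subgroup.coe_inv, ← hi, (hg.zpow_right i).eq, mul_inv_cancel_right]⟩
  have hcopC : (Nat.card ((R : Subgroup N).subgroupOf C)).Coprime
      ((R : Subgroup N).subgroupOf C).index := by
    rw [Nat.card_congr (subgroupOfEquivOfLe hRC).toEquiv, hk]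
    exact (hr.coprime_iff_not_dvd.2 fun h => hindex (h.trans
      (relIndex_dvd_index_of_le hRC))).pow_left _
  obtain ⟨A₀, hA₀⟩ := exists_right_complement'_of_coprime hcopC
  set A : Subgroup N := A₀.map C.subtype with hA
  have hAC : ∀ a ∈ A, Commute u a := fun a ha =>
    (mem_centralizer_singleton_iff.1 (map_subtype_le _ ha) : a * u = u * a).symm
  have hAcop : (Nat.card A).Coprime r := by
    rw [hA, card_map_of_injective C.subtype_injective]
    have h1 := hA₀.card_mul
    rw [← ((R : Subgroup N).subgroupOf C).card_mul_index] at h1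
    rw [Nat.eq_of_mul_eq_mul_left Nat.card_pos h1]
    exact (Nat.coprime_comm.1 (hr.coprime_iff_not_dvd.2 fun h => hindex (h.trans
      (relIndex_dvd_index_of_le hRC))))
  have hCcard : Nat.card C = n * Nat.card A := by
    rw [hA, card_map_of_injective C.subtype_injective, ← hA₀.card_mul,
      Nat.card_congr (subgroupOfEquivOfLe hRC).toEquiv, hk]
  have hsplit : ∀ c ∈ C, ∃ (i : ℕ) (a : N), a ∈ A ∧ c = u ^ i * a := by
    intro c hc
    have h1 : (⟨c, hc⟩ : C) ∈ ((((R : Subgroup N).subgroupOf C : Subgroup C) : Set C) *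
        (A₀ : Set C)) := by
      rw [hA₀.mul_eq]; trivial
    obtain ⟨w, hw, a, ha, e⟩ := h1
    have hw' : (w : N) ∈ zpowers u := hu ▸ mem_subgroupOf.1 hw
    obtain ⟨i, hi : u ^ i = w⟩ := mem_powers_iff_mem_zpowers.mpr hw'
    exact ⟨i, a, ⟨a, ha, rfl⟩, by rw [hi]; exact (congrArg Subtype.val e).symm⟩
  have hcopn : ∀ {l : ℕ}, l.Coprime r → l.Coprime n := fun h => h.pow_right _
  -- uniqueness of the decomposition
  have huniq : ∀ (i j : ℕ) (a b : N), a ∈ A → b ∈ A → u ^ i * a = u ^ j * b →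
      u ^ i = u ^ j ∧ a = b := by
    intro i j a b ha hb e
    have h1 : (u ^ j)⁻¹ * u ^ i = b * a⁻¹ := by
      rw [inv_mul_eq_iff_eq_mul, ← mul_assoc, ← e, mul_inv_cancel_right]
    have h2 : b * a⁻¹ ∈ A := A.mul_mem hb (A.inv_mem ha)
    have h3 : b * a⁻¹ ∈ (R : Subgroup N) := by
      rw [← h1, hu]
      exact mul_mem (inv_mem (pow_mem (mem_zpowers u) _)) (pow_mem (mem_zpowers u) _)
    have h4 : b * a⁻¹ = 1 := orderOf_eq_one_iff.1 (Nat.eq_one_of_dvd_coprimes
      (hcopn hAcop) (Subgroup.orderOf_dvd_natCard _ h2)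
      (hk ▸ Subgroup.orderOf_dvd_natCard _ h3))
    exact ⟨(inv_mul_eq_one.1 (h1.trans h4)).symm, (mul_inv_eq_one.1 h4).symm⟩
  have hyA : y ∈ A := by
    obtain ⟨i, a, ha, e⟩ := hsplit y (mem_centralizer_singleton_iff.2 hyu)
    have h1 : u ^ (i * (orderOf y * Nat.card A)) = u ^ 0 := by
      have h : (u ^ i * a) ^ (orderOf y * Nat.card A) = 1 := by
        rw [← e, pow_mul, pow_orderOf_eq_one, one_pow]
      rw [((hAC a ha).pow_left i).mul_pow, ← pow_mul u,
        orderOf_dvd_iff_pow_eq_one.1 ((Subgroup.orderOf_dvd_natCard _ ha).trans (dvd_mul_left _ _)),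
        mul_one] at h
      rw [h, pow_zero]
    have h2 : n ∣ i * (orderOf y * Nat.card A) := by
      rw [← hord]; exact orderOf_dvd_of_pow_eq_one (h1.trans (pow_zero u))
    have h3 : u ^ i = 1 := orderOf_dvd_iff_pow_eq_one.1 (hord ▸
      ((hcopn (hy.mul_left hAcop)).symm.dvd_of_dvd_mul_right h2))
    rw [e, h3, one_mul]
    exact ha
  -- a coefficient that does not vanish
  haveI := Fintype.ofFinite A
  set F₁ : A → ℂ := fun a => (χ : N → ℂ) (u * a) with hF₁
  by_contra hne
  have hclass : IsClassFunction A F₁ := fun g h => by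
    simp only [hF₁, Subgroup.coe_mul, Subgroup.coe_inv]
    have e : u * ((h : N) * (g : N) * (h : N)⁻¹) = h * (u * g) * (h : N)⁻¹ := by
      rw [← mul_assoc (h : N) u, ← (hAC h h.2).eq]
      group
    rw [e]
    exact isClassFunction_irr χ _ _
  obtain ⟨θ, hθ⟩ : ∃ θ : Cfsg.IrrCharacter A, classInner F₁ (θ : A → ℂ) ≠ 0 := by
    by_contra hall
    push Not at hall
    exact hne (congrFun (classFun_eq_zero_of_perp hclass hall) ⟨y, hyA⟩)
  set f : ℕ → ℂ := fun i =>
    (Nat.card A : ℂ)⁻¹ * ∑ a : A, (χ : N → ℂ) (u ^ i * (a : N)) * conj ((θ : A → ℂ) a) with hf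
  have hζ := Complex.isPrimitiveRoot_exp n (NeZero.ne n)
  obtain ⟨m, hm⟩ := Vanish.exists_fourier χ hun hζ A.subtype (fun a => hAC a a.2) θ
  -- the values are divisible by `r`
  have hgen : ∀ i, n.Coprime i → zpowers (u ^ i) = zpowers u := by
    intro i hi
    refine eq_of_le_of_card_ge (zpowers_le.2 (pow_mem (mem_zpowers u) i)) ?_
    rw [Nat.card_zpowers, Nat.card_zpowers, orderOf_pow, hord, hi.gcd_eq_one, Nat.div_one]
  have hint : ∀ i, n.Coprime i → IsIntegral ℤ (f i / r) := by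
    intro i hi
    have hterm : ∀ a : A, IsIntegral ℤ ((χ : N → ℂ) (u ^ i * a) / r) := fun a => by
      refine Vanish.isIntegral_value_div hr χ hd hrd fun h => hindex (h.trans (index_dvd_of_le ?_))
      rw [hu, zpowers_le]
      exact mem_centralizer_singleton_iff.2
        (((Commute.refl u).pow_right i).mul_right (hAC a a.2)).eq
    have hfi : IsIntegral ℤ (f i) := by
      rw [show f i = ∑ j ∈ range n, (m j : ℂ) * _ from hm i]
      exact IsIntegral.sum _ fun j _ => (isIntegral_algebraMap (x := (m j : ℤ))).mul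
        (((hζ.isIntegral (NeZero.pos n)).pow _))
    have hAf : IsIntegral ℤ ((Nat.card A : ℂ) * (f i / r)) := by
      have e : (Nat.card A : ℂ) * (f i / r) =
          ∑ a : A, ((χ : N → ℂ) (u ^ i * (a : N)) / r) * conj ((θ : A → ℂ) a) := by
        rw [hf]; simp only
        rw [mul_div_assoc', ← mul_assoc, mul_inv_cancel₀ (by exact_mod_cast Nat.card_pos.ne'),
          one_mul, Finset.sum_div]
        exact Finset.sum_congr rfl fun a _ => by ring
      rw [e]
      exact IsIntegral.sum _ fun a _ => (hterm a).mul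
        ((isCharacter_isIntegral (isCharacter_irr θ) a).map (starRingEnd ℂ).toIntAlgHom)
    obtain ⟨a, b, hab⟩ := Int.isCoprime_iff_gcd_eq_one.2
      (show Int.gcd (Nat.card A : ℤ) (r : ℤ) = 1 by rw [Int.gcd_natCast_natCast]; exact hAcop)
    have hr0 : (r : ℂ) ≠ 0 := by exact_mod_cast hr.ne_zero
    have hab' : (a : ℂ) * (Nat.card A : ℂ) + (b : ℂ) * r = 1 := by exact_mod_cast hab
    have e : f i / r = (a : ℂ) * ((Nat.card A : ℂ) * (f i / r)) + (b : ℂ) * f i := by
      field_simp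
      linear_combination -(f i) * hab'
    rw [e]
    exact ((isIntegral_algebraMap (x := a)).mul hAf).add ((isIntegral_algebraMap (x := b)).mul hfi)
  have hlow := Vanish.sq_mul_totient_le_sum hζ m f hm hint (i₀ := 1) (Nat.coprime_one_right _) (by
    simp only [hf, pow_one]
    exact hθ)
  set U := (range n).filter (fun i => n.Coprime i) with hU
  -- the section is small
  set NN := normalizer ((R : Subgroup N) : Set N) with hNN
  set M := Nat.card A with hMdef
  let Φ : N × (U × A) → N := fun x => x.1 * (u ^ (x.2.1 : ℕ) * (x.2.2 : N)) * x.1⁻¹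
  have hMn : M.Coprime n := hcopn hAcop
  have hfiber : ∀ z : N, (univ.filter fun x : N × (U × A) => Φ x = z).card ≤ Nat.card NN := by
    intro z
    rcases (univ.filter fun x : N × (U × A) => Φ x = z).eq_empty_or_nonempty with h | ⟨x₀, hx₀⟩
    · simp [h]
    rw [Nat.card_eq_fintype_card (α := NN), ← Fintype.card_coe]
    have hmemNN : ∀ x ∈ univ.filter (fun x : N × (U × A) => Φ x = z), x₀.1⁻¹ * x.1 ∈ NN := by
      intro x hx
      have e : Φ x = Φ x₀ := ((mem_filter.1 hx).2).trans ((mem_filter.1 hx₀).2).symm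
      set h := x₀.1⁻¹ * x.1 with hh
      have e2 : h * (u ^ (x.2.1 : ℕ) * (x.2.2 : N)) * h⁻¹ = u ^ (x₀.2.1 : ℕ) * (x₀.2.2 : N) := by
        have e3 := congrArg (fun w => x₀.1⁻¹ * w * x₀.1) e
        simp only [Φ] at e3
        rw [show x₀.1⁻¹ * (x₀.1 * (u ^ (x₀.2.1 : ℕ) * (x₀.2.2 : N)) * x₀.1⁻¹) * x₀.1 =
          u ^ (x₀.2.1 : ℕ) * (x₀.2.2 : N) by group] at e3
        rw [← e3, hh]
        group
      have hpowM : ∀ (j : ℕ) (a : A), (u ^ j * (a : N)) ^ M = u ^ (j * M) := fun j a => by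
        rw [((hAC a a.2).pow_left j).mul_pow, ← pow_mul,
          orderOf_dvd_iff_pow_eq_one.1 (Subgroup.orderOf_dvd_natCard _ a.2), mul_one]
      have e4 : h * u ^ ((x.2.1 : ℕ) * M) * h⁻¹ = u ^ ((x₀.2.1 : ℕ) * M) := by
        rw [← hpowM _ x.2.2, ← hpowM _ x₀.2.2, ← conj_pow, e2]
      have hgenx : zpowers (u ^ ((x.2.1 : ℕ) * M)) = zpowers u :=
        hgen _ (Nat.Coprime.mul_right (mem_filter.1 x.2.1.2).2 hMn.symm)
      refine mem_normalizer_fintype fun w hw => ?_
      rw [SetLike.mem_coe, hu, ← hgenx] at hw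
      obtain ⟨t, rfl⟩ := hw
      rw [SetLike.mem_coe, hu]
      show h * (u ^ ((x.2.1 : ℕ) * M)) ^ t * h⁻¹ ∈ zpowers u
      rw [← conj_zpow, e4]
      exact zpow_mem (pow_mem (mem_zpowers u) _) t
    refine Fintype.card_le_of_injective (fun x => ⟨x₀.1⁻¹ * (x : N × (U × A)).1, hmemNN x x.2⟩) ?_
    rintro ⟨x, hx⟩ ⟨x', hx'⟩ e
    have hg : x.1 = x'.1 := mul_left_cancel (congrArg Subtype.val e)
    have e1 : Φ x = Φ x' := ((mem_filter.1 hx).2).trans ((mem_filter.1 hx').2).symm
    simp only [Φ, hg] at e1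
    obtain ⟨hp, ha⟩ := huniq _ _ _ _ x.2.2.2 x'.2.2.2 (mul_left_cancel (mul_right_cancel e1))
    have hi : (x.2.1 : ℕ) = (x'.2.1 : ℕ) := pow_injOn_Iio_orderOf
      (by rw [Set.mem_Iio, hord]; exact mem_range.1 (mem_filter.1 x.2.1.2).1)
      (by rw [Set.mem_Iio, hord]; exact mem_range.1 (mem_filter.1 x'.2.1.2).1) hp
    exact Subtype.ext (Prod.ext hg (Prod.ext (Subtype.ext hi) (Subtype.ext ha)))
  set G₀ : N → ℝ := fun z => ‖(χ : N → ℂ) z‖ ^ 2 with hG₀
  have hnorm : ∑ z, G₀ z = Nat.card N := by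
    have h1 := classInner_irr_self χ
    rw [classInner_self, Complex.ofReal_eq_one,
      inv_mul_eq_iff_eq_mul₀ (by exact_mod_cast Nat.card_pos.ne'), mul_one] at h1
    exact h1
  set T : ℝ := ∑ i ∈ U, ∑ a : A, G₀ (u ^ i * a) with hT
  have hTle : T ≤ Nat.card NN := by
    have h1 : ∑ x : N × (U × A), G₀ (Φ x) = Nat.card N * T := by
      rw [Fintype.sum_prod_type, Finset.sum_congr rfl (g := fun _ => T) fun g _ => ?_,
        Finset.sum_const, card_univ, nsmul_eq_mul, Nat.card_eq_fintype_card (α := N)]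
      rw [Fintype.sum_prod_type, hT, ← Finset.sum_coe_sort U]
      refine Finset.sum_congr rfl fun i _ => Finset.sum_congr rfl fun a _ => ?_
      simp only [hG₀, Φ]
      rw [isClassFunction_irr χ]
    have h2 : ∑ x : N × (U × A), G₀ (Φ x) ≤ ∑ z, (Nat.card NN : ℝ) * G₀ z := by
      rw [← Finset.sum_fiberwise univ Φ fun x => G₀ (Φ x)]
      refine Finset.sum_le_sum fun z _ => ?_
      rw [Finset.sum_congr rfl (g := fun _ => G₀ z) fun x hx => by rw [(mem_filter.1 hx).2],
        Finset.sum_const, nsmul_eq_mul]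
      exact mul_le_mul_of_nonneg_right (by exact_mod_cast hfiber z) (sq_nonneg _)
    rw [h1, ← Finset.mul_sum, hnorm, mul_comm (Nat.card NN : ℝ)] at h2
    exact le_of_mul_le_mul_left h2 (by exact_mod_cast Nat.card_pos)
  have hup : ∑ i ∈ U, ‖f i‖ ^ 2 ≤ (M : ℝ)⁻¹ * T := by
    rw [hT, Finset.mul_sum]
    exact Finset.sum_le_sum fun i _ => Vanish.normSq_coeff_le (fun a : A => (χ : N → ℂ) (u ^ i * a)) θ
  -- the automizer
  have hNNle : Nat.card NN ≤ (r - 1) * (n * M) := by
    set R' : Subgroup N := (R : Subgroup N) with hR'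
    haveI : IsCyclic R' := by rw [hu]; infer_instance
    set e := (centralizer (R' : Set N)).relIndex NN with he
    have hCR : centralizer (R' : Set N) = C := by
      ext w
      rw [hC, mem_centralizer_singleton_iff, mem_centralizer_iff]
      constructor
      · intro h
        exact (h u (by rw [SetLike.mem_coe, hu]; exact mem_zpowers u)).symm
      · intro h v hv
        rw [SetLike.mem_coe, hu] at hv
        obtain ⟨t, rfl⟩ := hv
        exact ((Commute.zpow_right h t).eq).symm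
    have key := card_dvd_of_injective _ (QuotientGroup.kerLift_injective R'.normalizerMonoidHom)
    rw [normalizerMonoidHom_ker, ← index, ← relIndex, IsCyclic.card_mulAut, hk,
      Nat.totient_prime_pow_succ hr] at key
    have hdr : ¬ r ∣ e := fun h => hindex (h.trans ((relIndex_dvd_of_le_left _
      R'.le_centralizer).trans (relIndex_dvd_index_of_le R'.le_normalizer)))
    have he1 : e ∣ r - 1 :=
      ((hr.coprime_iff_not_dvd.2 hdr).symm.pow_right k).dvd_of_dvd_mul_left key
    have hCN : centralizer (R' : Set N) ≤ NN := centralizer_le_normalizer _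
    have hcardNN : Nat.card NN = e * Nat.card (centralizer (R' : Set N)) := by
      rw [he, relIndex, mul_comm,
        ← Nat.card_congr (subgroupOfEquivOfLe hCN).toEquiv, card_mul_index]
    rw [hcardNN, hCR, hCcard]
    exact Nat.mul_le_mul_right _ (Nat.le_of_dvd (by have := hr.two_le; omega) he1)
  have hM0 : (0 : ℝ) < M := by exact_mod_cast Nat.card_pos
  have hNN' : (Nat.card NN : ℝ) ≤ ((r - 1 : ℕ) : ℝ) * ((n : ℝ) * M) := by exact_mod_cast hNNle
  have hchain : (r : ℝ) ^ 2 * n.totient ≤ ((r - 1 : ℕ) : ℝ) * n := by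
    refine hlow.trans (hup.trans ?_)
    rw [inv_mul_le_iff₀ hM0]
    calc T ≤ Nat.card NN := hTle
      _ ≤ _ := hNN'
      _ = _ := by ring
  have h' : r ^ 2 * n.totient ≤ (r - 1) * n := by exact_mod_cast hchain
  rw [hn, Nat.totient_prime_pow_succ hr] at h'
  have e : r ^ 2 * (r ^ k * (r - 1)) = r * ((r - 1) * r ^ (k + 1)) := by ring
  rw [e] at h'
  have hpos : 0 < (r - 1) * r ^ (k + 1) :=
    Nat.mul_pos (by have := hr.two_le; omega) (pow_pos hr.pos _)
  have := Nat.mul_le_mul_right ((r - 1) * r ^ (k + 1)) hr.two_le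
  omega

end CfsgLib.Bender.Full
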