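import Cfsg.Agent.Lib.Bender.Full.Simple
import Cfsg.Agent.Lib.Bender.Full.Galois
import Cfsg.Agent.Lib.Bender.Full.Prime
import Cfsg.Agent.Lib.Bender.Full.Column
import Cfsg.Agent.Lib.Bender.Full.Vanish
import Cfsg.Agent.Lib.Bender.Transfer.Engine
import Cfsg.Agent.Lib.CFun.OddTypePBasic
import Cfsg.Agent.Lib.Coprime.FpfAction
import Mathlib.GroupTheory.Exponent

/-!
# In the fixed point free case the `m`-part centralizes no involution

If `T₀ = C_P(t)` were non-trivial it would be a `q`-group for one prime `q`, the Sylow subgroups of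
`P` for the other primes would be cyclic, and a suitable central element of `P ⊓ involGen H` would
contradict column orthogonality in the simple group `involGen H`.
-/

set_option autoImplicit false
set_option linter.style.haveILetI false
set_option linter.unusedSectionVars false

namespace CfsgLib.Bender.Full

open Subgroup MulAction
open scoped IsMulCommutative
open CfsgLib.Invol (invol_conj invol_mul_self invol_ne_one)

universe u

variable {G : Type u} [Group G] [Finite G] {H : Subgroup G}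

/-- A subgroup is generated by its elements of prime power order. -/
theorem le_of_prime_power_mem {P W : Subgroup G}
    (h : ∀ y ∈ P, ∀ r k : ℕ, r.Prime → orderOf y = r ^ k → y ∈ W) : P ≤ W := by
  have htop : W.subgroupOf P = ⊤ := by
    refine eq_top_of_card_eq _ (Nat.dvd_antisymm (card_subgroup_dvd_card _)
      ((Nat.dvd_iff_prime_pow_dvd_dvd _ _).2 fun r k hr hk => ?_))
    haveI := Fact.mk hr
    obtain ⟨R, hR⟩ := Sylow.exists_subgroup_card_pow_prime r hk
    rw [← hR]
    refine card_dvd_of_le fun y hy => ?_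
    obtain ⟨j, -, hj⟩ := (Nat.dvd_prime_pow hr).1 (hR ▸ Subgroup.orderOf_dvd_natCard _ hy)
    exact h y y.2 r j hr (by rw [Subgroup.orderOf_coe, hj])
  intro y hy
  have h1 : (⟨y, hy⟩ : P) ∈ W.subgroupOf P := htop ▸ mem_top _
  exact h1

omit [Finite G] in
theorem le_normalizer_invGroup {A : Subgroup G} (a : G ⧸ H) :
    normalizer (A : Set G) ⊓ stabilizer G a ≤ normalizer (invGroup A a : Set G) := by
  have key : ∀ g ∈ normalizer (A : Set G) ⊓ stabilizer G a,
      (invGroup A a).map (MulAut.conj g).toMonoidHom ≤ invGroup A a := by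
    rintro g ⟨hgN, hga⟩
    rw [invGroup, MonoidHom.map_closure]
    refine Subgroup.closure_mono ?_
    rintro _ ⟨u, ⟨hu, huA, hua⟩, rfl⟩
    refine ⟨invol_conj hu g, (mem_normalizer_iff.1
      (CfsgLib.Coprime.normalizer_le_normalizer_centralizer _ hgN) u).1 huA, ?_⟩
    have hga' : g⁻¹ • a = a := by rw [inv_smul_eq_iff, mem_stabilizer_iff.1 hga]
    show (g * u * g⁻¹) • a = a
    rw [mul_smul, mul_smul, hga', hua, mem_stabilizer_iff.1 hga]
  intro g hg
  exact mem_normalizer_iff.2 fun y => ⟨fun hy => key g hg ⟨y, hy, rfl⟩, fun hy => by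
    simpa [mul_assoc] using key g⁻¹ (inv_mem hg) ⟨_, hy, rfl⟩⟩

namespace Fpf

variable {x : G ⧸ H} {L P : Subgroup G} {s : ℕ} {z t w : G} (F : Fpf H x L P s z t w)
include F

theorem P_le_pairStab : P ≤ pairStab (base H) x :=
  F.P_le.trans inf_le_right

theorem commute_coprime {y b : G} (hy : y ∈ P) (hb : b ∈ P)
    (h : (orderOf y).Coprime (orderOf b)) : Commute y b := by
  haveI := F.P_nilpotent
  have h1 : Commute (⟨y, hy⟩ : P) ⟨b, hb⟩ :=
    CfsgLib.CFun.commute_of_coprime_order (by rwa [orderOf_mk, orderOf_mk])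
  exact congrArg Subtype.val h1

/-- The centralizer in `P` of `t`: local consequences for its characteristic `q`-subgroups. -/
theorem local_facts {q : ℕ} [hq : Fact q.Prime] {A : Subgroup G} (hAP : A ≤ P) (hA : IsPGroup q A)
    (hA1 : A ≠ ⊥) (hAt : t ∈ centralizer (A : Set G)) (hzA : z ∈ normalizer (A : Set G)) :
    IsMulCommutative (invGroup A (base H)) ∧
      (∀ v ∈ invGroup A (base H), v ≠ 1 → orderOf v = 2 ∧ v ∈ centralizer (A : Set G) ∧ v ∈ H) ∧
      ∀ g ∈ P, g ∈ normalizer (A : Set G) → Commute g t →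
        ∀ u : G, orderOf u = 2 → u ∈ centralizer (A : Set G) → u ∈ H → Commute g u := by
  haveI := Fact.mk F.prime
  have h := F.setting
  have hqm : q ∣ numInv H := by
    refine F.P_pi q hq.out (dvd_trans ?_ (card_dvd_of_le hAP))
    obtain ⟨k, hk⟩ := IsPGroup.iff_card.1 hA
    rw [hk]
    refine dvd_pow_self q fun e => hA1 (Subgroup.card_eq_one.1 ?_)
    rw [hk, e, pow_zero]
  have hab : base H ∈ fixSet A H := hAP.trans (F.P_le_pairStab.trans inf_le_left)
  have hax : x ∈ fixSet A H := hAP.trans (F.P_le_pairStab.trans inf_le_right)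
  have hta : t • base H = base H := smul_base.2 F.t_mem
  have h3 : 2 < (fixSet A H).ncard := by
    by_contra h2
    refine notMem_centralizer_of_two h.se (hAP.trans F.P_le_pairStab) F.ne.symm ?_ F.t_order hAt
    intro y hy
    by_contra hcon
    push Not at hcon
    exact h2 ((Set.two_lt_ncard_iff (Set.toFinite _)).2 ⟨base H, x, y, hab, hax, hy, F.ne.symm,
      Ne.symm hcon.1, Ne.symm hcon.2⟩)
  have hN := h.nonlonely_of_dvd hqm hA hab h3
  obtain ⟨Q, hQ⟩ := h.exists_localData hA hA1 hN hab h3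
  have hzD : zpowers z ≤ normalizer (A : Set G) ⊓ pairStab (base H) x :=
    zpowers_le.2 ⟨hzA, F.z_mem.2⟩
  have hzt : zpowers z ≤ centralizer ({t} : Set G) :=
    zpowers_le.2 (mem_centralizer_singleton_iff.2 F.t_comm.eq.symm)
  have hlon : ∀ u : G, orderOf u = 2 → u • base H = base H → Commute u z → u = t :=
    fun u hu hua huz => F.t_unique u (smul_base.1 hua) hu huz
  obtain ⟨-, -, hgal⟩ := hQ.galois h hab hax F.ne h3 hA hN F.t_order hAt hta hzD hzt (mem_zpowers z)
    F.z_order hlon (by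
      intro r hr hr1
      obtain ⟨u, v, hu, hv, huv, -, huA, hvA, hua, hva⟩ := h.exists_two_at hN F.t_order hAt hta
      have hzr : z ∈ zpowers r := by
        have e : orderOf r = s := by
          refine ((Nat.dvd_prime F.prime).1 ?_).resolve_left (by rwa [orderOf_eq_one_iff])
          rw [← F.z_order, ← Nat.card_zpowers, ← Nat.card_zpowers]
          exact card_dvd_of_le (zpowers_le.2 hr)
        rw [Subgroup.eq_of_le_of_card_ge (zpowers_le.2 hr)
          (by rw [Nat.card_zpowers, Nat.card_zpowers, e, F.z_order])]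
        exact mem_zpowers z
      obtain ⟨j, hj⟩ := hzr
      by_cases hur : Commute u r
      · refine ⟨v, hv, hvA, hva, fun hvr => huv ((hlon u hu hua ?_).trans (hlon v hv hva ?_).symm)⟩
        · rw [← hj]; exact hur.zpow_right j
        · rw [← hj]; exact hvr.zpow_right j
      · exact ⟨u, hu, huA, hua, hur⟩)
  refine ⟨hQ.isMulCommutative_invGroup h hab hax F.ne h3 hA, fun v hv hv1 => ?_, ?_⟩
  · obtain ⟨h1, h2, h4⟩ := hQ.invGroup_mem_invol h hab hax F.ne h3 hA hv hv1
    exact ⟨h1, h2, smul_base.1 h4⟩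
  · intro g hg hgN hgt u hu huA huH
    refine hgal g ⟨hgN, F.P_le_pairStab hg⟩ hgt ?_ u hu huA (smul_base.2 huH)
    refine Nat.coprime_of_dvd fun r hr h1 h2 => ?_
    obtain rfl := (Nat.prime_dvd_prime_iff_eq hr F.prime).1 h2
    exact F.not_dvd (F.P_pi r hr (h1.trans (Subgroup.orderOf_dvd_natCard _ hg)))

/-- An involution at the base point centralizing all of `P`'s conjugates forces `A = 1`. -/
theorem eq_bot_of_normalizes {A : Subgroup G} (hAP : A ≤ P)
    (hmem : ∀ v ∈ invGroup A (base H), v ≠ 1 → orderOf v = 2 ∧ v ∈ centralizer (A : Set G) ∧ v ∈ H)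
    (hAt : t ∈ centralizer (A : Set G))
    (hP : P ≤ normalizer (invGroup A (base H) : Set G)) : A = ⊥ := by
  rw [eq_bot_iff, ← F.centralizer_involGen]
  refine le_inf (hAP.trans F.P_le_H) (le_centralizer_iff.1 ((closure_le _).2 ?_))
  rintro u ⟨hu, huH⟩
  obtain ⟨p, hp, rfl⟩ := F.trans u huH hu
  have htW : t ∈ invGroup A (base H) := subset_closure ⟨F.t_order, hAt, smul_base.2 F.t_mem⟩
  exact (hmem _ ((mem_normalizer_iff.1 (hP hp) t).1 htW) (invol_ne_one hu)).2.1

/-- A non-trivial Sylow subgroup of `C_P(t)`: the centralizer of `t` in `P` is a `q`-group, and no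
element of `P` of order prime to `q` centralizes an involution at the base point. -/
theorem exists_prime_of_not_free {a : G} (ha : a ∈ P) (hat : Commute a t) (ha1 : a ≠ 1) :
    ∃ (q : ℕ) (A : Subgroup G), q.Prime ∧ q ∣ numInv H ∧ A ≤ P ∧ A ≠ ⊥ ∧ IsPGroup q A ∧
      t ∈ centralizer (A : Set G) ∧ IsMulCommutative (invGroup A (base H)) ∧
      (∀ v ∈ invGroup A (base H), v ≠ 1 → orderOf v = 2 ∧ v ∈ centralizer (A : Set G) ∧ v ∈ H) ∧
      ∀ y ∈ P, (orderOf y).Coprime q → ∀ u ∈ H, orderOf u = 2 → Commute y u → y = 1 := by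
  classical
  haveI := F.P_nilpotent
  set T := P ⊓ centralizer ({t} : Set G) with hT
  haveI : Group.IsNilpotent T :=
    Group.nilpotent_of_surjective (subgroupOfEquivOfLe (inf_le_left : T ≤ P)).toMonoidHom
      (MulEquiv.surjective _)
  have hTz : z ∈ normalizer (T : Set G) := by
    have h1 : z ∈ centralizer ({t} : Set G) := mem_centralizer_singleton_iff.2 F.t_comm.eq.symm
    refine mem_normalizer_iff.2 fun y => and_congr (mem_normalizer_iff.1 F.z_norm y) ?_
    exact ⟨fun hy => Subgroup.mul_mem _ (Subgroup.mul_mem _ h1 hy) (Subgroup.inv_mem _ h1), fun hy => by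
      simpa [mul_assoc] using
        Subgroup.mul_mem _ (Subgroup.mul_mem _ (Subgroup.inv_mem _ h1) hy) h1⟩
  have hsyl : ∀ q : ℕ, q.Prime → q ∣ Nat.card T → ∃ A : Subgroup G, A ≤ T ∧ A ≠ ⊥ ∧
      IsPGroup q A ∧ t ∈ centralizer (A : Set G) ∧ IsMulCommutative (invGroup A (base H)) ∧
      (∀ v ∈ invGroup A (base H), v ≠ 1 → orderOf v = 2 ∧ v ∈ centralizer (A : Set G) ∧ v ∈ H) ∧
      ∀ u : G, orderOf u = 2 → u ∈ centralizer (A : Set G) → u ∈ H → ∀ g ∈ T, Commute g u := by
    intro q hq hqT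
    haveI := Fact.mk hq
    obtain ⟨S⟩ := (inferInstance : Nonempty (Sylow q T))
    haveI hSc := Sylow.characteristic_of_normal S inferInstance
    have hN := CfsgLib.PGroup.normalizer_le_normalizer_map_char T (S : Subgroup T)
    set A := (S : Subgroup T).map T.subtype with hA
    have hAT : A ≤ T := map_subtype_le _
    have hA1 : A ≠ ⊥ := fun e => by
      have h1 := (map_eq_bot_iff_of_injective _ T.subtype_injective).1 e
      exact S.ne_bot_of_dvd_card hqT h1
    have hAt : t ∈ centralizer (A : Set G) := mem_centralizer_iff.2 fun y hy =>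
      mem_centralizer_singleton_iff.1 (hAT hy).2
    have hpA : IsPGroup q A := S.isPGroup'.map _
    obtain ⟨h1, h2, h3⟩ := F.local_facts (hAT.trans inf_le_left) hpA hA1 hAt (hN hTz)
    exact ⟨A, hAT, hA1, hpA, hAt, h1, h2, fun u hu huA huH g hg => h3 g hg.1
      (hN (le_normalizer hg)) (mem_centralizer_singleton_iff.1 hg.2) u hu huA huH⟩
  have hcard : Nat.card T ≠ 1 := fun e => ha1 ((eq_bot_iff_forall T).1 (Subgroup.card_eq_one.1 e) a
    ⟨ha, mem_centralizer_singleton_iff.2 hat.eq⟩)
  obtain ⟨q, hq, hqT⟩ := Nat.exists_prime_and_dvd hcard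
  haveI := Fact.mk hq
  obtain ⟨A, hAT, hA1, hpA, hAt, hcomm, hmem, hJ⟩ := hsyl q hq hqT
  have hcen : ∀ {r : ℕ} {B : Subgroup G}, r.Prime → IsPGroup r B → B ≤ P → ∀ y ∈ P,
      ¬ r ∣ orderOf y → y ∈ centralizer (B : Set G) := by
    intro r B hr hB hBP y hy hry
    refine mem_centralizer_iff.2 fun b hb => (F.commute_coprime hy (hBP hb) ?_).eq.symm
    haveI := Fact.mk hr
    obtain ⟨k, hk⟩ := IsPGroup.iff_card.1 hB
    exact ((Nat.Coprime.pow_right k (Nat.coprime_comm.1 (hr.coprime_iff_not_dvd.2 hry)))).coprime_dvd_right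
      (hk ▸ Subgroup.orderOf_dvd_natCard _ hb)
  have huniq : ∀ r : ℕ, r.Prime → r ∣ Nat.card T → r = q := by
    intro r hr hrT
    by_contra hne
    obtain ⟨B, hBT, -, hpB, -, -, -, hJB⟩ := hsyl r hr hrT
    have e : invGroup A (base H) = invGroup B (base H) := by
      refine le_antisymm (Subgroup.closure_mono ?_) (Subgroup.closure_mono ?_)
      · rintro u ⟨hu, huA, hua⟩
        exact ⟨hu, mem_centralizer_iff.2 fun g hg => (hJ u hu huA (smul_base.1 hua) g (hBT hg)).eq, hua⟩
      · rintro u ⟨hu, huB, hua⟩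
        exact ⟨hu, mem_centralizer_iff.2 fun g hg => (hJB u hu huB (smul_base.1 hua) g (hAT hg)).eq, hua⟩
    refine hA1 (F.eq_bot_of_normalizes (hAT.trans inf_le_left) hmem hAt
      (le_of_prime_power_mem fun y hy l k hl hyo => ?_))
    have hyb : y ∈ stabilizer G (base H) := (F.P_le_pairStab hy).1
    by_cases hlq : l = q
    · rw [e]
      refine le_normalizer_invGroup (base H) ⟨centralizer_le_normalizer _
        (hcen hr hpB (hBT.trans inf_le_left) y hy fun hd => hne ?_), hyb⟩
      rw [hyo] at hd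
      exact ((Nat.prime_dvd_prime_iff_eq hr hl).1 (hr.dvd_of_dvd_pow hd)).trans hlq
    · refine le_normalizer_invGroup (base H) ⟨centralizer_le_normalizer _
        (hcen hq hpA (hAT.trans inf_le_left) y hy fun hd => hlq ?_), hyb⟩
      rw [hyo] at hd
      exact ((Nat.prime_dvd_prime_iff_eq hq hl).1 (hq.dvd_of_dvd_pow hd)).symm
  refine ⟨q, A, hq, F.P_pi q hq (hqT.trans (card_dvd_of_le inf_le_left)), hAT.trans inf_le_left, hA1,
    hpA, hAt, hcomm, hmem, ?_⟩
  intro y hy hyq u huH hu hyu
  obtain ⟨p, hp, rfl⟩ := F.trans u huH hu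
  have h1 : p⁻¹ * y * p ∈ T := ⟨P.mul_mem (P.mul_mem (P.inv_mem hp) hy) hp,
    mem_centralizer_singleton_iff.2 (by
      calc p⁻¹ * y * p * t = p⁻¹ * (y * (p * t * p⁻¹)) * p := by group
        _ = p⁻¹ * (p * t * p⁻¹ * y) * p := by rw [hyu.eq]
        _ = t * (p⁻¹ * y * p) := by group)⟩
  have h2 : orderOf (p⁻¹ * y * p) = orderOf y := by
    simpa using orderOf_injective (MulAut.conj p⁻¹).toMonoidHom (MulAut.conj p⁻¹).injective y
  refine orderOf_eq_one_iff.1 ?_
  by_contra hne
  obtain ⟨r, hr, hry⟩ := Nat.exists_prime_and_dvd hne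
  obtain rfl := huniq r hr (hry.trans (h2 ▸ Subgroup.orderOf_dvd_natCard _ h1))
  exact hr.one_lt.ne' (Nat.eq_one_of_dvd_coprimes hyq hry dvd_rfl)

/-- For a prime different from `q` the subgroups of prime power order of `P` are cyclic. -/
theorem isCyclic_of_semiregular {q : ℕ} (hq : q.Prime) {A : Subgroup G} (hAP : A ≤ P)
    (hpA : IsPGroup q A) (hAt : t ∈ centralizer (A : Set G))
    (hmem : ∀ v ∈ invGroup A (base H), v ≠ 1 → orderOf v = 2 ∧ v ∈ centralizer (A : Set G) ∧ v ∈ H)
    (hfree : ∀ y ∈ P, (orderOf y).Coprime q → ∀ u ∈ H, orderOf u = 2 → Commute y u → y = 1)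
    {r : ℕ} [hr : Fact r.Prime] (hrq : r ≠ q) (hrm : r ∣ numInv H) {R : Subgroup G} (hR : R ≤ P)
    (hpR : IsPGroup r R) : IsCyclic R := by
  haveI := Fact.mk hq
  have hcop : ∀ y ∈ R, (orderOf y).Coprime q := by
    intro y hy
    obtain ⟨k, hk⟩ := IsPGroup.iff_card.1 hpR
    exact Nat.Coprime.coprime_dvd_left (hk ▸ Subgroup.orderOf_dvd_natCard _ hy)
      (((Nat.coprime_primes hr.out hq).2 hrq).pow_left k)
  have hnorm : R ≤ normalizer (invGroup A (base H) : Set G) := by
    intro y hy
    refine le_normalizer_invGroup (base H) ⟨centralizer_le_normalizer _ ?_,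
      (F.P_le_pairStab (hR hy)).1⟩
    refine mem_centralizer_iff.2 fun b hb => (F.commute_coprime (hR hy) (hAP hb) ?_).eq.symm
    obtain ⟨k, hk⟩ := IsPGroup.iff_card.1 hpA
    exact ((hcop y hy).pow_right k).coprime_dvd_right (hk ▸ Subgroup.orderOf_dvd_natCard _ hb)
  have hfpf : CfsgLib.Coprime.IsFpfOn R (invGroup A (base H)) := by
    intro y hy hy1
    refine (eq_bot_iff_forall _).2 fun v hv => ?_
    by_contra hv1
    obtain ⟨hvo, -, hvH⟩ := hmem v hv.1 hv1
    exact hy1 (hfree y (hR hy) (hcop y hy) v hvH hvo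
      (mem_centralizer_singleton_iff.1 hv.2).symm)
  have hne : invGroup A (base H) ≠ ⊥ := fun e => invol_ne_one F.t_order
    ((eq_bot_iff_forall _).1 e t (subset_closure ⟨F.t_order, hAt, smul_base.2 F.t_mem⟩))
  have hu := CfsgLib.Coprime.isCyclic_of_uniqueOrderP_fpf hnorm hfpf hne (p := r) (⊤ : Subgroup R)
    (hpR.to_subgroup ⊤)
  exact Subgroup.topEquiv.isCyclic.1 (CfsgLib.Coprime.isCyclic_of_unique_odd
    (ne_two_of_dvd F.setting.se hrm F.ne.symm) (hpR.to_subgroup ⊤) hu)

/-- For a prime dividing the number of involutions, `P ⊓ involGen H` contains a Sylow subgroup of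
`involGen H`. -/
theorem not_dvd_relIndex_involGen {r : ℕ} (hr : r.Prime) (hrm : r ∣ numInv H) :
    ¬ r ∣ P.relIndex (involGen H) := by
  haveI := Fact.mk hr
  have hL := F.layer
  have h1 : ¬ r ∣ (pairStab (base H) x).relIndex L := by
    rw [CfsgLib.Bender.Transfer.relIndex_eq_of_sup hL.le (pairStab_base_le H x) hL.norm hL.sup]
    have h2 := F.setting.not_dvd_index hrm F.ne.symm (a := base H) (c := x)
    rwa [stabilizer_base] at h2
  intro hd
  have hNL : involGen H ⊔ P ≤ L := sup_le hL.involGen_le (F.P_le.trans inf_le_left)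
  rw [CfsgLib.Bender.Transfer.relIndex_eq_of_sup (H := involGen H ⊔ P) le_sup_left le_sup_right
    (sup_le le_normalizer (F.P_le_H.trans (le_normalizer_involGen H))) le_rfl] at hd
  have h3 : r ∣ P.relIndex L :=
    hd.trans (Dvd.intro _ (relIndex_mul_relIndex P (involGen H ⊔ P) L le_sup_right hNL))
  rw [← relIndex_mul_relIndex P (L ⊓ pairStab (base H) x) L F.P_le inf_le_left, inf_relIndex_left] at h3
  rcases (Nat.Prime.dvd_mul hr).1 h3 with h4 | h4
  · exact F.P_hall r hr hrm h4
  · exact h1 h4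

/-- The class of `t` in `involGen H` has size dividing the number of involutions. -/
theorem relIndex_centralizer_dvd :
    (centralizer ({t} : Set G)).relIndex (involGen H) ∣ numInv H := by
  have hCH : centralizer ({t} : Set G) ≤ H := fun g hg =>
    smul_base.1 (mem_stabilizer_iff.1 (centralizer_le_stabilizer F.setting.se F.t_order
      (smul_base.2 F.t_mem) hg))
  have h1 : (centralizer ({t} : Set G)).relIndex H = numInv H :=
    relIndex_eq_card (p := fun v => orderOf v = 2 ∧ v ∈ H) ⟨F.t_order, F.t_mem⟩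
      (fun d hd => ⟨invol_conj F.t_order d, H.mul_mem (H.mul_mem hd F.t_mem) (H.inv_mem hd)⟩)
      fun v hv => by
        obtain ⟨p, hp, e⟩ := F.trans v hv.2 hv.1
        exact ⟨p, F.P_le_H hp, e⟩
  rw [← h1, CfsgLib.Bender.Transfer.relIndex_eq_of_sup
    (H := involGen H ⊔ centralizer ({t} : Set G)) le_sup_left le_sup_right
    (sup_le le_normalizer (hCH.trans (le_normalizer_involGen H))) le_rfl]
  exact Dvd.intro _ (relIndex_mul_relIndex _ (involGen H ⊔ centralizer ({t} : Set G)) H le_sup_right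
    (sup_le (involGen_le H) hCH))

/-- (FPF) No non-identity element of `P` centralizes `t`. -/
theorem free_of_column : ∀ a ∈ P, Commute a t → a = 1 := by
  classical
  intro a ha hat
  by_contra ha1
  obtain ⟨q, A, hq, hqm, hAP, -, hpA, hAt, -, hmem, hfree⟩ := F.exists_prime_of_not_free ha hat ha1
  haveI := F.isSimple
  haveI := F.P_nilpotent
  set N := involGen H with hN
  set M := P.subgroupOf N with hM
  haveI : Group.IsNilpotent M :=
    Group.nilpotent_of_surjective
      ({ toFun := fun g => ⟨⟨g.1.1, g.2⟩, g.1.2⟩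
         map_one' := rfl
         map_mul' := fun _ _ => rfl } : N.subgroupOf P →* M)
      fun g => ⟨⟨⟨g.1.1, g.2⟩, g.1.2⟩, rfl⟩
  obtain ⟨v, hv⟩ := Monoid.exists_orderOf_eq_exponent (G := center M)
    Monoid.ExponentExists.of_finite
  have hvM : (((v : M) : N) : G) ∈ P := (v : M).2
  have hvcomm : ∀ g : N, g ∈ M → Commute ((v : M) : N) g := fun g hg =>
    congrArg Subtype.val ((mem_center_iff.1 v.2 ⟨g, hg⟩).symm)
  have hvo : orderOf ((v : M) : N) = Monoid.exponent (center M) := by
    rw [Subgroup.orderOf_coe, Subgroup.orderOf_coe, hv]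
  have hidx : ∀ r : ℕ, r.Prime → r ∣ numInv H → ¬ r ∣ M.index := fun r hr hrm =>
    F.not_dvd_relIndex_involGen hr hrm
  have hfac : ∀ r : ℕ, r.Prime → r ∣ numInv H →
      (Nat.card N).factorization r = (Nat.card M).factorization r := by
    intro r hr hrm
    rw [← card_mul_index M, Nat.factorization_mul Nat.card_pos.ne' index_ne_zero_of_finite,
      Finsupp.add_apply, Nat.factorization_eq_zero_of_not_dvd (hidx r hr hrm), add_zero]
  refine false_of_column F.not_commutative
    (t := (⟨t, F.invol_mem_involGen F.t_order F.t_mem⟩ : N)) (v := ((v : M) : N))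
    (fun e => invol_ne_one F.t_order (congrArg Subtype.val e)) ?_ hq ?_ ?_
  · intro hc
    obtain ⟨c, hc'⟩ := isConj_iff.1 hc
    have h2 : orderOf (((v : M) : N) : G) = 2 := by
      rw [Subgroup.orderOf_coe, ← hc']
      show orderOf (MulAut.conj c (⟨t, _⟩ : N)) = 2
      rw [MulEquiv.orderOf_eq, orderOf_mk, F.t_order]
    exact Nat.not_even_iff_odd.2 ((odd_pairStab F.setting.se F.ne.symm).of_dvd_nat
      (h2 ▸ Subgroup.orderOf_dvd_natCard _ (F.P_le_pairStab hvM))) even_two
  · intro hd
    exact hidx q hq hqm (hd.trans (index_dvd_of_le fun g hg =>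
      mem_centralizer_singleton_iff.2 (hvcomm g hg).eq.symm))
  intro r hr hrq hrt χ d hd hrd
  haveI := Fact.mk hr
  have hCt : (centralizer ({(⟨t, F.invol_mem_involGen F.t_order F.t_mem⟩ : N)} : Set N)) =
      (centralizer ({t} : Set G)).subgroupOf N := by
    ext g
    simp [mem_subgroupOf, mem_centralizer_singleton_iff, Subtype.ext_iff]
  have hrm : r ∣ numInv H := by
    rw [hCt] at hrt
    exact hrt.trans F.relIndex_centralizer_dvd
  obtain ⟨S⟩ := (inferInstance : Nonempty (Sylow r M))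
  have hcyc : IsCyclic (S : Subgroup M) := by
    let e := (((S : Subgroup M).equivMapOfInjective _ M.subtype_injective).trans
      (((S : Subgroup M).map M.subtype).equivMapOfInjective _ N.subtype_injective))
    refine e.isCyclic.2 (F.isCyclic_of_semiregular hq hAP hpA hAt hmem hfree hrq hrm ?_
      ((S.isPGroup'.map _).map _))
    rintro _ ⟨_, ⟨g, -, rfl⟩, rfl⟩
    exact g.2
  obtain ⟨⟨g, hgS⟩, hg⟩ := hcyc.exists_generator
  have hgo : orderOf g = r ^ (Nat.card M).factorization r := by
    rw [← S.card_eq_multiplicity, ← Subgroup.card_top (G := (S : Subgroup M)),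
      show (⊤ : Subgroup (S : Subgroup M)) = zpowers ⟨g, hgS⟩ from
        ((eq_top_iff' _).2 hg).symm, Nat.card_zpowers, Subgroup.orderOf_mk g hgS]
  have hgz : g ∈ center M := by
    have hle : (⊤ : Subgroup M) ≤ centralizer {g} := le_of_prime_power_mem fun y _ l k hl hyo => by
      refine mem_centralizer_singleton_iff.2 ?_
      by_cases hlr : l = r
      · subst hlr
        have hy : y ∈ (S : Subgroup M) := by
          have hp : IsPGroup l (zpowers y) :=
            IsPGroup.of_card (n := k) (by rw [Nat.card_zpowers, hyo])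
          obtain ⟨S', hS'⟩ := hp.exists_le_sylow
          haveI := Sylow.unique_of_normal S inferInstance
          rw [Subsingleton.elim S' S] at hS'
          exact hS' (mem_zpowers y)
        obtain ⟨i, hi⟩ := hg ⟨y, hy⟩
        have hy' : g ^ i = y := congrArg Subtype.val hi
        rw [← hy']
        exact ((Commute.refl g).zpow_left i).eq
      · refine (CfsgLib.CFun.commute_of_coprime_order ?_).eq
        rw [hyo, hgo]
        exact Nat.Coprime.pow _ _ ((Nat.coprime_primes hl hr).2 hlr)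
    exact mem_center_iff.2 fun y => mem_centralizer_singleton_iff.1 (hle (mem_top y))
  set a := (Nat.card M).factorization r
  have hdv : r ^ a ∣ orderOf ((v : M) : N) := by
    rw [hvo, ← hgo, ← Subgroup.orderOf_mk g hgz]
    exact Monoid.order_dvd_exponent _
  obtain ⟨o, ho⟩ := hdv
  have hro : ¬ r ∣ o := fun h1 => by
    refine Nat.pow_succ_factorization_not_dvd (Nat.card_pos (α := M)).ne' hr ?_
    refine dvd_trans ?_ (orderOf_dvd_natCard (v : M))
    rw [← Subgroup.orderOf_coe, ho, pow_succ]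
    exact mul_dvd_mul_left _ h1
  have hcop : (r ^ a).Coprime o := ((Nat.Prime.coprime_iff_not_dvd hr).2 hro).pow_left a
  set V : N := ((v : M) : N)
  have hVn : V ^ (r ^ a * o) = 1 := by rw [← ho, pow_orderOf_eq_one]
  have hra : orderOf (V ^ o) = r ^ a := by
    have ho0 : 0 < o := Nat.pos_of_ne_zero fun e => hro (e ▸ dvd_zero r)
    rw [orderOf_pow' _ ho0.ne', ho, Nat.gcd_eq_right (dvd_mul_left _ _), Nat.mul_div_cancel _ ho0]
  set A' := Nat.gcdA (r ^ a) o
  set B' := Nat.gcdB (r ^ a) o
  have hbez : ((r ^ a : ℕ) : ℤ) * A' + (o : ℤ) * B' = 1 := by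
    rw [← Nat.gcd_eq_gcd_ab, hcop.gcd_eq_one, Nat.cast_one]
  set u := (V ^ o) ^ B'
  set y := (V ^ (r ^ a)) ^ A'
  have huy : u * y = V := by
    simp only [u, y, ← zpow_natCast V, ← zpow_mul, ← zpow_add]
    rw [add_comm, hbez, zpow_one]
  have huz : zpowers u = zpowers (V ^ o) := by
    refine le_antisymm (zpowers_le.2 (zpow_mem (mem_zpowers _) _)) (zpowers_le.2 ?_)
    refine ⟨(o : ℤ), ?_⟩
    show u ^ (o : ℤ) = V ^ o
    have h1 : (V ^ o) ^ (((r ^ a : ℕ) : ℤ) * A') = 1 := by
      rw [zpow_mul, zpow_natCast, ← hra, pow_orderOf_eq_one, one_zpow]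
    calc u ^ (o : ℤ) = (V ^ o) ^ ((o : ℤ) * B') := by
          rw [← zpow_mul, mul_comm]
      _ = (V ^ o) ^ (((r ^ a : ℕ) : ℤ) * A' + (o : ℤ) * B') := by rw [zpow_add, h1, one_mul]
      _ = V ^ o := by rw [hbez, zpow_one]
  have hcard : Nat.card (zpowers u) = r ^ (Nat.card N).factorization r := by
    rw [huz, Nat.card_zpowers, hra, hfac r hr hrm]
  have hy : (orderOf y).Coprime r := by
    have h1 : orderOf y ∣ o := by
      refine orderOf_dvd_of_pow_eq_one ?_
      rw [← zpow_natCast, ← zpow_mul, mul_comm, zpow_mul, zpow_natCast, ← pow_mul, hVn, one_zpow]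
    exact Nat.Coprime.coprime_dvd_left h1 (Nat.coprime_comm.1 ((Nat.Prime.coprime_iff_not_dvd hr).2 hro))
  have hyu : Commute y u := ((((Commute.refl V).pow_left _).pow_right _).zpow_left _).zpow_right _
  rw [← huy]
  exact char_eq_zero_of_cyclic_sylow (Sylow.ofCard _ hcard) u (Sylow.coe_ofCard _ hcard) y hyu hy
    χ d hd hrd

end Fpf

end CfsgLib.Bender.Full
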