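import Cfsg.Agent.Lib.Bender.Full.TWeak.Fitting

/-!
# An element fixing two points is inverted by no involution fixing one of them

`tweak`: in the minimal counterexample `TWeak H`.  Only the core theorem is used, no induction.
-/

set_option autoImplicit false
set_option linter.style.haveILetI false
set_option linter.unusedSectionVars false

namespace CfsgLib.Bender.Full

open Subgroup MulAction
open CfsgLib.Coprime (IsSylowIn conjBy)
open CfsgLib.CFun (core isPGroup_core core_le le_normalizer_core)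
open CfsgLib.Invol (fixed_unique invol_conj invol_smul_smul invol_inv invol_mul_self invol_iff)

universe u

variable {G : Type u} [Group G] [Finite G] {H : Subgroup G}

namespace TW

/-- A fixed point free action: `C_A(g)` moves the fixed point `a` of `t`. -/
theorem exists_moved (h : MCtx H) {q p : ℕ} [hq : Fact q.Prime] [hp : Fact p.Prime] (hq2 : q ≠ 2)
    (hp2 : p ≠ 2) (hpq : p ≠ q) {g t : G} (hg : orderOf g = p) (ht : orderOf t = 2) (hinv : t * g * t⁻¹ = g⁻¹)
    {a : G ⧸ H} (hta : t • a = a) (hga : g • a = a) {A : Subgroup G} (hA : IsPGroup q A)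
    (hgA : g ∈ normalizer (A : Set G)) (htA : t ∈ normalizer (A : Set G))
    (haA : a ∉ fixSet A H) : ∃ e ∈ A, Commute e g ∧ e • a ≠ a := by
  by_contra hno
  push Not at hno
  set B := A ⊓ stabilizer G a with hB
  have hne : ¬ A ≤ B := fun hle => haA (hle.trans inf_le_right)
  obtain ⟨x, hxA, hxN, hxB⟩ := CfsgLib.Invol.exists_mem_normalizer_notMem hA inf_le_left hne
  set N := A ⊓ normalizer (B : Set G) with hN
  have hnB : ∀ w : G, w ∈ normalizer (A : Set G) → w • a = a → w ∈ normalizer (B : Set G) :=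
    fun w hwA hwa => mem_normalizer_iff.2 fun y => and_congr (mem_normalizer_iff.1 hwA y)
      (mem_normalizer_iff.1 (le_normalizer (mem_stabilizer_iff.2 hwa)) y)
  have hnN : ∀ w : G, w ∈ normalizer (A : Set G) → w • a = a → w ∈ normalizer (N : Set G) :=
    fun w hwA hwa => mem_normalizer_iff.2 fun y => and_congr (mem_normalizer_iff.1 hwA y)
      (mem_normalizer_iff.1 (le_normalizer (hnB w hwA hwa)) y)
  have hAodd : Odd (Nat.card A) := odd_card_of_isPGroup hq2 hA
  have hinvert : ∀ w : G, orderOf w = 2 → w ∈ normalizer (A : Set G) → w • a = a →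
      ∀ y ∈ N, w * y * w⁻¹ * y ∈ B := by
    intro w hw hwA hwa y hy
    set z := y⁻¹ * (w * y * w⁻¹) with hz
    have hwy : w * y * w⁻¹ ∈ N := (mem_normalizer_iff.1 (hnN w hwA hwa) y).1 hy
    have hzN : z ∈ N := mul_mem (inv_mem hy) hwy
    have hww : w * w = 1 := invol_mul_self hw
    have hzinv : w * z * w⁻¹ = z⁻¹ := by
      rw [hz, invol_inv hw, mul_inv_rev, inv_inv, mul_inv_rev, mul_inv_rev, invol_inv hw,
        show w * (y⁻¹ * (w * y * w)) * w = w * y⁻¹ * w * y * (w * w) by group, hww, mul_one]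
      group
    obtain ⟨k, hk⟩ := hAodd.of_dvd_nat (Subgroup.orderOf_dvd_natCard A hzN.1)
    set r := z ^ (k + 1) with hr
    have hrr : r * r = z := by
      rw [hr, ← pow_add, show k + 1 + (k + 1) = (2 * k + 1) + 1 by ring, pow_succ, ← hk,
        pow_orderOf_eq_one, one_mul]
    have hrinv : w * r * w⁻¹ = r⁻¹ := by rw [hr, ← conj_pow, hzinv, inv_pow]
    have hyr : w * (y * r) * w⁻¹ = y * r := by
      calc w * (y * r) * w⁻¹ = (w * y * w⁻¹) * (w * r * w⁻¹) := by group
        _ = y * z * r⁻¹ := by rw [hrinv, hz]; group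
        _ = y * r := by rw [← hrr]; group
    have hyrB : y * r ∈ B := ⟨mul_mem hy.1 (pow_mem hzN.1 _), centralizer_le_stabilizer h.se hw hwa
      (mem_centralizer_singleton_iff.2 (mul_inv_eq_iff_eq_mul.1 hyr).symm)⟩
    have hryB : r * y ∈ B := by
      have := (mem_normalizer_iff''.1 hy.2 (y * r)).1 hyrB
      simpa [mul_assoc] using this
    have e : w * y * w⁻¹ * y = (y * r) * (r * y) := by
      rw [show (y * r) * (r * y) = y * (r * r) * y by group, hrr, hz]; group
    rw [e]; exact mul_mem hyrB hryB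
  set y := t * x * t⁻¹ with hy
  have hyN : y ∈ N := (mem_normalizer_iff.1 (hnN t htA hta) x).1 ⟨hxA, hxN⟩
  have hgt : orderOf (g * t) = 2 := invol_iff.2 ⟨by
    rw [invol_inv ht] at hinv
    calc g * t * (g * t) = g * (t * g * t) := by group
      _ = 1 := by rw [hinv, mul_inv_cancel],
    fun e => by
      have h1 : g = t⁻¹ := eq_inv_of_mul_eq_one_left e
      rw [h1, invol_inv ht, ht] at hg
      exact hp2 hg.symm⟩
  have h1 : y * x ∈ B := hinvert t ht htA hta x ⟨hxA, hxN⟩
  have h2 : g * y * g⁻¹ * x ∈ B := by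
    have h3 := hinvert (g * t) hgt (mul_mem hgA htA) (by rw [mul_smul, hta, hga]) x ⟨hxA, hxN⟩
    rwa [show g * t * x * (g * t)⁻¹ = g * y * g⁻¹ by rw [hy]; group] at h3
  have hcomm : g * y * g⁻¹ * y⁻¹ ∈ B := by
    have h3 := mul_mem h2 (inv_mem h1)
    rwa [show g * y * g⁻¹ * x * (y * x)⁻¹ = g * y * g⁻¹ * y⁻¹ by group] at h3
  have hgB : g ∈ normalizer (B : Set G) := hnB g hgA hga
  have hpow : ∀ n : ℕ, g ^ n * y * (g ^ n)⁻¹ * y⁻¹ ∈ B := by
    intro n
    induction n with
    | zero => simp [one_mem]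
    | succ n ih =>
      rw [pow_succ', show g * g ^ n * y * (g * g ^ n)⁻¹ * y⁻¹ =
        (g * (g ^ n * y * (g ^ n)⁻¹ * y⁻¹) * g⁻¹) * (g * y * g⁻¹ * y⁻¹) by group]
      exact mul_mem ((mem_normalizer_iff.1 hgB _).1 ih) hcomm
  have hBq : IsPGroup q B := hA.to_le inf_le_left
  have hcop : (Nat.card (zpowers g)).Coprime (Nat.card B) := by
    obtain ⟨i, hi⟩ := IsPGroup.iff_card.1 hBq
    rw [Nat.card_zpowers, hg, hi]
    exact ((Nat.coprime_primes hp.out hq.out).2 hpq).pow_right i
  obtain ⟨n, hn, hyn⟩ := CfsgLib.Coprime.exists_fixed_in_coset (zpowers_le.2 hgB) hcop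
    (Or.inl (CfsgLib.Coprime.isSolvable_of_isMulCommutative inferInstance)) hyN.2 fun c hc => by
      obtain ⟨n, rfl⟩ := (mem_powers_iff_mem_zpowers (x := g)).2 hc
      exact hpow n
  have hy2 : y * n ∈ B := ⟨mul_mem hyN.1 hn.1, mem_stabilizer_iff.2 (hno _ (mul_mem hyN.1 hn.1)
    (mem_centralizer_iff.1 hyn g (mem_zpowers g)).symm)⟩
  have hyB : y ∈ B := by simpa using mul_mem hy2 (inv_mem hn)
  refine hxB ?_
  have h3 := mul_mem (inv_mem hyB) h1
  rwa [inv_mul_cancel_left] at h3

/-- The case of prime order. -/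
theorem false_of_prime (h : MCtx H) (hnc : NC H) {p : ℕ} [hp : Fact p.Prime] {g t : G} {a c : G ⧸ H}
    (hg : orderOf g = p) (ht : orderOf t = 2) (hta : t • a = a) (hca : c ≠ a) (hga : g • a = a)
    (hgc : g • c = c) (hinv : t * g * t⁻¹ = g⁻¹) : False := by
  set c' := t • c with hc'
  have hne : c ≠ c' := fun e => hca (fixed_unique h.se ht e.symm hta)
  have hac' : a ≠ c' := fun e => hca (smul_left_cancel t ((hc'.symm.trans e.symm).trans hta.symm))
  have hgc' : g • c' = c' := by
    have e : g * t = t * g⁻¹ := by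
      rw [← hinv, invol_inv ht, ← mul_assoc, ← mul_assoc, invol_mul_self ht, one_mul]
    rw [hc', smul_smul, e, mul_smul, inv_smul_eq_iff.2 hgc.symm]
  have hg1 : g ≠ 1 := fun e => hp.out.ne_one (by rw [← hg, e, orderOf_one])
  have hgD : g ∈ pairStab c c' := ⟨mem_stabilizer_iff.2 hgc, mem_stabilizer_iff.2 hgc'⟩
  have hgodd : Odd p := hg ▸ (odd_pairStab h.se hne).of_dvd_nat (Subgroup.orderOf_dvd_natCard _ hgD)
  have hp2 : p ≠ 2 := by rintro rfl; exact absurd hgodd (by decide)
  have hgfix : ∀ {d : G ⧸ H}, g • d = d → d ∈ fixSet (zpowers g) H := fun hd =>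
    zpowers_le.2 (mem_stabilizer_iff.2 hd)
  have hPp : IsPGroup p (zpowers g) := IsPGroup.of_card (n := 1) (by
    rw [Nat.card_zpowers, hg, pow_one])
  have hI : ¬ Two H p := fun hII => by
    obtain ⟨w, hw, -, hwg⟩ := exists_centralizing h hII hp2 hPp
      (two_lt_ncard (hgfix hga) (hgfix hgc) (hgfix hgc') hca.symm hac' hne) (hgfix hga)
    exact bad h hne ht rfl hgc hgc' hg1 hinv hw (mem_centralizer_iff.1 hwg g (mem_zpowers g)).symm
  obtain ⟨q, hq, hq2, hcore, hII⟩ := exists_two_core h hnc hne (fun e =>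
    hg1 (mem_bot.1 (e.le hgD)))
  haveI := Fact.mk hq
  have hpq : p ≠ q := fun e => hI (e ▸ hII)
  -- cores at `q` fix exactly two points
  have htwo : ∀ {i j : G ⧸ H}, i ≠ j → ∀ z ∈ fixSet (core (pairStab i j) q) H, z = i ∨ z = j := by
    intro i j hij z hz
    obtain ⟨k, hki, hkj⟩ := h.toCore.exists_pair_map hne hij
    have hne' : core (pairStab i j) q ≠ ⊥ := by
      rw [← hki, ← hkj, ← Core.Ctx.conjBy_pairStab, ← core_conjBy]
      intro e
      exact hcore (card_eq_one.1 (by rw [← CfsgLib.Coprime.card_conjBy k, e, Subgroup.card_bot]))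
    by_contra hcon
    push Not at hcon
    have hi : i ∈ fixSet (core (pairStab i j) q) H := core_le.trans inf_le_left
    have hj : j ∈ fixSet (core (pairStab i j) q) H := core_le.trans inf_le_right
    obtain ⟨w, hw, hwi, hwC⟩ := exists_centralizing h hII hq2 isPGroup_core
      (two_lt_ncard hz hi hj hcon.1 hcon.2 hij) hi
    exact false_of_normalized h hnc hne' (odd_card_of_isPGroup hq2 isPGroup_core) hij.symm hi hj
      le_normalizer_core hw hwi (CfsgLib.Coprime.centralizer_le_normalizer_self _ hwC)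
  obtain ⟨e, -, hec, hea⟩ := exists_moved h hq2 hp2 hpq hg ht hinv hta hga
    (A := core (pairStab c c') q) isPGroup_core (le_normalizer_core hgD)
    (Bad.normalizer_le_normalizer_core _ q (mem_normalizer_pairStab ht rfl))
    fun e => (htwo hne a e).elim hca.symm hac'
  set d := e • a with hd
  set M := normalizer (zpowers g : Set G) with hM
  have hgd : g • d = d := by rw [hd, smul_smul, ← hec.eq, mul_smul, hga]
  have hnorm : ∀ w : G, w * g * w⁻¹ ∈ zpowers g → w ∈ M := fun w hw =>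
    mem_normalizer_fintype fun z hz => by
      obtain ⟨k, rfl⟩ := hz
      show w * g ^ k * w⁻¹ ∈ zpowers g
      rw [← conj_zpow]
      exact zpow_mem hw _
  have htM : t ∈ M := hnorm t (by rw [hinv]; exact inv_mem (mem_zpowers g))
  have heM : e ∈ M := hnorm e (by rw [hec.eq, mul_inv_cancel_right]; exact mem_zpowers g)
  have hlone : Lonely M := (lonely_of_one htM ht fun w hwM hw hcomm => by
    by_contra hne'
    have h1 := centralizes_of_pair h (odd_card_of_isPGroup hp2 hPp) (hgfix hgc) hca ht hw (Ne.symm hne')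
      hcomm hta htM hwM
    have h2 : t * g * t⁻¹ = g := by
      rw [← mem_centralizer_iff.1 h1 g (mem_zpowers g), mul_inv_cancel_right]
    exact hg1 (Bad.eq_one_of_sq (hg ▸ hgodd) (mul_eq_one_iff_eq_inv.2 (h2.symm.trans hinv)))).1
  set t' := e * t * e⁻¹ with ht'
  have ht'o : orderOf t' = 2 := invol_conj ht e
  have ht'd : t' • d = d := CfsgLib.Invol.conj_fixes.2 hta
  have ht'M : t' ∈ M := mul_mem (mul_mem heM htM) (inv_mem heM)
  have hinv' : t' * g * t'⁻¹ = g⁻¹ := by
    calc t' * g * t'⁻¹ = e * (t * (e⁻¹ * g * e) * t⁻¹) * e⁻¹ := by rw [ht']; group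
      _ = e * (t * g * t⁻¹) * e⁻¹ := by rw [mul_assoc e⁻¹ g e, ← hec.eq, inv_mul_cancel_left]
      _ = g⁻¹ := by rw [hinv, hec.inv_right.eq, mul_inv_cancel_right]
  have hO : t * t' ∈ coreOf M := mul_mem_coreOf hlone htM ht'M ht ht'o
  obtain ⟨o, hoz, hoe⟩ := CfsgLib.Invol.exists_conj_eq_of_odd ht ht'o
    ((odd_coreOf M).of_dvd_nat (Subgroup.orderOf_dvd_natCard _ hO))
  have hoO : o ∈ coreOf M := zpowers_le.2 hO hoz
  have hoa : o • a = d := fixed_unique h.se ht'o (by
    rw [← hoe]; exact CfsgLib.Invol.conj_fixes.2 hta) ht'd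
  have hog : Commute o g := by
    obtain ⟨k, rfl⟩ := hoz
    refine Commute.zpow_left ?_ k
    show t * t' * g = g * (t * t')
    have h1 : t * t' * g * (t * t')⁻¹ = g := by
      calc t * t' * g * (t * t')⁻¹ = t * (t' * g * t'⁻¹) * t⁻¹ := by group
        _ = (t * g * t⁻¹)⁻¹ := by rw [hinv']; group
        _ = g := by rw [hinv, inv_inv]
    exact mul_inv_eq_iff_eq_mul.1 h1
  have hoinv : t * o * t⁻¹ = o⁻¹ := by
    obtain ⟨k, rfl⟩ := hoz
    refine (CfsgLib.Invol.conj_zpow_of_inverts ?_ k).trans (zpow_neg _ k)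
    rw [mul_inv_rev, invol_inv ht'o, invol_inv ht, ← mul_assoc, invol_mul_self ht, one_mul]
  set u := o * t with hu
  have hu2 : u * u = 1 := by
    rw [invol_inv ht] at hoinv
    calc u * u = o * (t * o * t) := by rw [hu]; group
      _ = 1 := by rw [hoinv, mul_inv_cancel]
  have hua : u • a = d := by rw [hu, mul_smul, hta, hoa]
  have hda : d ≠ a := hea
  have huo : orderOf u = 2 := invol_iff.2 ⟨hu2, fun e => hda (by rw [← hua, e, one_smul])⟩
  have huinv : u * g * u⁻¹ = g⁻¹ := by
    calc u * g * u⁻¹ = o * (t * g * t⁻¹) * o⁻¹ := by rw [hu]; group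
      _ = g⁻¹ := by rw [hinv, hog.inv_right.eq, mul_inv_cancel_right]
  have huM : u ∈ M := mul_mem (coreOf_le _ hoO) htM
  obtain ⟨z₀, huz⟩ := exists_fixed h.se huo
  have hgz : g • z₀ = z₀ := by
    obtain ⟨k, hk, -, hkz⟩ := exists_core_smul h hlone htM huM ht huo hta huz
    exact smul_eq_of_mem (hkz ▸ smul_mem_fixSet (coreOf_le _ hk) (hgfix hga)) (mem_zpowers g)
  have hza : z₀ ≠ a := fun e => hda (by rw [← hua]; exact e ▸ huz)
  have hzd : z₀ ≠ d := fun e => hda (by
    rw [← invol_smul_smul huo a, hua]; exact (e ▸ huz).symm)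
  have hgD' : g ∈ pairStab a d := ⟨mem_stabilizer_iff.2 hga, mem_stabilizer_iff.2 hgd⟩
  set A' := core (pairStab a d) q
  have huA : u ∈ normalizer (A' : Set G) :=
    Bad.normalizer_le_normalizer_core _ q (mem_normalizer_pairStab huo hua)
  obtain ⟨f, hfA, hfc, hfz⟩ := exists_moved h hq2 hp2 hpq hg huo huinv huz hgz (A := A') isPGroup_core
    (le_normalizer_core hgD') huA fun e => (htwo hda.symm z₀ e).elim hza hzd
  set w := f⁻¹ * (u * f * u⁻¹) with hw
  have hwA : w ∈ A' := mul_mem (inv_mem hfA) ((mem_normalizer_iff.1 huA f).1 hfA)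
  have hw1 : w ≠ 1 := fun e => hfz (mem_stabilizer_iff.1 (centralizer_le_stabilizer h.se huo huz
    (mem_centralizer_singleton_iff.2 (by
      rw [hw, inv_mul_eq_one, eq_mul_inv_iff_mul_eq] at e
      exact e))))
  clear_value u
  have hwinv : u * w * u⁻¹ = w⁻¹ := by
    rw [hw, invol_inv huo, mul_inv_rev, inv_inv, mul_inv_rev, mul_inv_rev, invol_inv huo,
      show u * (f⁻¹ * (u * f * u)) * u = u * f⁻¹ * u * f * (u * u) by group, hu2, mul_one]
    group
  have hwg : Commute w g := by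
    refine (hfc.inv_left).mul_left ?_
    have h1 : Commute (u * f * u⁻¹) g⁻¹ := huinv ▸ hfc.map (MulAut.conj u).toMonoidHom
    simpa using h1.inv_right
  have hwD : w ∈ pairStab a d := core_le hwA
  have hwq : IsPGroup q (zpowers w) := isPGroup_core.to_le (zpowers_le.2 hwA)
  exact false_of_lonely_two h hII hq2 hwq
    (zpowers_le.2 (hnorm w (by rw [hwg.eq, mul_inv_cancel_right]; exact mem_zpowers g))) hoO hoa
    hda.symm (fix_two_of_inverted h hII hq2 hda.symm huo hua (mem_stabilizer_iff.1 hwD.1)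
      (mem_stabilizer_iff.1 hwD.2) hw1 hwq hwinv)

end TW

/-- An element fixing two points and inverted by an involution fixing one of them is trivial. -/
theorem tweak (h : MCtx H) : TWeak H := by
  intro g t a c ht hta hca hga hgc hinv
  have hodd : Odd (orderOf g) := (odd_pairStab h.se hca.symm).of_dvd_nat
    (Subgroup.orderOf_dvd_natCard _ (x := g)
      ⟨mem_stabilizer_iff.2 hga, mem_stabilizer_iff.2 hgc⟩)
  by_cases hcomm : ∀ s₁ s₂ : G, orderOf s₁ = 2 → orderOf s₂ = 2 → s₁ • a = a → s₂ • a = a →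
      Commute s₁ s₂
  · have h1 : Commute t (g * t * g⁻¹) := hcomm _ _ ht (invol_conj ht g) hta (by
      rw [mul_smul, mul_smul, inv_smul_eq_iff.2 hga.symm, hta, hga])
    have h2 : g * t * g⁻¹ = g * g * t := by
      rw [← hinv, ← mul_assoc, ← mul_assoc, invol_inv ht, show g * t * t = g * (t * t) by group]
      simp [invol_mul_self ht, mul_assoc]
    have h3 : (g * g) * (g * g) = 1 := by
      have h4 : g * g * t * (g * g * t) = 1 := by
        rw [← h2]; exact invol_mul_self (invol_conj ht g)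
      have h5 : g * g * t * t = t * (g * g * t) := by rw [← h2]; exact h1.eq.symm
      rw [mul_assoc (g * g) t t, invol_mul_self ht, mul_one] at h5
      rw [mul_assoc (g * g) t, ← h5] at h4
      exact h4
    have h4 : Odd (orderOf (g * g)) := hodd.of_dvd_nat (by rw [← pow_two]; exact orderOf_pow_dvd 2)
    exact Bad.eq_one_of_sq hodd (Bad.eq_one_of_sq h4 h3)
  push Not at hcomm
  obtain ⟨s₁, s₂, h1, h2, h1a, h2a, h12⟩ := hcomm
  have hnc : TW.NC H := by
    intro b
    obtain ⟨k, rfl⟩ := MulAction.exists_smul_eq G a b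
    refine ⟨k * s₁ * k⁻¹, k * s₂ * k⁻¹, invol_conj h1 k, invol_conj h2 k,
      CfsgLib.Invol.conj_fixes.2 h1a, CfsgLib.Invol.conj_fixes.2 h2a, fun e => h12 ?_⟩
    simpa [mul_assoc] using e.map (MulAut.conj k⁻¹).toMonoidHom
  by_contra hg1
  obtain ⟨p, hp, hpg⟩ := Nat.exists_prime_and_dvd (n := orderOf g)
    (fun e => hg1 (orderOf_eq_one_iff.1 e))
  haveI := Fact.mk hp
  have hfix : ∀ {z : G ⧸ H}, g • z = z → g ^ (orderOf g / p) • z = z := fun hz =>
    mem_stabilizer_iff.1 (pow_mem (mem_stabilizer_iff.2 hz) _)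
  exact TW.false_of_prime h hnc (g := g ^ (orderOf g / p))
    (orderOf_pow_orderOf_div (orderOf_pos g).ne' hpg) ht hta hca (hfix hga) (hfix hgc)
    (by rw [← conj_pow, hinv, inv_pow])

end CfsgLib.Bender.Full
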