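import Cfsg.Agent.Lib.Bender.Full.Cyclic.PiCentral
import Cfsg.Agent.Lib.Bender.Full.Cyclic.ToFpf
import Cfsg.Agent.Lib.Bender.Full.CaseNonlonely
import Cfsg.Agent.Lib.Bender.Full.CaseCommute
import Cfsg.Agent.Lib.Bender.Full.FpfStab
import Cfsg.Agent.Lib.Bender.Full.FpfFree.Stab
import Cfsg.Agent.Lib.Bender.Full.TWeak
import Cfsg.Agent.S1221

/-!
# Bender's structure theorem: assembly of the cases
-/

set_option autoImplicit false
set_option linter.style.haveILetI false
set_option linter.unusedSectionVars false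

namespace CfsgLib.Bender.Full

open Subgroup MulAction

universe u

variable {G : Type u} [Group G] [Finite G] {H : Subgroup G}

/-- A lonely cyclic Sylow subgroup lowers its layer if the involutions do not commute. -/
theorem Cyc.canLower {x : G ⧸ H} {L R : Subgroup G} {s : ℕ} {z t : G} (C : Cyc H x L R s z t)
    (hnc : ∃ u ∈ H, ∃ v ∈ H, orderOf u = 2 ∧ orderOf v = 2 ∧ ¬ Commute u v) :
    CanLower (pairStab (base H) x) L := by
  by_cases hpi : ∃ a ∈ L ⊓ pairStab (base H) x, (orderOf a).Prime ∧ orderOf a ∣ numInv H ∧ Commute a z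
  · obtain ⟨a, ha, h1, h2, h3⟩ := hpi
    exact C.canLower_of_central_pi ha h1 h2 h3
  · push Not at hpi
    obtain ⟨P, w, F⟩ := C.exists_fpf hnc hpi
    exact (F.false_of_free C F.free_of_column).elim

/-- The structure of the point stabilizer in the minimal counterexample. -/
theorem Setting.regular_of (h : Setting H)
    (hhole : ∀ {S R : Subgroup G} {x : G ⧸ H} {s : ℕ}, Hole.Torus H S R x s → H.normalCore = ⊥ →
      (∃ g ∈ H, (∃ j : ℕ, g ^ 2 ^ j = 1) ∧ ∃ u ∈ H, orderOf u = 2 ∧ ¬ Commute g u) → False) :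
    Regular H := by
  classical
  obtain ⟨x, hx⟩ := h.toMCtx.exists_ne_base
  set D := pairStab (base H) x with hD
  by_cases hc : (∀ u ∈ H, ∀ v ∈ H, orderOf u = 2 → orderOf v = 2 → Commute u v) ∧
      ∃ (s : ℕ) (z : G), s.Prime ∧ ¬ s ∣ numInv H ∧ z ∈ D ∧ orderOf z = s ∧ ¬ Nonlonely (zpowers z)
  · obtain ⟨hcomm, s, z, hs, hsm, hz, hzo, hlon⟩ := hc
    haveI := Fact.mk hs
    exact h.regular_of_commute_of hx hcomm hsm hz hzo hlon fun _ _ T => hhole T
  · refine h.regular_of_step hx fun L hL hne => ?_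
    have hodd : Odd (Nat.card ↥(L ⊓ D)) :=
      (odd_pairStab h.se hx.symm).of_dvd_nat (card_dvd_of_le inf_le_right)
    obtain ⟨q, R, hq, hR, hRne⟩ := exists_sylow_not_le_commutator
      (CfsgLib.Bender.isSolvable_of_odd_card hodd) hne
    haveI := Fact.mk hq
    by_cases hqm : q ∣ numInv H
    · exact h.canLower_of_dvd hx hL hqm hR hRne
    rcases h.canLower_or_cyclic hx hL hqm hR hRne with hlow | ⟨hcyc, z, hz, hzo, hlon⟩
    · exact hlow
    obtain ⟨t, C⟩ := exists_cyc h hx hL hqm hR hRne hcyc hz hzo hlon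
    refine C.canLower ?_
    by_contra hno
    push Not at hno
    exact hc ⟨hno, q, z, hq, hqm, (hR.1 hz).2, hzo, hlon⟩

/-- The statement of the core theorem for strongly embedded subgroups. -/
theorem coreThm : CfsgLib.Bender.Bad.CoreThm.{u} := fun _ _ _ H hH => Cfsg.Agent.S1221.result H hH

/-- Bender's structure theorem, given that the last commuting case is impossible. -/
theorem fullStatement_of_hole
    (hhole : ∀ {X : Type u} [Group X] [Finite X] {M S R : Subgroup X} {x : X ⧸ M} {s : ℕ},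
      Hole.Torus M S R x s → M.normalCore = ⊥ →
      (∃ g ∈ M, (∃ j : ℕ, g ^ 2 ^ j = 1) ∧ ∃ u ∈ M, orderOf u = 2 ∧ ¬ Commute g u) → False) :
    FullStatement.{u} :=
  fullStatement_of_regular (fun _ _ _ _ h => Setting.regular_of ⟨h, tweak h⟩ hhole) coreThm

end CfsgLib.Bender.Full
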