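import Cfsg.Agent.Lib.Bender.Full.Local
import Cfsg.Agent.Lib.Bender.Transfer.Engine

/-!
# Elements with controlled fusion in a point stabilizer

An element of prime power order of a pair is controlled if its prime divides the number of
involutions or its centralizer has two commuting involutions.
-/

set_option autoImplicit false
set_option linter.style.haveILetI false
set_option linter.unusedSectionVars false

namespace CfsgLib.Bender.Full

open Subgroup MulAction
open CfsgLib.Bender.Transfer (twoGen Controlled)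

universe u

variable {G : Type u} [Group G] [Finite G] {H : Subgroup G}

theorem Setting.controlled_of (h : Setting H) {x : G ⧸ H} (hx : x ≠ base H) {q : ℕ} [Fact q.Prime]
    {y : G} (hy : y ∈ pairStab (base H) x) (hyq : IsPGroup q (zpowers y))
    (hgood : q ∣ numInv H ∨ Nonlonely (zpowers y)) : Controlled H (pairStab (base H) x) y := by
  intro k g hg hne hgk
  set z := y ^ k with hz
  have hzq : IsPGroup q (zpowers z) := hyq.to_le (zpowers_le.2 (pow_mem (mem_zpowers y) k))
  have hgb : g • base H = base H := smul_base.2 hg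
  rcases eq_or_ne (g • x) x with e | hgx
  · refine ⟨1, one_mem _, Commute.one_left _, ?_⟩
    rw [inv_one, one_mul]
    exact ⟨mem_stabilizer_iff.2 hgb, mem_stabilizer_iff.2 e⟩
  have hgxb : g • x ≠ base H := fun e => hx (smul_left_cancel g (e.trans hgb.symm))
  have hzgx : z • g • x = g • x := by
    have h1 := mem_stabilizer_iff.1 hgk.2
    rwa [mul_smul, mul_smul, inv_smul_eq_iff] at h1
  have hzD : z ∈ pairStab (base H) x := pow_mem hy k
  have hb : base H ∈ fixSet (zpowers z) H := zpowers_le.2 hzD.1
  have hzx : x ∈ fixSet (zpowers z) H := zpowers_le.2 hzD.2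
  have hzg : g • x ∈ fixSet (zpowers z) H := zpowers_le.2 (mem_stabilizer_iff.2 hzgx)
  have h3 : 2 < (fixSet (zpowers z) H).ncard := (Set.two_lt_ncard_iff (Set.toFinite _)).2
    ⟨base H, x, g • x, hb, hzx, hzg, hx.symm, hgxb.symm, hgx.symm⟩
  have hN : Nonlonely (zpowers z) := hgood.elim (fun hq => h.nonlonely_of_dvd hq hzq hb h3)
    fun hN => hN.mono (zpowers_le.2 (pow_mem (mem_zpowers y) k))
  obtain ⟨P, hP⟩ := h.exists_localData hzq (zpowers_ne_bot.2 hne) hN hb h3
  obtain ⟨c, hc, hc2, hcx, -⟩ := hP.exists_two_map h hzx hx (R := ⊥) bot_le (show ⊥ ≤ stabilizer G x from bot_le) hzg (show ⊥ ≤ stabilizer G (g • x) from bot_le) hgxb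
  refine ⟨c, CfsgLib.Bender.Transfer.mem_twoGen ?_ hc2, ?_, ?_⟩
  · exact smul_base.1 (mem_stabilizer_iff.1 (hP.le hc).2)
  · exact (mem_centralizer_iff.1 (hP.le hc).1 z (mem_zpowers z)).symm
  · refine ⟨mem_stabilizer_iff.2 ?_, mem_stabilizer_iff.2 ?_⟩
    · rw [mul_smul, hgb, inv_smul_eq_iff, mem_stabilizer_iff.1 (hP.le hc).2]
    · rw [mul_smul, ← hcx, inv_smul_smul]

end CfsgLib.Bender.Full
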