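import Cfsg.Agent.Lib.Bender.Full.Statement
import Cfsg.Agent.Lib.Bender.Bad.Main
import Cfsg.Agent.Lib.Bender.Core.Setup

/-!
# The structure of a strongly embedded subgroup: the minimal counterexample

`MCtx H`: a strongly embedded core-free subgroup of a group with two commuting involutions, the
core theorem, and the structure theorem for all groups of smaller order.
`TWeak H`: an element fixing two points is inverted by no involution fixing one of them unless it is
trivial.
-/

set_option autoImplicit false

namespace CfsgLib.Bender.Full

open Subgroup MulAction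

universe u

/-- `H` has a normal two-subgroup regular on the other cosets. -/
def Regular {G : Type u} [Group G] (H : Subgroup G) : Prop :=
  ∃ Q : Subgroup G, Q ≤ H ∧ H ≤ Subgroup.normalizer (Q : Set G) ∧ IsPGroup 2 Q ∧
    ∀ g k : G, g ∉ H → k ∉ H → ∃! x, x ∈ Q ∧ k⁻¹ * (x * g) ∈ H

/-- The structure theorem for all groups of order smaller than `n`. -/
def FullBelow (n : ℕ) : Prop :=
  ∀ (X : Type u) [Group X] [Finite X] (M : Subgroup X), Nat.card X < n →
    Cfsg.IsStronglyEmbedded M → M.normalCore = ⊥ → CfsgLib.Bender.HasPair X → Regular M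

/-- The minimal counterexample. -/
structure MCtx {G : Type u} [Group G] (H : Subgroup G) : Prop where
  se : Cfsg.IsStronglyEmbedded H
  core : H.normalCore = ⊥
  pair : CfsgLib.Bender.HasPair G
  coreThm : CfsgLib.Bender.Bad.CoreThm.{u}
  ind : FullBelow.{u} (Nat.card G)

/-- An element fixing two points and inverted by an involution fixing one of them is trivial. -/
def TWeak {G : Type u} [Group G] (H : Subgroup G) : Prop :=
  ∀ (g t : G) (a c : G ⧸ H), orderOf t = 2 → t • a = a → c ≠ a → g • a = a → g • c = c →
    t * g * t⁻¹ = g⁻¹ → g = 1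

/-- The setting after T-weak. -/
structure Setting {G : Type u} [Group G] (H : Subgroup G) : Prop extends MCtx H where
  tweak : TWeak H

/-- The base point. -/
abbrev base {G : Type u} [Group G] (H : Subgroup G) : G ⧸ H := ((1 : G) : G ⧸ H)

variable {G : Type u} [Group G] [Finite G] {H : Subgroup G}

theorem MCtx.toCore (h : MCtx H) : CfsgLib.Bender.Core.Ctx H where
  se := h.se
  pair := h.pair
  core := h.core
  ind L _ M hM := (map_mono (le_refl _)).trans (h.coreThm L M hM)

theorem fullStatement_of_regular
    (h : ∀ (X : Type u) [Group X] [Finite X] (M : Subgroup X), MCtx M → Regular M)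
    (hcore : CfsgLib.Bender.Bad.CoreThm.{u}) : FullStatement.{u} := by
  suffices key : ∀ (n : ℕ) (X : Type u) [Group X] [Finite X] (M : Subgroup X), Nat.card X = n →
      Cfsg.IsStronglyEmbedded M → M.normalCore = ⊥ → CfsgLib.Bender.HasPair X → Regular M by
    intro X _ _ M hM hc hp
    exact key _ X M rfl hM hc hp
  intro n
  induction n using Nat.strong_induction_on with
  | _ n ih =>
    intro X _ _ M hn hM hc hp
    exact h X M ⟨hM, hc, hp, hcore, fun Y _ _ N hY => ih _ (hn ▸ hY) Y N rfl⟩

end CfsgLib.Bender.Full
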