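import Cfsg.Agent.Lib.Bender.Transfer.Engine
import Cfsg.Agent.Lib.Bender.Good

/-!
# Transfer at one prime

`qKer q L` is generated by the commutators and the elements of order prime to `q` of `L`.  If a Sylow
`q`-subgroup `R` of `L ⊓ D` is Sylow in `L` and generated by controlled elements modulo
`(L ⊓ D)'` without lying in it, then `qKer q L` is smaller than `L`.
-/

set_option autoImplicit false
set_option linter.style.haveILetI false
set_option linter.unusedSectionVars false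

namespace CfsgLib.Bender.Full

open Subgroup
open scoped commutatorElement
open CfsgLib.Coprime (IsSylowIn)
open CfsgLib.Bender.Transfer (twoGen Controlled)

universe u

variable {G : Type u} [Group G]

/-- The commutators and the elements of order prime to `q` of `L`. -/
def qKer (q : ℕ) (L : Subgroup G) : Subgroup G :=
  ⁅L, L⁆ ⊔ closure {g : G | g ∈ L ∧ ¬ q ∣ orderOf g}

theorem qKer_le (q : ℕ) (L : Subgroup G) : qKer q L ≤ L :=
  sup_le (commutator_le.2 fun a ha b hb => by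
    rw [commutatorElement_def]
    exact L.mul_mem (L.mul_mem (L.mul_mem ha hb) (L.inv_mem ha)) (L.inv_mem hb))
    ((closure_le _).2 fun _ h => h.1)

theorem le_normalizer_qKer (q : ℕ) (L : Subgroup G) :
    normalizer (L : Set G) ≤ normalizer (qKer q L : Set G) := by
  have key : ∀ n ∈ normalizer (L : Set G), (qKer q L).map (MulAut.conj n).toMonoidHom ≤ qKer q L := by
    intro n hn
    have hL : L.map (MulAut.conj n).toMonoidHom ≤ L := by
      rintro _ ⟨x, hx, rfl⟩
      exact (mem_normalizer_iff.1 hn x).1 hx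
    rw [qKer, Subgroup.map_sup, map_commutator, MonoidHom.map_closure]
    refine sup_le_sup (commutator_mono hL hL) (Subgroup.closure_mono ?_)
    rintro _ ⟨x, ⟨hx, hxo⟩, rfl⟩
    exact ⟨hL ⟨x, hx, rfl⟩, by rwa [orderOf_injective _ (MulAut.conj n).injective]⟩
  intro n hn
  exact mem_normalizer_iff.2 fun x => ⟨fun hx => key n hn ⟨x, hx, rfl⟩, fun hx => by
    simpa [mul_assoc] using key n⁻¹ (inv_mem hn) ⟨_, hx, rfl⟩⟩

theorem twoGen_le_qKer [Finite G] {q : ℕ} (hq : q.Prime) (hq2 : q ≠ 2) {H L : Subgroup G}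
    (htwo : twoGen H ≤ L) : twoGen H ≤ qKer q L := by
  refine (closure_le _).2 fun g hg => mem_sup_right (subset_closure ⟨htwo (subset_closure hg), ?_⟩)
  obtain ⟨-, j, hj⟩ := hg
  intro hd
  exact hq2 ((Nat.prime_dvd_prime_iff_eq hq Nat.prime_two).1
    (hq.dvd_of_dvd_pow (hd.trans (orderOf_dvd_of_pow_eq_one hj))))

/-- A Sylow `q`-subgroup of `L` supplements `qKer q L`. -/
theorem le_qKer_sup [Finite G] {q : ℕ} [hq : Fact q.Prime] {L R : Subgroup G}
    (hR : IsSylowIn q R L) : L ≤ qKer q L ⊔ R := by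
  intro g hg
  obtain ⟨i, o, ho, hio⟩ := Nat.exists_eq_pow_mul_and_not_dvd (orderOf_pos g).ne' q hq.out.ne_one
  have hcop : Nat.Coprime (q ^ i) o :=
    ((Nat.Prime.coprime_iff_not_dvd hq.out).2 ho).pow_left i
  have h1 : g ^ q ^ i ∈ qKer q L ⊔ R := by
    refine mem_sup_left (mem_sup_right (subset_closure ⟨pow_mem hg _, fun hd => ho ?_⟩))
    refine hd.trans (orderOf_dvd_of_pow_eq_one ?_)
    rw [← pow_mul, ← hio, pow_orderOf_eq_one]
  have h2 : g ^ o ∈ qKer q L ⊔ R := by
    have hp : IsPGroup q (zpowers (g ^ o)) := fun x => by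
      obtain ⟨_, k, rfl⟩ := x
      refine ⟨i, Subtype.ext ?_⟩
      show ((g ^ o) ^ k) ^ q ^ i = 1
      rw [← zpow_natCast, ← zpow_mul, mul_comm, zpow_mul, zpow_natCast, ← pow_mul, mul_comm o,
        ← hio, pow_orderOf_eq_one, one_zpow]
    obtain ⟨c, hc, hcR⟩ := exists_conjBy_le hp (zpowers_le.2 (pow_mem hg _)) hR
    have h3 : c * g ^ o * c⁻¹ ∈ R := hcR ⟨_, mem_zpowers _, rfl⟩
    have h4 : c * g ^ o * c⁻¹ * (g ^ o)⁻¹ ∈ ⁅L, L⁆ := by
      rw [← commutatorElement_def]
      exact commutator_mem_commutator hc (pow_mem hg _)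
    rw [show g ^ o = (c * g ^ o * c⁻¹ * (g ^ o)⁻¹)⁻¹ * (c * g ^ o * c⁻¹) by group]
    exact mul_mem (inv_mem (mem_sup_left (mem_sup_left h4))) (mem_sup_right h3)
  have h5 : g ^ Nat.gcd (q ^ i) o ∈ qKer q L ⊔ R := by
    rw [← zpow_natCast, Nat.gcd_eq_gcd_ab, zpow_add, zpow_mul, zpow_mul, zpow_natCast, zpow_natCast]
    exact mul_mem (zpow_mem h1 _) (zpow_mem h2 _)
  rwa [hcop.gcd_eq_one, pow_one] at h5

/-- In the situation of a step, the part of `R` in `qKer q L` consists of commutators. -/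
theorem mem_commutator_of_mem_qKer [Finite G] {q : ℕ} [hq : Fact q.Prime] {H D L R : Subgroup G}
    (hLH : L ≤ H) (htwo : twoGen H ≤ L) (hR : IsSylowIn q R (L ⊓ D)) (hRL : IsSylowIn q R L)
    (hgen : R ≤ closure ({y : G | y ∈ R ∧ Controlled H D y} ∪ (⁅L ⊓ D, L ⊓ D⁆ : Subgroup G)))
    {y : G} (hy : y ∈ R) (hyK : y ∈ qKer q L) : y ∈ ⁅L ⊓ D, L ⊓ D⁆ := by
  classical
  set E := (L ⊓ D).subgroupOf L with hEdef
  have hEmap : E.map L.subtype = L ⊓ D := by
    rw [hEdef, map_subgroupOf_eq_of_le inf_le_left]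
  have hEmem : ∀ x : L, x ∈ E ↔ (x : G) ∈ D := fun x => by
    rw [hEdef, mem_subgroupOf, mem_inf]
    exact ⟨And.right, fun h => ⟨x.2, h⟩⟩
  have hEcom : (commutator E).map E.subtype = ⁅E, E⁆ := map_subtype_commutator E
  have hEcomG : ⁅E, E⁆.map L.subtype = ⁅L ⊓ D, L ⊓ D⁆ := by rw [map_commutator, hEmap]
  set φ : E →* Abelianization E := Abelianization.of with hφdef
  set n := E.index with hndef
  letI : Fintype (Abelianization E) := Fintype.ofFinite _
  set V : L →* Abelianization E := MonoidHom.transfer φ with hVdef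
  have hctrl : ∀ y : E, Controlled H D ((y : L) : G) → V y = φ y ^ n := by
    intro y hy
    letI : Fintype (Quotient (MulAction.orbitRel (zpowers (y : L)) (L ⧸ E))) := Fintype.ofFinite _
    rw [hVdef, MonoidHom.transfer_eq_prod_quotient_orbitRel_zpowers_quot, hndef,
      index_eq_sum_minimalPeriod E (y : L), ← Finset.prod_pow_eq_pow_sum]
    refine Finset.prod_congr rfl fun q _ => ?_
    set p := Function.minimalPeriod ((y : L) • ·) q.out with hp
    set g₀ : L := q.out.out with hg₀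
    have hmem : g₀⁻¹ * (y : L) ^ p * g₀ ∈ E :=
      QuotientGroup.out_conj_pow_minimalPeriod_mem E (y : L) q.out
    show φ ⟨g₀⁻¹ * (y : L) ^ p * g₀, hmem⟩ = φ y ^ p
    rcases eq_or_ne (((y : L) : G) ^ p) 1 with h1 | h1
    · have e1 : y ^ p = 1 := Subtype.ext (Subtype.ext (by simpa using h1))
      have e2 : (⟨g₀⁻¹ * (y : L) ^ p * g₀, hmem⟩ : E) = 1 := by
        refine Subtype.ext ?_
        show g₀⁻¹ * (y : L) ^ p * g₀ = 1
        rw [← coe_pow, e1, coe_one, mul_one, inv_mul_cancel]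
      rw [e2, ← map_pow, e1]
    · obtain ⟨c, hc, hcy, hcd⟩ := hy p (g₀ : G) (hLH g₀.2) h1 ((hEmem _).1 hmem)
      have he : (⟨c⁻¹ * (g₀ : G), L.mul_mem (L.inv_mem (htwo hc)) g₀.2⟩ : L) ∈ E := (hEmem _).2 hcd
      set e : E := ⟨_, he⟩ with hedef
      have key : (⟨g₀⁻¹ * (y : L) ^ p * g₀, hmem⟩ : E) = e⁻¹ * y ^ p * e := by
        refine Subtype.ext (Subtype.ext ?_)
        simp only [hedef, coe_mul, coe_inv, coe_pow]
        rw [mul_inv_rev, inv_inv]
        calc (g₀ : G)⁻¹ * ((y : L) : G) ^ p * g₀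
            = (g₀ : G)⁻¹ * (((y : L) : G) ^ p * c) * (c⁻¹ * g₀) := by group
          _ = (g₀ : G)⁻¹ * c * ((y : L) : G) ^ p * (c⁻¹ * g₀) := by rw [← hcy.eq]; group
      rw [key, map_mul, map_mul, map_inv, mul_comm (φ e)⁻¹, inv_mul_cancel_right, map_pow]
  -- the index is prime to `q`
  have hn : ¬ q ∣ n := by
    intro hd
    have h1 : Nat.card E * n = Nat.card L := E.card_mul_index
    have hE : Nat.card E = Nat.card ↥(L ⊓ D) := Nat.card_congr (subgroupOfEquivOfLe inf_le_left).toEquiv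
    rw [hE] at h1
    have hn0 : n ≠ 0 := FiniteIndex.index_ne_zero
    have h2 : (Nat.card ↥(L ⊓ D)).factorization q + n.factorization q =
        (Nat.card L).factorization q := by
      rw [← h1, Nat.factorization_mul Nat.card_pos.ne' hn0, Finsupp.add_apply]
    have h3 := Nat.pow_right_injective hq.out.two_le (hR.2.symm.trans hRL.2)
    have h4 := hq.out.factorization_pos_of_dvd hn0 hd
    omega
  -- `V y = φ y ^ n` on `R`
  set S : Subgroup E := MonoidHom.eqLocus (V.comp E.subtype) ((powMonoidHom n).comp φ) with hSdef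
  have hSmem : ∀ x : E, x ∈ S ↔ V x = φ x ^ n := fun x => Iff.rfl
  have hRS : R ≤ (S.map E.subtype).map L.subtype := by
    refine hgen.trans ((closure_le _).2 (Set.union_subset ?_ ?_))
    · rintro y ⟨hy, hyc⟩
      exact ⟨⟨y, (hR.1 hy).1⟩, ⟨⟨⟨y, (hR.1 hy).1⟩, (hEmem _).2 (hR.1 hy).2⟩,
        (hSmem _).2 (hctrl _ hyc), rfl⟩, rfl⟩
    · have hc : commutator E ≤ S := by
        intro x hx
        rw [hSmem]
        have h1 : φ x = 1 := Abelianization.commutator_subset_ker φ hx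
        have h2 : V.comp E.subtype x = 1 := Abelianization.commutator_subset_ker _ hx
        rw [h1, one_pow]
        exact h2
      intro y hy
      rw [← hEcomG, ← hEcom] at hy
      exact map_mono (map_mono hc) hy
  -- a homomorphism killing `qKer`
  set N := Nat.card (Abelianization E) with hN
  set e := N / q ^ N.factorization q with he
  set ψ : L →* Abelianization E := (powMonoidHom e).comp V with hψ
  have he' : ¬ q ∣ e := Nat.not_dvd_ordCompl hq.out Nat.card_pos.ne'
  have hψpow : ∀ x : L, ψ x ^ q ^ N.factorization q = 1 := fun x => by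
    show (V x ^ e) ^ q ^ N.factorization q = 1
    rw [← pow_mul, he, Nat.div_mul_cancel (Nat.ordProj_dvd N q), hN, pow_card_eq_one']
  have hker : qKer q L ≤ ψ.ker.map L.subtype := by
    refine sup_le ?_ ((closure_le _).2 ?_)
    · rw [← map_subtype_commutator]
      exact map_mono (Abelianization.commutator_subset_ker ψ)
    · rintro g ⟨hg, hgo⟩
      refine ⟨⟨g, hg⟩, orderOf_eq_one_iff.1 ?_, rfl⟩
      exact Nat.eq_one_of_dvd_coprimes
        (((Nat.Prime.coprime_iff_not_dvd hq.out).2 hgo).pow_left (N.factorization q))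
        (orderOf_dvd_of_pow_eq_one (hψpow _))
        ((orderOf_map_dvd ψ _).trans (by rw [orderOf_mk]))
  obtain ⟨z, ⟨x, hx, rfl⟩, rfl⟩ := hRS hy
  obtain ⟨z', hz', hzz⟩ := hker hyK
  obtain rfl : z' = (x : L) := Subtype.ext hzz
  have h1 : φ x ^ (n * e) = 1 := by
    rw [pow_mul, ← (hSmem x).1 hx]
    exact hz'
  have h2 : φ x = 1 := by
    obtain ⟨k, hk⟩ := hR.isPGroup ⟨((x : L) : G), hy⟩
    have hk' : φ x ^ q ^ k = 1 := by
      rw [← map_pow, show x ^ q ^ k = 1 from Subtype.ext (Subtype.ext (by simpa using congrArg Subtype.val hk)),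
        map_one]
    have hcop : Nat.Coprime (q ^ k) (n * e) :=
      ((Nat.Prime.coprime_iff_not_dvd hq.out).2 fun hd =>
        (hq.out.dvd_mul.1 hd).elim hn he').pow_left k
    have h3 : φ x ^ Nat.gcd (q ^ k) (n * e) = 1 := pow_gcd_eq_one.2 ⟨hk', h1⟩
    rwa [hcop.gcd_eq_one, pow_one] at h3
  have h4 : x ∈ commutator E := (QuotientGroup.eq_one_iff x).1 h2
  rw [← hEcomG, ← hEcom]
  exact ⟨(x : L), ⟨x, h4, rfl⟩, rfl⟩

/-- One step of the descent at the prime `q`. -/
theorem not_le_qKer [Finite G] {q : ℕ} [hq : Fact q.Prime] {H D L R : Subgroup G}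
    (hLH : L ≤ H) (htwo : twoGen H ≤ L) (hR : IsSylowIn q R (L ⊓ D)) (hRL : IsSylowIn q R L)
    (hgen : R ≤ closure ({y : G | y ∈ R ∧ Controlled H D y} ∪ (⁅L ⊓ D, L ⊓ D⁆ : Subgroup G)))
    (hne : ¬ R ≤ ⁅L ⊓ D, L ⊓ D⁆) : ¬ R ≤ qKer q L := fun hle =>
  hne fun _ hy => mem_commutator_of_mem_qKer hLH htwo hR hRL hgen hy (hle hy)

end CfsgLib.Bender.Full
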