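import Cfsg.Agent.Lib.Bender.Full.Control
import Cfsg.Agent.Lib.Bender.Full.Transfer
import Cfsg.Agent.Lib.Bender.Transfer.Series

/-!
# The descent to a regular normal subgroup

A `Layer` is a normal subgroup of the point stabilizer containing its two-elements and supplementing
the pair stabilizer.  If every layer meeting the pair has a prime at which it can be lowered, a
two-group layer is regular on the other points.
-/

set_option autoImplicit false
set_option linter.style.haveILetI false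
set_option linter.unusedSectionVars false

namespace CfsgLib.Bender.Full

open Subgroup MulAction
open CfsgLib.Coprime (IsSylowIn)
open CfsgLib.Bender.Transfer (twoGen)
open CfsgLib.Invol (fixed_unique invol_conj invol_smul_smul invol_inv invol_mul_self invol_ne_one)

universe u

variable {G : Type u} [Group G] [Finite G] {H : Subgroup G}

/-- A normal subgroup of `H` containing its two-elements and supplementing `D`. -/
structure Layer (H D L : Subgroup G) : Prop where
  le : L ≤ H
  norm : H ≤ normalizer (L : Set G)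
  two : twoGen H ≤ L
  sup : H ≤ L ⊔ D

theorem pairStab_base_le (H : Subgroup G) (x : G ⧸ H) : pairStab (base H) x ≤ H :=
  inf_le_left.trans (stabilizer_base H).le

theorem layer_top (H D : Subgroup G) : Layer H D H :=
  ⟨le_rfl, le_normalizer, CfsgLib.Bender.Transfer.twoGen_le H, le_sup_left⟩

theorem Layer.lower {H D L R : Subgroup G} (hL : Layer H D L) {q : ℕ} [hq : Fact q.Prime]
    (hq2 : q ≠ 2) (hRD : R ≤ D) (hR : IsSylowIn q R L) : Layer H D (qKer q L) where
  le := (qKer_le q L).trans hL.le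
  norm := hL.norm.trans (le_normalizer_qKer q L)
  two := twoGen_le_qKer hq.out hq2 hL.two
  sup := hL.sup.trans (sup_le ((le_qKer_sup hR).trans (sup_le le_sup_left (hRD.trans le_sup_right)))
    le_sup_right)

namespace MCtx

variable (h : MCtx H)
include h

theorem oddCore_eq_bot : Cfsg.oddCore H = ⊥ := by
  have hOG : Cfsg.oddCore G = ⊥ := by
    haveI : (Cfsg.oddCore G).Normal := Subgroup.sSup_normal _ fun _ h => h.1
    obtain ⟨p, s, hp, hs, hne, hc⟩ := h.pair
    obtain ⟨a, ha, -⟩ := exists_fixed_of_pair h.se (Core.odd_card_oddCore G) hp hs hne hc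
      (by rw [normalizer_eq_top]; exact mem_top p) (by rw [normalizer_eq_top]; exact mem_top s)
    by_contra hne'
    exact h.toCore.normalizer_ne_top_of_fixed ha hne' (normalizer_eq_top _)
  exact (map_eq_bot_iff_of_injective _ H.subtype_injective).1
    (le_bot_iff.1 ((h.coreThm G H h.se).trans hOG.le))

theorem exists_ne_base : ∃ x : G ⧸ H, x ≠ base H := by
  obtain ⟨g, hg⟩ : ∃ g : G, g ∉ H := by
    by_contra hall
    push Not at hall
    exact h.se.1 (eq_top_iff.2 fun g _ => hall g)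
  exact ⟨g • base H, fun e => hg (smul_base.1 e)⟩

theorem one_lt_numInv : 1 < numInv H := by
  obtain ⟨t, s, ht, hs, hne, hc⟩ := h.pair
  obtain ⟨c, htc⟩ := exists_fixed h.se ht
  have hsc : s • c = c := mem_stabilizer_iff.1 (centralizer_le_stabilizer h.se ht htc
    (mem_centralizer_singleton_iff.2 hc.symm.eq))
  obtain ⟨g, hg⟩ := MulAction.exists_smul_eq G c (base H)
  have hmem : ∀ u : G, orderOf u = 2 → u • c = c → g * u * g⁻¹ ∈ H := fun u _ huc =>
    smul_base.1 (by rw [← hg, CfsgLib.Invol.conj_fixes, huc])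
  exact Finite.one_lt_card_iff_nontrivial.2 ⟨⟨⟨g * t * g⁻¹, invol_conj ht g, hmem t ht htc⟩,
    ⟨g * s * g⁻¹, invol_conj hs g, hmem s hs hsc⟩,
    fun e => hne (mul_left_cancel (mul_right_cancel (congrArg Subtype.val e)))⟩⟩

/-- A pair contains an element of prime order inverted by a swapper. -/
theorem exists_inverted {a c : G ⧸ H} (hac : a ≠ c) : ∃ v f : G, orderOf v = 2 ∧ v • a = c ∧
    f ∈ pairStab a c ∧ (orderOf f).Prime ∧ v * f * v⁻¹ = f⁻¹ := by
  obtain ⟨v, hv, hva⟩ := exists_swapper h.se hac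
  obtain ⟨d, hd, hdC⟩ : ∃ d ∈ pairStab a c, d ∉ centralizer ({v} : Set G) := by
    by_contra hall
    push Not at hall
    have h1 := relIndex_swap h.se hac hv hva
    rw [relIndex_eq_one.2 (fun d hd => hall d hd)] at h1
    exact absurd h.one_lt_numInv (by omega)
  set g := d⁻¹ * (v * d * v⁻¹) with hg
  have hgD : g ∈ pairStab a c := mul_mem (inv_mem hd)
    ((mem_normalizer_iff.1 (mem_normalizer_pairStab hv hva) d).1 hd)
  have hg1 : g ≠ 1 := fun e => hdC (mem_centralizer_singleton_iff.2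
    ((mul_inv_eq_iff_eq_mul.1 (inv_mul_eq_one.1 e).symm)).symm)
  have hinv : v * g * v⁻¹ = g⁻¹ := by
    rw [hg, invol_inv hv, mul_inv_rev, inv_inv, mul_inv_rev, mul_inv_rev, invol_inv hv]
    simp only [mul_assoc, invol_mul_self hv, mul_one]
  obtain ⟨q, hq, hqg⟩ := Nat.exists_prime_and_dvd (n := orderOf g)
    (fun e => hg1 (orderOf_eq_one_iff.1 e))
  refine ⟨v, g ^ (orderOf g / q), hv, hva, pow_mem hgD _, ?_, ?_⟩
  · rw [orderOf_pow_orderOf_div (orderOf_pos g).ne' hqg]
    exact hq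
  · rw [← conj_pow, hinv, inv_pow]

end MCtx

/-- If every layer inside `L₀` meeting the pair can be lowered, the point stabilizer has a regular
two-group. -/
theorem Setting.regular_of_step_from (h : Setting H) {x : G ⧸ H} (hx : x ≠ base H) {L₀ : Subgroup G}
    (hL₀ : Layer H (pairStab (base H) x) L₀)
    (hstep : ∀ L : Subgroup G, L ≤ L₀ → Layer H (pairStab (base H) x) L →
      L ⊓ pairStab (base H) x ≠ ⊥ →
      ∃ (q : ℕ) (R : Subgroup G), q.Prime ∧ q ≠ 2 ∧ IsSylowIn q R (L ⊓ pairStab (base H) x) ∧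
        IsSylowIn q R L ∧ ¬ R ≤ qKer q L) : Regular H := by
  classical
  set D := pairStab (base H) x with hD
  have hDH : D ≤ H := pairStab_base_le H x
  have hex : ∃ n L, Layer H D L ∧ L ≤ L₀ ∧ Nat.card L = n := ⟨_, L₀, hL₀, le_rfl, rfl⟩
  obtain ⟨L, hL, hL0, hcard⟩ := Nat.find_spec hex
  have hLD : L ⊓ D = ⊥ := by
    by_contra hne
    obtain ⟨q, R, hq, hq2, hR, hRL, hRK⟩ := hstep L hL0 hL hne
    haveI := Fact.mk hq
    refine Nat.find_min hex (m := Nat.card (qKer q L)) ?_
      ⟨_, hL.lower hq2 (hR.1.trans inf_le_right) hRL, (qKer_le q L).trans hL0, rfl⟩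
    rw [← hcard]
    refine lt_of_le_of_ne (card_le_of_le (qKer_le q L)) fun e => hRK ?_
    rw [eq_of_le_of_card_ge (qKer_le q L) e.ge]
    exact hRL.1
  obtain ⟨v, f, hv, hva, hfD, hfp, hinv⟩ := h.toMCtx.exists_inverted hx.symm
  have hf1 : f ≠ 1 := fun e => by rw [e, orderOf_one] at hfp; exact Nat.not_prime_one hfp
  have hcen : ∀ g ∈ H, Commute g f → g ∈ D := fun g hg hgf =>
    h.centralizer_of_inverted hx.symm hv hva hfD hf1 hinv (smul_base.2 hg) hgf
  have hconj : ∀ s ∈ H, ∀ t ∈ H, orderOf s = 2 → orderOf t = 2 → ∃ g ∈ H, g * s * g⁻¹ = t := by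
    intro s hs t ht hso hto
    obtain ⟨d, -, hdb, -, hd⟩ := transitive_fixing h.se ⊤ (u := v) (a := base H) (mem_top _)
      (by rw [hva]; exact hx) hso (mem_top _) (smul_base.2 hs) hto (mem_top _) (smul_base.2 ht)
    exact ⟨d, smul_base.1 hdb, hd⟩
  obtain ⟨h2, -⟩ := CfsgLib.Bender.Transfer.closed_of_complement hDH hL.le hL.norm hL.two hLD hfD hfp
    hcen h.toMCtx.oddCore_eq_bot hconj
  refine ⟨L, hL.le, hL.norm, h2, fun g k hg hk => ?_⟩
  -- `L` moves `x` to every other point
  have htr : ∀ y : G ⧸ H, y ≠ base H → ∃ l ∈ L, l • x = y := by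
    intro y hy
    obtain ⟨g', hg', hg'x⟩ := h.toMCtx.toCore.transitive (a := base H) hx.symm hy.symm
    have h1 : g' ∈ ((L ⊔ D : Subgroup G) : Set G) :=
      hL.sup ((stabilizer_base H).le hg')
    rw [coe_mul_of_right_le_normalizer_left L D (hDH.trans hL.norm)] at h1
    obtain ⟨l, hl, d, hd, rfl⟩ := h1
    exact ⟨l, hl, by rw [← hg'x, mul_smul, mem_stabilizer_iff.1 hd.2]⟩
  have hgb : g • base H ≠ base H := fun e => hg (smul_base.1 e)
  have hkb : k • base H ≠ base H := fun e => hk (smul_base.1 e)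
  obtain ⟨l₁, hl₁, hl₁x⟩ := htr _ hgb
  obtain ⟨l₂, hl₂, hl₂x⟩ := htr _ hkb
  refine ⟨l₂ * l₁⁻¹, ⟨L.mul_mem hl₂ (L.inv_mem hl₁), smul_base.1 ?_⟩, ?_⟩
  · rw [mul_smul, mul_smul, mul_smul, ← hl₁x, inv_smul_smul, hl₂x, inv_smul_smul]
  · rintro q ⟨hq, hq'⟩
    have h3 : q • l₁ • x = l₂ • x := by
      have h4 := smul_base.2 hq'
      rwa [mul_smul, mul_smul, inv_smul_eq_iff, ← hl₁x, ← hl₂x] at h4
    have h5 : l₂⁻¹ * q * l₁ ∈ L ⊓ D := by
      have hmem : l₂⁻¹ * q * l₁ ∈ L := L.mul_mem (L.mul_mem (L.inv_mem hl₂) hq) hl₁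
      refine ⟨hmem, mem_stabilizer_iff.2 ?_,
        mem_stabilizer_iff.2 ?_⟩
      · exact smul_base.2 (hL.le hmem)
      · rw [mul_smul, mul_smul, h3, inv_smul_smul]
    rw [hLD, mem_bot, mul_assoc, inv_mul_eq_one] at h5
    rw [h5]; group

/-- If every layer meeting the pair can be lowered, the point stabilizer has a regular two-group. -/
theorem Setting.regular_of_step (h : Setting H) {x : G ⧸ H} (hx : x ≠ base H)
    (hstep : ∀ L : Subgroup G, Layer H (pairStab (base H) x) L → L ⊓ pairStab (base H) x ≠ ⊥ →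
      ∃ (q : ℕ) (R : Subgroup G), q.Prime ∧ q ≠ 2 ∧ IsSylowIn q R (L ⊓ pairStab (base H) x) ∧
        IsSylowIn q R L ∧ ¬ R ≤ qKer q L) : Regular H :=
  h.regular_of_step_from hx (layer_top H _) fun L _ => hstep L

end CfsgLib.Bender.Full

namespace CfsgLib.Bender.Full

open Subgroup MulAction
open scoped commutatorElement
open CfsgLib.Coprime (IsSylowIn)
open CfsgLib.Bender.Transfer (Controlled)

universe u

variable {G : Type u} [Group G] [Finite G] {H : Subgroup G}

/-- The layer `L` can be lowered. -/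
def CanLower (D L : Subgroup G) : Prop :=
  ∃ (q : ℕ) (R : Subgroup G), q.Prime ∧ q ≠ 2 ∧ IsSylowIn q R (L ⊓ D) ∧ IsSylowIn q R L ∧
    ¬ R ≤ qKer q L

/-- A prime of `(L ⊓ D) / (L ⊓ D)'` whose Sylow subgroup is Sylow in `L` and generated modulo the
commutators by controlled elements lowers `L`. -/
theorem canLower_of_controlled {D L R : Subgroup G} (hL : Layer H D L) {q : ℕ} [hq : Fact q.Prime]
    (hq2 : q ≠ 2) (hR : IsSylowIn q R (L ⊓ D)) (hRL : IsSylowIn q R L)
    (hgen : R ≤ closure ({y : G | y ∈ R ∧ Controlled H D y} ∪ (⁅L ⊓ D, L ⊓ D⁆ : Subgroup G)))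
    (hne : ¬ R ≤ ⁅L ⊓ D, L ⊓ D⁆) : CanLower D L :=
  ⟨q, R, hq.out, hq2, hR, hRL, not_le_qKer hL.le hL.two hR hRL hgen hne⟩

/-- A prime of `(L ⊓ D) / (L ⊓ D)'` dividing the number of involutions lowers `L`. -/
theorem Setting.canLower_of_dvd (h : Setting H) {x : G ⧸ H} (hx : x ≠ base H) {L : Subgroup G}
    (hL : Layer H (pairStab (base H) x) L) {q : ℕ} [hq : Fact q.Prime] (hqm : q ∣ numInv H)
    {R : Subgroup G} (hR : IsSylowIn q R (L ⊓ pairStab (base H) x))
    (hne : ¬ R ≤ ⁅L ⊓ pairStab (base H) x, L ⊓ pairStab (base H) x⁆) :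
    CanLower (pairStab (base H) x) L := by
  have hn : ¬ q ∣ (pairStab (base H) x).relIndex L := by
    rw [CfsgLib.Bender.Transfer.relIndex_eq_of_sup hL.le (pairStab_base_le H x) hL.norm hL.sup]
    have h1 := h.not_dvd_index hqm hx.symm (a := base H) (c := x)
    rwa [stabilizer_base] at h1
  have hRL : IsSylowIn q R L := by
    refine ⟨hR.1.trans inf_le_left, ?_⟩
    rw [hR.2, ← relIndex_mul_card_inf (pairStab (base H) x) L, inf_comm (pairStab (base H) x) L,
      Nat.factorization_mul (relIndex_pos _ _).ne' Nat.card_pos.ne', Finsupp.add_apply,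
      Nat.factorization_eq_zero_of_not_dvd hn, zero_add]
  refine canLower_of_controlled hL (ne_two_of_dvd h.se hqm hx.symm) hR hRL (fun y hy => ?_) hne
  exact subset_closure (Or.inl ⟨hy, h.controlled_of hx (hR.1 hy).2
    (hR.isPGroup.to_le (zpowers_le.2 hy)) (Or.inl hqm)⟩)

end CfsgLib.Bender.Full
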