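import Cfsg.Agent.Lib.Bender.Full.PermM.Rank
import Cfsg.Agent.Lib.Bender.Full.PermM.Fixed
import Cfsg.Agent.Lib.Char.Burnside

/-!
# An abelian subgroup regular on a class of involutions

The centralizer of the involution is then transitive on the other involutions of the class.
-/

set_option autoImplicit false
set_option linter.unusedSectionVars false

namespace CfsgLib.Bender.Full

open Cfsg CfsgLib.Char CfsgLib.Bender.End Subgroup

attribute [local instance 1100] Fintype.ofFinite

universe u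

namespace PermM

variable {N : Type u} [Group N] [Finite N] [IsSimpleGroup N]

theorem faithful (χ : IrrCharacter N) (hne : (χ : N → ℂ) ≠ fun _ => 1) (g : N)
    (hg : (χ : N → ℂ) g = (χ : N → ℂ) 1) : g = 1 := by
  obtain ⟨χ, n, ρ, hρ, rfl⟩ := χ
  dsimp only at hne hg
  rw [Representation.char_one, char_eq_degree_iff] at hg
  rcases (MonoidHom.normal_ker ρ).eq_bot_or_eq_top with e | e
  · exact (MonoidHom.ker_eq_bot_iff ρ).mp e (by rw [hg, map_one]; rfl)
  · exact absurd (irr_eq_one_of_trivial ρ fun x => MonoidHom.mem_ker.mp (e ▸ Subgroup.mem_top x)) hne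

theorem odd_degree_coprime {t : N} (ht : orderOf t = 2) (htc : t ∉ Subgroup.center N)
    (χ : IrrCharacter N) (d : ℕ) (hd : (χ : N → ℂ) 1 = d) (hodd : Odd d)
    (hcop : d.Coprime (Subgroup.centralizer ({t} : Set N)).index) :
    (χ : N → ℂ) = fun _ => 1 := by
  by_contra hne
  obtain ⟨χ, n, ρ, hρ, rfl⟩ := χ
  dsimp only at hne hd
  have hfd : Module.finrank ℂ (Fin n → ℂ) = d := by
    exact_mod_cast (Representation.char_one ρ).symm.trans hd
  -- an involution has nonzero trace in odd degree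
  have h0 : ρ.character t ≠ 0 := by
    obtain ⟨b, μ, h1, -, h3⟩ := exists_eigen_data ρ t
    have hμ : ∀ i, ∃ z : ℤ, μ i = z ∧ (z : ZMod 2) = 1 := fun i => by
      have h := h1 i
      rw [ht, sq_eq_one_iff] at h
      rcases h with h | h
      · exact ⟨1, by simp [h], by simp⟩
      · exact ⟨-1, by simp [h], by decide⟩
    choose z hz hz2 using hμ
    have e := h3 1
    simp only [pow_one, hz] at e
    intro hzero
    rw [hzero] at e
    have e' : (∑ i, z i : ℤ) = 0 := by exact_mod_cast e.symm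
    have e2 := congrArg (fun k : ℤ => (k : ZMod 2)) e'
    simp only [Int.cast_sum, hz2, Finset.sum_const, Finset.card_univ, Fintype.card_fin,
      nsmul_one, Int.cast_zero] at e2
    rw [hfd, (ZMod.natCast_eq_one_iff_odd).2 hodd] at e2
    exact one_ne_zero e2
  rcases char_zero_or_norm_eq_degree ρ t (by rwa [hfd]) with h | h
  · exact h0 h
  obtain ⟨ω, hω⟩ := (norm_char_eq_iff ρ t).mp h
  have hker : MonoidHom.ker ρ = ⊥ := by
    rcases (MonoidHom.normal_ker ρ).eq_bot_or_eq_top with e | e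
    · exact e
    · exact absurd (irr_eq_one_of_trivial ρ fun x => MonoidHom.mem_ker.mp (e ▸ Subgroup.mem_top x))
        hne
  refine htc (Subgroup.mem_center_iff.mpr fun x => (MonoidHom.ker_eq_bot_iff ρ).mp hker ?_)
  rw [map_mul, map_mul, hω]
  ext v
  simp [Module.End.mul_apply]

end PermM

open PermM in
/-- An abelian subgroup acting regularly on the class of an involution: the centralizer of the
involution is transitive on the other conjugates. -/
theorem centralizer_trans {N : Type u} [Group N] [Finite N] [IsSimpleGroup N] {t : N}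
    (ht : orderOf t = 2) (M C C0 : Subgroup N) [IsMulCommutative M] (hM2 : Odd (Nat.card M))
    (hC2 : Odd (Nat.card C)) (hC : C = normalizer (M : Set N) ⊓ centralizer {t})
    (hcop : (Nat.card M).Coprime (Nat.card C))
    (hreg : ∀ u, IsConj t u → ∃! a, a ∈ M ∧ a * t * a⁻¹ = u)
    (hTI : ∀ g a : N, a ∈ M → a ≠ 1 → g * a * g⁻¹ ∈ M → g ∈ normalizer (M : Set N))
    (_hfree : ∀ a u : N, a ∈ M → a ≠ 1 → IsConj t u → ¬ Commute a u)
    (hC0 : C0 ≤ C) (_hC0n : C ≤ normalizer (C0 : Set N))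
    (hstab : ∀ a ∈ M, a ≠ 1 → C ⊓ centralizer {a} ≤ C0 ∧
      (IsMulCommutative ↥(C ⊓ centralizer {a}) ∨ C ⊓ centralizer {a} = C0)) :
    ∀ u v : N, IsConj t u → u ≠ t → IsConj t v → v ≠ t →
      ∃ c ∈ centralizer ({t} : Set N), c * u * c⁻¹ = v := by
  classical
  intro u v hu hut hv hvt
  set L := normalizer (M : Set N) with hL
  have hML : M ≤ L := le_normalizer
  have hcomm : ∀ {a b : N}, a ∈ M → b ∈ M → a * b = b * a := fun {a b} ha hb => setLike_mul_comm ha hb
  -- the component in `M`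
  have hex : ∀ x : N, ∃! a, a ∈ M ∧ a * t * a⁻¹ = x * t * x⁻¹ := fun x =>
    hreg _ (isConj_iff.2 ⟨x, rfl⟩)
  choose α hα hαu using fun x : N => (hex x)
  have hαM : ∀ x, α x ∈ M := fun x => (hα x).1
  have hαe : ∀ x, α x * t * (α x)⁻¹ = x * t * x⁻¹ := fun x => (hα x).2
  have hconj : ∀ {x a : N}, x ∈ L → a ∈ M → x * a * x⁻¹ ∈ M := fun {x a} hx ha => by
    rw [hL, Subgroup.mem_normalizer_iff] at hx
    exact (hx a).1 ha
  have hαmul : ∀ x y : L, α ((x : N) * y) = α x * ((x : N) * α y * (x : N)⁻¹) := by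
    intro x y
    refine (hαu _ _ ⟨M.mul_mem (hαM _) (hconj x.2 (hαM _)), ?_⟩).symm
    rw [hcomm (hαM _) (hconj x.2 (hαM _))]
    calc ((x : N) * α y * (x : N)⁻¹ * α x) * t * ((x : N) * α y * (x : N)⁻¹ * α x)⁻¹
        = (x : N) * α y * (x : N)⁻¹ * (α x * t * (α x)⁻¹) * ((x : N) * α y * (x : N)⁻¹)⁻¹ := by group
      _ = (x : N) * (α y * t * (α y)⁻¹) * (x : N)⁻¹ := by rw [hαe]; group
      _ = (x : N) * y * t * ((x : N) * y)⁻¹ := by rw [hαe]; group
  have hαfix : ∀ a ∈ M, α a = a := fun a ha => (hαu a a ⟨ha, rfl⟩).symm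
  have hcpC : ∀ x : N, Commute ((α x)⁻¹ * x) t := fun x => by
    have e := hαe x
    have h1 : (α x)⁻¹ * x * t * ((α x)⁻¹ * x)⁻¹ = t := by
      rw [show (α x)⁻¹ * x * t * ((α x)⁻¹ * x)⁻¹ = (α x)⁻¹ * (x * t * x⁻¹) * α x by group, ← e]
      group
    exact (mul_inv_eq_iff_eq_mul.1 h1)
  let cp : L →* L := MonoidHom.mk'
    (fun x => ⟨(α x)⁻¹ * x, L.mul_mem (L.inv_mem (hML (hαM _))) x.2⟩) fun x y => Subtype.ext (by
      show (α ((x : N) * y))⁻¹ * ((x : N) * y) = (α x)⁻¹ * x * ((α y)⁻¹ * y)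
      rw [hαmul x y, hcomm (hαM _) (hconj x.2 (hαM _))]
      group)
  have hαC : ∀ x : N, Commute x t → α x = 1 := fun x hx => (hαu x 1 ⟨M.one_mem, by
    rw [one_mul, inv_one, mul_one, hx.eq, mul_inv_cancel_right]⟩).symm
  have hker : ∀ x : L, x ∈ cp.ker ↔ (x : N) ∈ M := fun x => by
    rw [MonoidHom.mem_ker, Subtype.ext_iff]
    show (α x)⁻¹ * x = 1 ↔ _
    constructor
    · intro h
      rw [← inv_mul_eq_one.1 h]
      exact hαM _
    · intro h
      rw [hαfix _ h, inv_mul_cancel]
  have hrange : ∀ x : L, x ∈ cp.range ↔ (x : N) ∈ C := fun x => by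
    rw [hC, Subgroup.mem_inf, and_iff_right x.2, Subgroup.mem_centralizer_singleton_iff]
    constructor
    · rintro ⟨y, rfl⟩
      exact (hcpC y).eq
    · intro h
      refine ⟨x, Subtype.ext ?_⟩
      show (α x)⁻¹ * x = x
      rw [hαC _ h, inv_one, one_mul]
  have hkcard : Nat.card cp.ker = Nat.card M := Nat.card_congr
    { toFun := fun a => ⟨((a : L) : N), (hker _).1 a.2⟩
      invFun := fun a => ⟨⟨(a : N), hML a.2⟩, (hker _).2 a.2⟩
      left_inv := fun a => rfl
      right_inv := fun a => rfl }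
  have hCL : C ≤ L := hC ▸ inf_le_left
  have hrcard : Nat.card cp.range = Nat.card C := Nat.card_congr
    { toFun := fun a => ⟨((a : L) : N), (hrange _).1 a.2⟩
      invFun := fun a => ⟨⟨(a : N), hCL a.2⟩, (hrange _).2 a.2⟩
      left_inv := fun a => rfl
      right_inv := fun a => rfl }
  let S : Split L :=
    { cp := cp
      idem := fun x => by
        apply Subtype.ext
        show (α ((α x)⁻¹ * x))⁻¹ * ((α x)⁻¹ * x) = (α x)⁻¹ * x
        rw [hαC _ (hcpC x), inv_one, one_mul]
      comm := fun a b => Subtype.ext (Subtype.ext (hcomm ((hker _).1 a.2) ((hker _).1 b.2)))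
      cop := by rw [hkcard, hrcard]; exact hcop }
  -- the action
  let x0 : N ⧸ centralizer ({t} : Set N) := QuotientGroup.mk 1
  have heq : ∀ a g : N, (QuotientGroup.mk a : N ⧸ centralizer ({t} : Set N)) = QuotientGroup.mk g ↔
      a * t * a⁻¹ = g * t * g⁻¹ := fun a g => by
    rw [QuotientGroup.eq, Subgroup.mem_centralizer_singleton_iff]
    constructor
    · intro h
      calc a * t * a⁻¹ = a * (t * (a⁻¹ * g)) * g⁻¹ := by group
        _ = a * ((a⁻¹ * g) * t) * g⁻¹ := by rw [h]
        _ = g * t * g⁻¹ := by group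
    · intro h
      calc a⁻¹ * g * t = a⁻¹ * (g * t * g⁻¹) * g := by group
        _ = a⁻¹ * (a * t * a⁻¹) * g := by rw [h]
        _ = t * (a⁻¹ * g) := by group
  have hsmul : ∀ g : N, g • x0 = QuotientGroup.mk g := fun g => by
    show (QuotientGroup.mk (g * 1) : N ⧸ centralizer ({t} : Set N)) = _
    rw [mul_one]
  have hMne : M ≠ ⊥ := by
    intro e
    obtain ⟨a, ⟨ha, hau⟩, -⟩ := hreg u hu
    rw [e, Subgroup.mem_bot] at ha
    exact hut (by rw [← hau, ha, one_mul, inv_one, mul_one])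
  have htc : t ∉ Subgroup.center N := fun h => hMne (by
    rw [Subgroup.eq_bot_iff_forall]
    intro a ha
    refine (hreg t (IsConj.refl t)).unique ⟨ha, ?_⟩ ⟨M.one_mem, by simp⟩
    rw [Subgroup.mem_center_iff.1 h a, mul_inv_cancel_right])
  have hindex : (centralizer ({t} : Set N)).index = Nat.card S.cp.ker := by
    rw [Subgroup.index_eq_card]
    refine (Nat.card_congr (Equiv.ofBijective
      (fun a : S.cp.ker => (QuotientGroup.mk ((a : L) : N) : N ⧸ centralizer ({t} : Set N)))
      ⟨fun a b h => ?_, fun q => ?_⟩)).symm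
    · exact Subtype.ext (Subtype.ext ((hαu _ _ ⟨(hker _).1 a.2, rfl⟩).trans
        (hαu _ _ ⟨(hker _).1 b.2, ((heq _ _).1 h).symm⟩).symm))
    · obtain ⟨g, rfl⟩ := QuotientGroup.mk_surjective q
      exact ⟨⟨⟨α g, hML (hαM g)⟩, (hker _).2 (hαM g)⟩, (heq _ _).2 (hαe g)⟩
  have hLodd : Odd (Nat.card L) := by
    rw [show Nat.card L = Nat.card cp.ker * Nat.card cp.range by
      rw [← Subgroup.index_ker, Subgroup.card_mul_index], hkcard, hrcard]
    exact hM2.mul hC2
  have D : Data S x0 :=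
    { odd := hLodd
      regular := fun x => by
        obtain ⟨g, rfl⟩ := QuotientGroup.mk_surjective x
        refine ⟨⟨⟨α g, hML (hαM g)⟩, (hker _).2 (hαM g)⟩, (hsmul _).trans ((heq _ _).2 (hαe g)),
          fun a ha => Subtype.ext (Subtype.ext ?_)⟩
        dsimp only at ha
        rw [hsmul, heq] at ha
        exact hαu _ _ ⟨(hker _).1 a.2, ha⟩
      stab := fun y => by
        rw [hsmul, show x0 = QuotientGroup.mk 1 from rfl, heq, hrange, hC, Subgroup.mem_inf,
          and_iff_right y.2, Subgroup.mem_centralizer_singleton_iff, one_mul, inv_one, mul_one,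
          mul_inv_eq_iff_eq_mul]
      base := fun a ha => by
        have hk : ((a : L) : N) ∈ M := (hker _).1 a.2
        refine ⟨(a : L).2, fun g hg => ?_⟩
        set y : L := ⟨g⁻¹ * ((a : L) : N) * g, hg⟩ with hy
        have hyo : orderOf y ∣ Nat.card cp.ker := by
          rw [← Subgroup.orderOf_coe, hkcard]
          show orderOf (g⁻¹ * ((a : L) : N) * g) ∣ _
          refine orderOf_dvd_of_pow_eq_one ?_
          have e := conj_pow (a := g⁻¹) (b := ((a : L) : N)) (i := Nat.card M)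
          rw [inv_inv] at e
          rw [e, show ((a : L) : N) ^ Nat.card M = 1 from
            congrArg Subtype.val (pow_card_eq_one' (x := (⟨_, hk⟩ : M))), mul_one, inv_mul_cancel]
        have hym : y ∈ cp.ker := MonoidHom.mem_ker.2 (orderOf_eq_one_iff.1
          (Nat.eq_one_of_dvd_coprimes S.cop ((orderOf_map_dvd cp y).trans hyo)
            (Subgroup.orderOf_dvd_natCard _ ⟨y, rfl⟩)))
        have h := hTI g⁻¹ ((a : L) : N) hk (fun e => ha (Subtype.ext (Subtype.ext e)))
          (by rw [inv_inv]; exact (hker y).1 hym)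
        exact inv_mem_iff.1 h
      burn := fun χ d hd hodd hc => odd_degree_coprime ht htc χ d hd hodd (hindex ▸ hc) }
  have hst : ∀ a : S.cp.ker, a ≠ 1 →
      S.cp.range ⊓ Subgroup.centralizer {(a : L)} ≤ C0.subgroupOf L ∧
      ((∀ x y : ↥(S.cp.range ⊓ Subgroup.centralizer {(a : L)}), x * y = y * x) ∨
        S.cp.range ⊓ Subgroup.centralizer {(a : L)} = C0.subgroupOf L) := by
    intro a ha
    obtain ⟨h1, h2⟩ := hstab _ ((hker _).1 a.2) (fun e => ha (Subtype.ext (Subtype.ext e)))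
    have e : S.cp.range ⊓ Subgroup.centralizer {(a : L)} =
        (C ⊓ centralizer {((a : L) : N)}).subgroupOf L := by
      ext x
      rw [Subgroup.mem_subgroupOf, Subgroup.mem_inf, Subgroup.mem_inf,
        Subgroup.mem_centralizer_singleton_iff, Subgroup.mem_centralizer_singleton_iff]
      exact and_congr (hrange x) Subtype.ext_iff
    rw [e]
    refine ⟨fun x hx => h1 hx, h2.imp (fun h x y => ?_) fun h => by rw [h]⟩
    haveI := h
    exact Subtype.ext (Subtype.ext (setLike_mul_comm (s := C ⊓ centralizer {((a : L) : N)})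
      (show ((x : L) : N) ∈ _ from x.2) (show ((y : L) : N) ∈ _ from y.2)))
  have hker0 : S.cp.ker ≠ ⊥ := fun e => hMne (by
    rw [← Subgroup.card_eq_one, ← hkcard]
    exact Subgroup.card_eq_one.2 e)
  have h2 := D.inner_self_eq_two hker0 faithful (C0.subgroupOf L)
    (S.st_of_elements _ (fun x hx => (hrange x).2 (hC0 hx)) hst)
  rw [classInner_permChar_self] at h2
  haveI := D.pretrans
  have hX : 2 ≤ Nat.card (N ⧸ centralizer ({t} : Set N)) := by
    rw [← Subgroup.index_eq_card, hindex, hkcard]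
    exact (Subgroup.one_lt_card_iff_ne_bot M).2 hMne
  have h2t := (card_orbits_prod_eq_two_iff _ hX).1 (by exact_mod_cast h2)
  obtain ⟨gu, rfl⟩ := isConj_iff.1 hu
  obtain ⟨gv, rfl⟩ := isConj_iff.1 hv
  have hne : ∀ {g : N}, g * t * g⁻¹ ≠ t → x0 ≠ QuotientGroup.mk g := fun {g} hg h =>
    hg (by simpa using ((heq 1 g).1 h).symm)
  obtain ⟨c, hc1, hc2⟩ := MulAction.is_two_pretransitive_iff.1 h2t (hne hut) (hne hvt)
  refine ⟨c, ?_, ?_⟩
  · rw [Subgroup.mem_centralizer_singleton_iff]
    rw [hsmul, show x0 = QuotientGroup.mk 1 from rfl, heq, one_mul, inv_one, mul_one] at hc1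
    exact mul_inv_eq_iff_eq_mul.1 hc1
  · have e : (QuotientGroup.mk (c * gu) : N ⧸ centralizer ({t} : Set N)) = QuotientGroup.mk gv := hc2
    rw [show c * (gu * t * gu⁻¹) * c⁻¹ = c * gu * t * (c * gu)⁻¹ by group]
    exact (heq _ _).1 e

end CfsgLib.Bender.Full
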