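import Cfsg.Agent.Lib.Bender.Full.Prime
import Cfsg.Agent.Lib.Bender.Full.Basic

/-!
# The local group of a subgroup centralized by two commuting involutions

For a non-trivial `q`-group `A` fixing `a` and with two commuting involutions in its centralizer, the
structure theorem for `C(A)` gives a normal subgroup of `C(A)_a`, a two-group modulo the kernel of
`C(A)` on the fixed points, transitive on the other fixed points.
-/

set_option autoImplicit false
set_option linter.style.haveILetI false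
set_option linter.unusedSectionVars false

namespace CfsgLib.Bender.Full

open Subgroup MulAction
open scoped commutatorElement
open CfsgLib.Coprime (IsSylowIn conjBy)
open CfsgLib.Invol (fixed_unique invol_conj invol_smul_smul invol_inv invol_mul_self invol_ne_one)

universe u

variable {G : Type u} [Group G] [Finite G] {H : Subgroup G}

/-- The kernel of the centralizer of `A` on the fixed points of `A`. -/
def fixKer (A : Subgroup G) (H : Subgroup G) : Subgroup G :=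
  centralizer (A : Set G) ⊓ ⨅ c ∈ fixSet A H, stabilizer G c

omit [Finite G] in
theorem mem_fixKer {A : Subgroup G} {g : G} :
    g ∈ fixKer A H ↔ g ∈ centralizer (A : Set G) ∧ ∀ c ∈ fixSet A H, g • c = c := by
  simp only [fixKer, mem_inf, mem_iInf, mem_stabilizer_iff]

omit [Finite G] in
theorem normalizer_le_normalizer_fixKer (A : Subgroup G) :
    normalizer (A : Set G) ≤ normalizer (fixKer A H : Set G) := by
  have key : ∀ g ∈ normalizer (A : Set G), ∀ k ∈ fixKer A H, g * k * g⁻¹ ∈ fixKer A H := by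
    intro g hg k hk
    rw [mem_fixKer] at hk ⊢
    refine ⟨(mem_normalizer_iff.1
      (CfsgLib.Coprime.normalizer_le_normalizer_centralizer _ hg) k).1 hk.1, fun c hc => ?_⟩
    rw [mul_smul, mul_smul, hk.2 _ (smul_mem_fixSet (inv_mem hg) hc), smul_inv_smul]
  intro g hg
  exact mem_normalizer_iff.2 fun k => ⟨key g hg k, fun hk => by
    simpa [mul_assoc] using key _ (inv_mem hg) _ hk⟩

/-- What the structure theorem gives in the centralizer of `A`. -/
structure LocalData (H A : Subgroup G) (a : G ⧸ H) (P : Subgroup G) : Prop where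
  le : P ≤ centralizer (A : Set G) ⊓ stabilizer G a
  ker_le : fixKer A H ≤ P
  norm : centralizer (A : Set G) ⊓ stabilizer G a ≤ normalizer (P : Set G)
  two : ∀ g ∈ P, ∃ j : ℕ, g ^ 2 ^ j ∈ fixKer A H
  trans : ∀ c ∈ fixSet A H, c ≠ a → ∀ z ∈ fixSet A H, z ≠ a → ∃ g ∈ P, g • c = z
  semireg : ∀ g ∈ P, ∀ c ∈ fixSet A H, c ≠ a → g • c = c → g ∈ fixKer A H
  central : ∃ t : G, orderOf t = 2 ∧ t ∈ centralizer (A : Set G) ∧ t • a = a ∧
    ∀ g ∈ P, t * g * t⁻¹ * g⁻¹ ∈ fixKer A H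

theorem Setting.exists_localData (h : Setting H) {q : ℕ} [Fact q.Prime] {A : Subgroup G}
    (hA : IsPGroup q A) (hA1 : A ≠ ⊥) (hN : Nonlonely A) {a : G ⧸ H} (ha : a ∈ fixSet A H)
    (h3 : 2 < (fixSet A H).ncard) : ∃ P : Subgroup G, LocalData H A a P := by
  classical
  set X := centralizer (A : Set G) with hX
  set K := fixKer A H with hK
  obtain ⟨t₀, ht₀, ht₀a, ht₀C⟩ := h.exists_invol_centralizing hA ha h3
  obtain ⟨c₀, hc₀, hc₀a⟩ := Set.exists_ne_of_one_lt_ncard (show 1 < (fixSet A H).ncard by omega) a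
  obtain ⟨g₀, hg₀, hg₀c⟩ := h.exists_centralizer_map hA ha hc₀ h3
  set M := (stabilizer G a).subgroupOf X with hM
  have hMmem : ∀ x : X, x ∈ M ↔ (x : G) • a = a := fun x => Iff.rfl
  have hSE : Cfsg.IsStronglyEmbedded M :=
    Core.stronglyEmbedded_stabilizer h.se ht₀ ht₀C ht₀a hg₀ (hg₀c ▸ hc₀a)
  have hFX : ∀ x ∈ X, ∀ c ∈ fixSet A H, x • c ∈ fixSet A H := fun x hx c hc =>
    smul_mem_fixSet (centralizer_le_normalizer _ hx) hc
  have hcore : ∀ x : X, x ∈ M.normalCore ↔ (x : G) ∈ K := by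
    intro x
    constructor
    · intro hx
      refine mem_fixKer.2 ⟨x.2, fun c hc => ?_⟩
      obtain ⟨g, hg, rfl⟩ := h.exists_centralizer_map hA ha hc h3
      have h1 : ((⟨g, hg⟩ : X)⁻¹ * x * (⟨g, hg⟩ : X)⁻¹⁻¹ : X) ∈ M := hx ⟨g, hg⟩⁻¹
      rw [hMmem, coe_mul, coe_mul, coe_inv, coe_inv, coe_inv, inv_inv, mul_smul, mul_smul,
        inv_smul_eq_iff] at h1
      exact h1
    · intro hx b
      show b * x * b⁻¹ ∈ M
      rw [hMmem, coe_mul, coe_mul, coe_inv, mul_smul, mul_smul,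
        (mem_fixKer.1 hx).2 _ (hFX _ (inv_mem b.2) a ha), smul_inv_smul]
  obtain ⟨hSE', hcore', hpair'⟩ := exists_quotient hSE hN
  set π := QuotientGroup.mk' M.normalCore with hπ
  have hlt : Nat.card (X ⧸ M.normalCore) < Nat.card G := by
    refine lt_of_le_of_lt (Nat.le_of_dvd Nat.card_pos (card_quotient_dvd_card _)) ?_
    refine lt_of_le_of_ne (card_le_card_group _) fun e => ?_
    have htop : X = ⊤ := eq_top_of_card_eq _ e
    refine h.toMCtx.toCore.normalizer_ne_top_of_fixed (K := A) ha hA1 (top_le_iff.1 ?_)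
    rw [← htop]
    exact centralizer_le_normalizer _
  obtain ⟨Q, hQM, hMQ, hQ2, hQreg⟩ := h.ind _ _ hlt hSE' hcore' hpair'
  set P := (Q.comap π).map X.subtype with hP
  have hmem : ∀ x : X, (x : G) ∈ P ↔ π x ∈ Q := fun x =>
    ⟨fun ⟨y, hy, e⟩ => Subtype.ext e ▸ hy, fun hx => ⟨x, hx, rfl⟩⟩
  have hker : π.ker ≤ M := by rw [hπ, QuotientGroup.ker_mk']; exact M.normalCore_le
  have hMmap : ∀ x : X, π x ∈ M.map π ↔ x ∈ M := fun x => by
    rw [← mem_comap, comap_map_eq_self hker]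
  have hPX : P ≤ X := map_subtype_le _
  have hπK : ∀ x : X, π x = 1 ↔ (x : G) ∈ K := fun x => by
    rw [hπ, QuotientGroup.mk'_apply, QuotientGroup.eq_one_iff, hcore]
  have hPa : P ≤ X ⊓ stabilizer G a := by
    intro g hg
    refine ⟨hPX hg, mem_stabilizer_iff.2 ((hMmem ⟨g, hPX hg⟩).1 ((hMmap _).1 (hQM ?_)))⟩
    exact (hmem ⟨g, hPX hg⟩).1 hg
  have hKP : K ≤ P := fun g hg => (hmem ⟨g, (mem_fixKer.1 hg).1⟩).2 (by
    rw [(hπK ⟨g, (mem_fixKer.1 hg).1⟩).2 hg]; exact Q.one_mem)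
  have hnorm : X ⊓ stabilizer G a ≤ normalizer (P : Set G) := by
    rintro g ⟨hgX, hga⟩
    replace hgX : g ∈ X := hgX
    have hgM : π ⟨g, hgX⟩ ∈ normalizer (Q : Set _) :=
      hMQ (mem_map_of_mem π ((hMmem ⟨g, hgX⟩).2 hga))
    have key : ∀ y : X, (g * y * g⁻¹ ∈ P ↔ (y : G) ∈ P) := fun y => by
      rw [show g * y * g⁻¹ = (((⟨g, hgX⟩ : X) * y * (⟨g, hgX⟩ : X)⁻¹ : X) : G) from rfl, hmem,
        hmem, map_mul, map_mul, map_inv, ← mem_normalizer_iff.1 hgM]
    refine mem_normalizer_iff.2 fun y => ⟨fun hy => (key ⟨y, hPX hy⟩).2 hy, fun hy => ?_⟩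
    have hyX : y ∈ X := by
      simpa [mul_assoc] using mul_mem (mul_mem (inv_mem hgX) (hPX hy)) hgX
    exact (key ⟨y, hyX⟩).1 hy
  refine ⟨P, hPa, hKP, hnorm, fun g hg => ?_, fun c hc hca z hz hza => ?_,
    fun g hg c hc hca hgc => ?_, ?_⟩
  · obtain ⟨j, hj⟩ := hQ2 ⟨π ⟨g, hPX hg⟩, (hmem ⟨g, hPX hg⟩).1 hg⟩
    refine ⟨j, (hπK (⟨g, hPX hg⟩ ^ 2 ^ j)).1 ?_⟩
    rw [map_pow]
    exact congrArg Subtype.val hj
  · obtain ⟨e, he, rfl⟩ := h.exists_centralizer_map hA ha hc h3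
    obtain ⟨f, hf, rfl⟩ := h.exists_centralizer_map hA ha hz h3
    obtain ⟨y, ⟨hy, hy'⟩, -⟩ := hQreg (π ⟨e, he⟩) (π ⟨f, hf⟩)
      (fun hh => hca ((hMmem ⟨e, he⟩).1 ((hMmap _).1 hh)))
      (fun hh => hza ((hMmem ⟨f, hf⟩).1 ((hMmap _).1 hh)))
    obtain ⟨y, rfl⟩ := QuotientGroup.mk'_surjective _ y
    rw [← map_inv, ← map_mul, ← map_mul, hMmap, hMmem] at hy'
    refine ⟨y, (hmem y).2 hy, ?_⟩
    rw [coe_mul, coe_mul, coe_inv, mul_smul, mul_smul, inv_smul_eq_iff] at hy'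
    exact hy'
  · obtain ⟨e, he, rfl⟩ := h.exists_centralizer_map hA ha hc h3
    have hne : π ⟨e, he⟩ ∉ M.map π := fun hh => hca ((hMmem ⟨e, he⟩).1 ((hMmap _).1 hh))
    have h1 := (hQreg (π ⟨e, he⟩) (π ⟨e, he⟩) hne hne).unique
      (y₁ := π ⟨g, hPX hg⟩) (y₂ := 1) ⟨(hmem ⟨g, hPX hg⟩).1 hg, ?_⟩ ⟨Q.one_mem, ?_⟩
    · exact (hπK _).1 h1
    · rw [← map_inv, ← map_mul, ← map_mul, hMmap, hMmem, coe_mul, coe_mul, coe_inv, mul_smul,
        mul_smul, inv_smul_eq_iff]
      exact hgc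
    · rw [one_mul, inv_mul_cancel]
      exact one_mem _
  · -- a central involution
    haveI : Fact (Nat.Prime 2) := ⟨Nat.prime_two⟩
    have hQne : Nontrivial Q := by
      obtain ⟨z, hz, hza, hzc⟩ : ∃ z ∈ fixSet A H, z ≠ a ∧ z ≠ c₀ := by
        obtain ⟨e, f, g, he, hf, hg, hef, heg, hfg⟩ := (Set.two_lt_ncard_iff (Set.toFinite _)).1 h3
        by_contra hcon
        push Not at hcon
        have k1 := hcon e he
        have k2 := hcon f hf
        have k3 := hcon g hg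
        by_cases q1 : e = a <;> by_cases q2 : f = a <;> by_cases q3 : g = a <;> simp_all
      obtain ⟨f, hf, rfl⟩ := h.exists_centralizer_map hA ha hz h3
      have hne1 : π ⟨g₀, hg₀⟩ ∉ M.map π := fun hh =>
        (hg₀c ▸ hc₀a : g₀ • a ≠ a) ((hMmem ⟨g₀, hg₀⟩).1 ((hMmap _).1 hh))
      have hne2 : π ⟨f, hf⟩ ∉ M.map π := fun hh => hza ((hMmem ⟨f, hf⟩).1 ((hMmap _).1 hh))
      obtain ⟨y, ⟨hy, hy'⟩, -⟩ := hQreg (π ⟨g₀, hg₀⟩) (π ⟨f, hf⟩) hne1 hne2
      refine ⟨⟨⟨y, hy⟩, 1, fun e => hzc ?_⟩⟩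
      rw [show y = 1 from congrArg Subtype.val e, one_mul, ← map_inv, ← map_mul, hMmap, hMmem,
        coe_mul, coe_inv, mul_smul, inv_smul_eq_iff, hg₀c] at hy'
      exact hy'.symm
    haveI := hQ2.center_nontrivial
    obtain ⟨z, hz⟩ := exists_prime_orderOf_dvd_card' (G := center Q) 2
      ((hQ2.to_subgroup (center Q)).card_eq_or_dvd.resolve_left
        (Finite.one_lt_card (α := center Q)).ne')
    obtain ⟨y, hy⟩ := QuotientGroup.mk'_surjective M.normalCore ((z : Q) : X ⧸ M.normalCore)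
    obtain ⟨i, o, ho, hio⟩ := Nat.exists_eq_two_pow_mul_odd (orderOf_pos y).ne'
    set t : X := y ^ o with ht
    have hπt : π t = ((z : Q) : X ⧸ M.normalCore) := by
      have hz2 : (((z : Q) : X ⧸ M.normalCore)) ^ 2 = 1 := by
        have := congrArg (fun x : center Q => ((x : Q) : X ⧸ M.normalCore))
          (hz ▸ pow_orderOf_eq_one z : z ^ 2 = 1)
        simpa using this
      obtain ⟨k, rfl⟩ := ho
      rw [ht, map_pow, hy, pow_succ, pow_mul, hz2, one_pow, one_mul]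
    have htpow : t ^ 2 ^ i = 1 := by
      rw [ht, ← pow_mul, mul_comm, ← hio, pow_orderOf_eq_one]
    have hzne : ((z : Q) : X ⧸ M.normalCore) ≠ 1 := fun e => by
      have : z = 1 := Subtype.ext (Subtype.ext e)
      rw [this, orderOf_one] at hz
      exact absurd hz (by decide)
    have ht2 : orderOf ((t : X) : G) = 2 := by
      have h2K : ((t ^ 2 : X) : G) ∈ K := (hπK _).1 (by
        rw [map_pow, hπt]
        have := congrArg (fun x : center Q => ((x : Q) : X ⧸ M.normalCore))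
          (hz ▸ pow_orderOf_eq_one z : z ^ 2 = 1)
        simpa using this)
      have hodd : Odd (orderOf ((t ^ 2 : X) : G)) := (odd_pairStab h.se hc₀a.symm).of_dvd_nat
        (Subgroup.orderOf_dvd_natCard _ (show ((t ^ 2 : X) : G) ∈ pairStab a c₀ from
          ⟨mem_stabilizer_iff.2 ((mem_fixKer.1 h2K).2 a ha),
            mem_stabilizer_iff.2 ((mem_fixKer.1 h2K).2 c₀ hc₀)⟩))
      have h1 : ((t ^ 2 : X) : G) = 1 := CfsgLib.Invol.eq_one_of_odd_of_pow_two hodd (k := i) (by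
        rw [← coe_pow, ← pow_mul, mul_comm, pow_mul, htpow, one_pow, coe_one])
      refine orderOf_eq_prime (by rw [← coe_pow]; exact h1) fun e => hzne ?_
      rw [← hπt, show t = 1 from Subtype.ext e, map_one]
    refine ⟨t, ht2, t.2, ?_, fun g hg => ?_⟩
    · exact mem_stabilizer_iff.1 (hPa ((hmem t).2 (hπt ▸ (z : Q).2))).2
    · have h1 : π (t * ⟨g, hPX hg⟩ * t⁻¹ * (⟨g, hPX hg⟩ : X)⁻¹) = 1 := by
        have hc := congrArg Subtype.val
          (mem_center_iff.1 z.2 ⟨π ⟨g, hPX hg⟩, (hmem ⟨g, hPX hg⟩).1 hg⟩)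
        simp only [coe_mul] at hc
        rw [map_mul, map_mul, map_mul, map_inv, map_inv, hπt, ← hc, mul_inv_cancel_right,
          mul_inv_cancel]
      exact (hπK _).1 h1

namespace LocalData

variable {A P : Subgroup G} {a : G ⧸ H} (D : LocalData H A a P)
include D

/-- An element of `C(A)_a` with a two-power in the kernel lies in `P`. -/
theorem mem_of_pow (hH : Cfsg.IsStronglyEmbedded H) {c : G ⧸ H} (hc : c ∈ fixSet A H) (hca : c ≠ a)
    {g : G} (hgX : g ∈ centralizer (A : Set G)) (hga : g • a = a) {j : ℕ}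
    (hg : g ^ 2 ^ j ∈ fixKer A H) : g ∈ P := by
  obtain ⟨p, hp, hpc⟩ := D.trans c hc hca (g • c)
    (smul_mem_fixSet (centralizer_le_normalizer _ hgX) hc)
    (fun e => hca (smul_left_cancel g (e.trans hga.symm)))
  set d := p⁻¹ * g with hd
  have hdX : d ∈ centralizer (A : Set G) := mul_mem (inv_mem (D.le hp).1) hgX
  have hdD : d ∈ pairStab a c := by
    refine ⟨mem_stabilizer_iff.2 ?_, mem_stabilizer_iff.2 ?_⟩
    · rw [hd, mul_smul, hga, inv_smul_eq_iff, mem_stabilizer_iff.1 (D.le hp).2]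
    · rw [hd, mul_smul, ← hpc, inv_smul_smul]
  have hdN : d ∈ normalizer (P : Set G) := D.norm ⟨hdX, hdD.1⟩
  have hg' : g = p * d := by rw [hd, mul_inv_cancel_left]
  -- `d` has a two-power in `P`, and odd order
  have key : ∀ k : ℕ, g ^ k * (d ^ k)⁻¹ ∈ P := by
    intro k
    induction k with
    | zero => simp
    | succ k ih =>
      have e : g ^ (k + 1) * (d ^ (k + 1))⁻¹ =
          (g ^ k * (d ^ k)⁻¹) * (d ^ k * p * (d ^ k)⁻¹) := by
        rw [pow_succ, pow_succ, hg']; group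
      rw [e]
      exact mul_mem ih ((mem_normalizer_iff.1 (pow_mem hdN k) p).1 hp)
  have h2 : d ^ 2 ^ j ∈ P := by
    have := mul_mem (inv_mem (key (2 ^ j))) (D.ker_le hg)
    simpa using this
  have hodd : Odd (orderOf d) :=
    (odd_pairStab hH hca.symm).of_dvd_nat (Subgroup.orderOf_dvd_natCard _ hdD)
  obtain ⟨u, hu⟩ := exists_pow_eq_self_of_coprime (x := d) (n := 2 ^ j)
    ((Nat.coprime_two_left.2 hodd).pow_left j)
  have hdP : d ∈ P := hu ▸ pow_mem h2 u
  rw [hg']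
  exact mul_mem hp hdP

/-- `P` is invariant under everything normalizing `A` and fixing `a`. -/
theorem normalizer_le (hH : Cfsg.IsStronglyEmbedded H) {c : G ⧸ H} (hc : c ∈ fixSet A H)
    (hca : c ≠ a) : normalizer (A : Set G) ⊓ stabilizer G a ≤ normalizer (P : Set G) := by
  have key : ∀ r ∈ normalizer (A : Set G) ⊓ stabilizer G a, ∀ g ∈ P, r * g * r⁻¹ ∈ P := by
    rintro r ⟨hrN, hra⟩ g hg
    obtain ⟨j, hj⟩ := D.two g hg
    refine D.mem_of_pow hH hc hca (j := j) ?_ ?_ ?_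
    · exact (mem_normalizer_iff.1
        (CfsgLib.Coprime.normalizer_le_normalizer_centralizer _ hrN) g).1 (D.le hg).1
    · rw [mul_smul, mul_smul, mem_stabilizer_iff.1 (inv_mem hra), mem_stabilizer_iff.1 (D.le hg).2,
        mem_stabilizer_iff.1 hra]
    · rw [conj_pow]
      exact (mem_normalizer_iff.1 (normalizer_le_normalizer_fixKer A hrN) _).1 hj
  intro r hr
  exact mem_normalizer_iff.2 fun g => ⟨key r hr g, fun hg => by
    simpa [mul_assoc] using key _ (inv_mem hr) _ hg⟩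

/-- A power of an element of `P` is a two-element in the same coset of the kernel. -/
theorem exists_two_power {g : G} (hg : g ∈ P) :
    ∃ n : ℕ, (∃ i : ℕ, (g ^ n) ^ 2 ^ i = 1) ∧ g⁻¹ * g ^ n ∈ fixKer A H := by
  obtain ⟨j₀, hj₀⟩ := D.two g hg
  set j := j₀ + 1 with hjdef
  have hj : g ^ 2 ^ j ∈ fixKer A H := by
    rw [hjdef, pow_succ, pow_mul]
    exact pow_mem hj₀ 2
  obtain ⟨i, o, ho, hio⟩ := Nat.exists_eq_two_pow_mul_odd (orderOf_pos g).ne'
  obtain ⟨l, hl⟩ : ∃ l : ℕ, (l * o) % 2 ^ j = 1 := by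
    obtain ⟨l, -, hl⟩ := Nat.exists_mul_mod_eq_one_of_coprime
      (((Nat.coprime_two_left.2 ho).pow_left j).symm) (Nat.one_lt_two_pow (by omega))
    exact ⟨l, by rw [mul_comm]; exact hl⟩
  refine ⟨l * o, ⟨i, ?_⟩, ?_⟩
  · rw [← pow_mul, mul_assoc, mul_comm o, ← hio, mul_comm, pow_mul, pow_orderOf_eq_one, one_pow]
  · have h1 : (g ^ (l * o) : G) = g * (g ^ 2 ^ j) ^ ((l * o) / 2 ^ j) := by
      conv_lhs => rw [← Nat.mod_add_div (l * o) (2 ^ j)]
      rw [pow_add, pow_mul, hl, pow_one]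
    rw [h1, inv_mul_cancel_left]
    exact pow_mem hj _

/-- Every coset of the kernel in `P` contains a two-element. -/
theorem exists_two_element {g : G} (hg : g ∈ P) :
    ∃ g' ∈ P, (∃ i : ℕ, g' ^ 2 ^ i = 1) ∧ g⁻¹ * g' ∈ fixKer A H := by
  obtain ⟨n, hn, hk⟩ := D.exists_two_power hg
  exact ⟨g ^ n, pow_mem hg _, hn, hk⟩

theorem fixKer_le_pairStab {c : G ⧸ H} (hc : c ∈ fixSet A H) (hca : c ≠ a)
    (ha : a ∈ fixSet A H) : fixKer A H ≤ pairStab a c := fun _ hk =>
  ⟨mem_stabilizer_iff.2 ((mem_fixKer.1 hk).2 a ha), mem_stabilizer_iff.2 ((mem_fixKer.1 hk).2 c hc)⟩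

variable (h : Setting H) (ha : a ∈ fixSet A H) {c : G ⧸ H} (hc : c ∈ fixSet A H) (hca : c ≠ a)
include h ha hc hca

/-- The kernel is centralized by the involutions of `C(A)` at `a`. -/
theorem commute_fixKer {t : G} (ht : orderOf t = 2) (htA : t ∈ centralizer (A : Set G))
    (hta : t • a = a) {k : G} (hk : k ∈ fixKer A H) : Commute t k :=
  h.commute_of_normalize ht hta hca (fixKer_le_pairStab D hc hca ha)
    (normalizer_le_normalizer_fixKer A (centralizer_le_normalizer _ htA)) hk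

omit ha in
/-- The involutions of `C(A)` at `a` lie in `P`. -/
theorem invol_mem {t : G} (ht : orderOf t = 2) (htA : t ∈ centralizer (A : Set G))
    (hta : t • a = a) : t ∈ P :=
  D.mem_of_pow h.se hc hca htA hta (j := 1) (by
    rw [pow_one, pow_two, invol_mul_self ht]; exact one_mem _)

omit ha in
/-- The involutions of `C(A)` at `a` are conjugate under the elements of `C(A)` fixing `a, c`. -/
theorem exists_conj_invol (h3 : 2 < (fixSet A H).ncard) {q : ℕ} [Fact q.Prime] (hA : IsPGroup q A)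
    (ha : a ∈ fixSet A H) {t s : G} (ht : orderOf t = 2) (htA : t ∈ centralizer (A : Set G))
    (hta : t • a = a) (hs : orderOf s = 2) (hsA : s ∈ centralizer (A : Set G)) (hsa : s • a = a) :
    ∃ d ∈ centralizer (A : Set G), d ∈ pairStab a c ∧ d * t * d⁻¹ = s := by
  obtain ⟨g, hg, hgc⟩ := h.exists_centralizer_map hA ha hc h3
  obtain ⟨d, hd, hda, hdc, hdt⟩ := transitive_fixing h.se (centralizer (A : Set G)) hg
    (by rw [hgc]; exact hca) ht htA hta hs hsA hsa
  rw [hgc] at hdc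
  exact ⟨d, hd, ⟨mem_stabilizer_iff.2 hda, mem_stabilizer_iff.2 hdc⟩, hdt⟩

/-- Two elements differing by a kernel element and inducing the same on an involution. -/
theorem commute_of_commutator_mem {t g : G} (ht : orderOf t = 2)
    (htA : t ∈ centralizer (A : Set G)) (hta : t • a = a)
    (hg : g * t * g⁻¹ * t⁻¹ ∈ fixKer A H) : Commute g t := by
  set k := g * t * g⁻¹ * t⁻¹ with hk
  have hgt : g * t * g⁻¹ = k * t := by rw [hk, inv_mul_cancel_right]
  have hkt : Commute t k := D.commute_fixKer h ha hc hca ht htA hta hg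
  have h1 : k * k = 1 := by
    have h2 : orderOf (k * t) = 2 := hgt ▸ invol_conj ht g
    have h3 := invol_mul_self h2
    rwa [show k * t * (k * t) = k * (t * k) * t by group, hkt.eq,
      show k * (k * t) * t = k * k * (t * t) by group, invol_mul_self ht, mul_one] at h3
  have hodd : Odd (orderOf k) := (odd_pairStab h.se hca.symm).of_dvd_nat
    (Subgroup.orderOf_dvd_natCard _ (fixKer_le_pairStab D hc hca ha hg))
  rw [CfsgLib.Bender.Bad.eq_one_of_sq hodd h1, one_mul] at hgt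
  exact mul_inv_eq_iff_eq_mul.1 hgt

/-- `P` centralizes the involutions of `C(A)` at `a`. -/
theorem commute_invol (h3 : 2 < (fixSet A H).ncard) {q : ℕ} [Fact q.Prime] (hA : IsPGroup q A)
    {t : G} (ht : orderOf t = 2) (htA : t ∈ centralizer (A : Set G)) (hta : t • a = a) {g : G}
    (hg : g ∈ P) : Commute g t := by
  obtain ⟨t₀, ht₀, ht₀A, ht₀a, hcen⟩ := D.central
  obtain ⟨d, hdA, hd, rfl⟩ := D.exists_conj_invol h hc hca h3 hA ha ht₀ ht₀A ht₀a ht htA hta
  have hdN : d ∈ normalizer (P : Set G) := D.norm ⟨hdA, hd.1⟩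
  have h1 : Commute (d⁻¹ * g * d) t₀ := by
    have hg' : d⁻¹ * g * d ∈ P := (mem_normalizer_iff''.1 hdN g).1 hg
    refine D.commute_of_commutator_mem h ha hc hca ht₀ ht₀A ht₀a ?_
    have := inv_mem (hcen _ hg')
    simpa [mul_assoc] using this
  have := h1.map (MulAut.conj d).toMonoidHom
  simpa [mul_assoc] using this

/-- The involutions of `C(A)` at `a` commute. -/
theorem commute_invol_invol (h3 : 2 < (fixSet A H).ncard) {q : ℕ} [Fact q.Prime] (hA : IsPGroup q A)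
    {t s : G} (ht : orderOf t = 2) (htA : t ∈ centralizer (A : Set G)) (hta : t • a = a)
    (hs : orderOf s = 2) (hsA : s ∈ centralizer (A : Set G)) (hsa : s • a = a) : Commute t s :=
  D.commute_invol h ha hc hca h3 hA hs hsA hsa (D.invol_mem h hc hca ht htA hta)

omit ha in
/-- An element moving `c` to a point fixed by `R` can be taken a two-element commuting with `R`
modulo the kernel. -/
theorem exists_two_map {R : Subgroup G} (hR : R ≤ normalizer (A : Set G) ⊓ stabilizer G a)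
    (hRc : c ∈ fixSet R H) {z : G ⧸ H} (hz : z ∈ fixSet A H) (hzR : z ∈ fixSet R H) (hza : z ≠ a) :
    ∃ g ∈ P, (∃ i : ℕ, g ^ 2 ^ i = 1) ∧ g • c = z ∧
      ∀ r ∈ R, g⁻¹ * r * g * r⁻¹ ∈ fixKer A H := by
  obtain ⟨p, hp, hpc⟩ := D.trans c hc hca z hz hza
  obtain ⟨g, hg, hg2, hgp⟩ := D.exists_two_element hp
  have hgc : g • c = z := by
    rw [show g = p * (p⁻¹ * g) by group, mul_smul, (mem_fixKer.1 hgp).2 c hc, hpc]
  refine ⟨g, hg, hg2, hgc, fun r hr => D.semireg _ ?_ c hc hca ?_⟩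
  · have hrN := D.normalizer_le h.se hc hca (hR hr)
    have e : g⁻¹ * r * g * r⁻¹ = g⁻¹ * (r * g * r⁻¹) := by group
    rw [e]
    exact mul_mem (inv_mem hg) ((mem_normalizer_iff.1 hrN g).1 hg)
  · have hr1 : r⁻¹ • c = c := smul_eq_of_mem hRc (inv_mem hr)
    rw [mul_smul, hr1, mul_smul, mul_smul, hgc, smul_eq_of_mem hzR hr, ← hgc, inv_smul_smul]

/-- The common fixed points of `A` and `R` other than `a` have two-power number. -/
theorem ncard_fix_inter {R : Subgroup G} (hR : R ≤ normalizer (A : Set G) ⊓ stabilizer G a)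
    (hRc : c ∈ fixSet R H) :
    ∃ j : ℕ, ({z | z ∈ fixSet A H ∧ z ∈ fixSet R H ∧ z ≠ a} : Set (G ⧸ H)).ncard = 2 ^ j := by
  classical
  haveI : Fact (Nat.Prime 2) := ⟨Nat.prime_two⟩
  have hRn : ∀ r ∈ R, ∀ k ∈ fixKer A H, r * k * r⁻¹ ∈ fixKer A H := fun r hr k hk =>
    (mem_normalizer_iff.1 (normalizer_le_normalizer_fixKer A (hR hr).1) k).1 hk
  have hPn : ∀ g ∈ P, ∀ k ∈ fixKer A H, g * k * g⁻¹ ∈ fixKer A H := fun g hg k hk =>
    (mem_normalizer_iff.1 (normalizer_le_normalizer_fixKer A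
      (centralizer_le_normalizer _ (D.le hg).1)) k).1 hk
  let PR : Subgroup G :=
    { carrier := {g | g ∈ P ∧ ∀ r ∈ R, g⁻¹ * r * g * r⁻¹ ∈ fixKer A H}
      one_mem' := ⟨one_mem _, fun r _ => by simp⟩
      mul_mem' := fun {g g'} hg hg' => ⟨mul_mem hg.1 hg'.1, fun r hr => by
        rw [show (g * g')⁻¹ * r * (g * g') * r⁻¹ = g'⁻¹ * (g⁻¹ * r * g * r⁻¹) * g'⁻¹⁻¹ *
          (g'⁻¹ * r * g' * r⁻¹) by group]
        exact mul_mem (hPn _ (inv_mem hg'.1) _ (hg.2 r hr)) (hg'.2 r hr)⟩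
      inv_mem' := fun {g} hg => ⟨inv_mem hg.1, fun r hr => by
        have h1 := hPn g hg.1 _ (inv_mem (hg.2 r hr))
        rw [show g⁻¹⁻¹ * r * g⁻¹ * r⁻¹ = g * (g⁻¹ * r * g * r⁻¹)⁻¹ * g⁻¹ by group]
        exact h1⟩ }
  have hS : ∀ g ∈ PR, g • c ∈ fixSet A H ∧ g • c ∈ fixSet R H ∧ g • c ≠ a := by
    rintro g ⟨hg, hgR⟩
    refine ⟨smul_mem_fixSet (centralizer_le_normalizer _ (D.le hg).1) hc, fun r hr => ?_,
      fun e => hca (smul_left_cancel g (e.trans (mem_stabilizer_iff.1 (D.le hg).2).symm))⟩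
    have h1 := (mem_fixKer.1 (hgR r hr)).2 c hc
    rw [mul_smul, smul_eq_of_mem hRc (inv_mem hr), mul_smul, mul_smul, inv_smul_eq_iff] at h1
    exact mem_stabilizer_iff.2 h1
  have horb : MulAction.orbit PR c = {z | z ∈ fixSet A H ∧ z ∈ fixSet R H ∧ z ≠ a} := by
    ext z
    constructor
    · rintro ⟨g, rfl⟩
      exact hS g g.2
    · rintro ⟨hz, hzR, hza⟩
      obtain ⟨g, hg, -, hgc, hgR⟩ := D.exists_two_map h hc hca hR hRc hz hzR hza
      exact ⟨⟨g, hg, hgR⟩, hgc⟩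
  rw [← horb, ← Nat.card_coe_set_eq, Nat.card_congr (orbitEquivQuotientStabilizer PR c)]
  -- every element has a two-power in the stabilizer, which is normal
  have hst : stabilizer PR c = (fixKer A H).subgroupOf PR := by
    ext g
    rw [mem_stabilizer_iff, mem_subgroupOf]
    exact ⟨fun e => D.semireg _ g.2.1 c hc hca e, fun e => (mem_fixKer.1 e).2 c hc⟩
  haveI : (stabilizer PR c).Normal := hst ▸ ⟨fun k hk g => mem_subgroupOf.2
    (hPn g g.2.1 _ (mem_subgroupOf.1 hk))⟩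
  refine IsPGroup.iff_card.1 (show IsPGroup 2 (PR ⧸ stabilizer PR c) from fun x => ?_)
  obtain ⟨g, rfl⟩ := QuotientGroup.mk_surjective x
  obtain ⟨j, hj⟩ := D.two g g.2.1
  refine ⟨j, ?_⟩
  rw [← QuotientGroup.mk_pow, QuotientGroup.eq_one_iff, hst, mem_subgroupOf, coe_pow]
  exact hj

end LocalData

end CfsgLib.Bender.Full
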