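import Cfsg.Agent.Lib.Bender.Full.Cases
import Cfsg.Agent.Lib.Bender.Full.Hole.Main

/-!
# Bender's structure theorem for strongly embedded subgroups
-/

set_option autoImplicit false

namespace CfsgLib.Bender.Full

universe u

/-- A core-free strongly embedded subgroup, in a group with two commuting involutions, has a normal
two-subgroup regular on the other cosets. -/
theorem fullStatement : FullStatement.{u} :=
  fullStatement_of_hole fun T hcore heven => Hole.false_of_torus T hcore heven

end CfsgLib.Bender.Full
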