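import Cfsg.Agent.Lib.Bender.Full.Fpf
import Mathlib.GroupTheory.Subgroup.Simple

/-!
# With non-commuting involutions the subgroup generated by the involutions is simple

A minimal normal subgroup of `involGen H` has an involution (`O(H) = 1`) and is not abelian (the
involutions are conjugate and do not commute); if it were proper, an involution in it would be a
product of two elements centralizing it.
-/

set_option autoImplicit false
set_option linter.style.haveILetI false
set_option linter.unusedSectionVars false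

namespace CfsgLib.Bender.Full

open Subgroup MulAction
open scoped commutatorElement
open CfsgLib.Invol (invol_conj invol_mul_self invol_inv invol_ne_one)

universe u

variable {G : Type u} [Group G] [Finite G] {H : Subgroup G}

/-- An odd subgroup of `H` normal in `H` is trivial. -/
theorem MCtx.eq_bot_of_odd_normal (h : MCtx H) {W : Subgroup G} (hW : W ≤ H)
    (hn : H ≤ normalizer (W : Set G)) (hodd : Odd (Nat.card W)) : W = ⊥ := by
  haveI : (W.subgroupOf H).Normal := (normal_subgroupOf_iff_le_normalizer hW).2 hn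
  have h2 : ¬ 2 ∣ Nat.card (W.subgroupOf H) := by
    rw [Nat.card_congr (subgroupOfEquivOfLe hW).toEquiv, ← even_iff_two_dvd, Nat.not_even_iff_odd]
    exact hodd
  have h3 : W.subgroupOf H = ⊥ :=
    le_bot_iff.1 ((CfsgLib.Coprime.le_pPrimeCore_of_not_dvd Nat.prime_two h2).trans
      h.oddCore_eq_bot.le)
  refine (eq_bot_iff_forall _).2 fun g hg => ?_
  have h4 : (⟨g, hW hg⟩ : H) ∈ W.subgroupOf H := hg
  rw [h3, mem_bot] at h4
  exact congrArg Subtype.val h4

namespace Fpf

variable {x : G ⧸ H} {L P : Subgroup G} {s : ℕ} {z t w : G} (F : Fpf H x L P s z t w)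
include F

theorem P_le_H : P ≤ H :=
  F.P_le.trans (inf_le_right.trans (pairStab_base_le H x))

theorem invol_mem_involGen {u : G} (hu : orderOf u = 2) (huH : u ∈ H) : u ∈ involGen H :=
  subset_closure ⟨hu, huH⟩

/-- Facts about a minimal normal subgroup of `involGen H`. -/
theorem eq_top_of_minimal {S : Subgroup (involGen H)} (hSn : S.Normal) (hS1 : S ≠ ⊥)
    (hmin : ∀ W : Subgroup (involGen H), W.Normal → W ≤ S → W ≠ ⊥ → W = S) : S = ⊤ := by
  classical
  -- there is an involution in `S`
  have hOdd : Cfsg.pPrimeCore 2 (involGen H) = ⊥ := by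
    haveI := CfsgLib.Coprime.pPrimeCore_characteristic (G := (involGen H)) 2
    have h1 := F.setting.toMCtx.eq_bot_of_odd_normal
      (W := (Cfsg.pPrimeCore 2 (involGen H)).map (involGen H).subtype) ((map_subtype_le _).trans (involGen_le H))
      ((le_normalizer_involGen H).trans (CfsgLib.PGroup.normalizer_le_normalizer_map_char (involGen H) _))
      (by
        rw [card_map_of_injective (involGen H).subtype_injective, ← Nat.not_even_iff_odd, even_iff_two_dvd]
        exact CfsgLib.Coprime.pPrimeCore_not_dvd Nat.prime_two)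
    exact (map_eq_bot_iff_of_injective _ (involGen H).subtype_injective).1 h1
  obtain ⟨a, haS, hao⟩ : ∃ a : (involGen H), a ∈ S ∧ orderOf a = 2 := by
    by_cases h2 : 2 ∣ Nat.card S
    · obtain ⟨a, ha⟩ := exists_prime_orderOf_dvd_card' 2 h2
      exact ⟨a, a.2, by rwa [Subgroup.orderOf_coe]⟩
    · exact absurd (le_bot_iff.1 ((CfsgLib.Coprime.le_pPrimeCore_of_not_dvd Nat.prime_two h2).trans
        hOdd.le)) hS1
  -- every involution lies in a conjugate
  have hconj : ∀ b : (involGen H), orderOf b = 2 → ∃ e : (involGen H) ≃* (involGen H), e a = b := by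
    intro b hb
    obtain ⟨p, hp, hpa⟩ := F.trans a (involGen_le H a.2) (by rwa [Subgroup.orderOf_coe])
    obtain ⟨p', hp', hpb⟩ := F.trans b (involGen_le H b.2) (by rwa [Subgroup.orderOf_coe])
    refine ⟨Subgroup.normalizerMonoidHom (involGen H) ⟨p' * p⁻¹, le_normalizer_involGen H
      (H.mul_mem (F.P_le_H hp') (H.inv_mem (F.P_le_H hp)))⟩, Subtype.ext ?_⟩
    show p' * p⁻¹ * (a : G) * (p' * p⁻¹)⁻¹ = b
    rw [← hpa, ← hpb]
    group
  -- minimal normal subgroups
  have hMN : ∀ e : (involGen H) ≃* (involGen H), (S.map e.toMonoidHom).Normal ∧ S.map e.toMonoidHom ≠ ⊥ ∧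
      ∀ W : Subgroup (involGen H), W.Normal → W ≤ S.map e.toMonoidHom → W ≠ ⊥ → W = S.map e.toMonoidHom := by
    intro e
    refine ⟨Subgroup.Normal.map hSn _ e.surjective,
      fun h => hS1 ((map_eq_bot_iff_of_injective _ e.injective).1 h), fun W hWn hW hW1 => ?_⟩
    have hW' : W.map e.symm.toMonoidHom = S := by
      refine hmin _ (Subgroup.Normal.map hWn _ e.symm.surjective) ?_
        fun h => hW1 ((map_eq_bot_iff_of_injective _ e.symm.injective).1 h)
      rintro _ ⟨y, hy, rfl⟩
      obtain ⟨y', hy', rfl⟩ := hW hy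
      simpa using hy'
    rw [← hW', Subgroup.map_map]
    convert (Subgroup.map_id W).symm using 2
    ext y
    simp
  -- two of them commute elementwise
  have hcomm : ∀ e : (involGen H) ≃* (involGen H), S.map e.toMonoidHom ≠ S →
      ∀ y ∈ S.map e.toMonoidHom, ∀ y' ∈ S, Commute y y' := by
    intro e hne y hy y' hy'
    obtain ⟨hn, -, hm⟩ := hMN e
    refine Subgroup.commute_of_normal_of_disjoint _ _ hn hSn (disjoint_iff.2 ?_) y y' hy hy'
    by_contra h1
    haveI := hn; haveI := hSn
    have e1 := hm _ inferInstance inf_le_left h1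
    have e2 := hmin _ inferInstance inf_le_right h1
    exact hne (e1.symm.trans e2)
  -- `S` is not abelian
  have hnab : ¬ ∀ y ∈ S, ∀ y' ∈ S, Commute y y' := by
    intro hab
    obtain ⟨u, hu, v, hv, huo, hvo, huv⟩ := F.noncomm
    obtain ⟨e, he⟩ := hconj ⟨u, invol_mem_involGen F huo hu⟩ (by rw [← Subgroup.orderOf_coe]; exact huo)
    obtain ⟨e', he'⟩ := hconj ⟨v, invol_mem_involGen F hvo hv⟩ (by rw [← Subgroup.orderOf_coe]; exact hvo)
    obtain ⟨hn, -, hm⟩ := hMN e
    refine huv (congrArg Subtype.val (?_ : Commute (⟨u, invol_mem_involGen F huo hu⟩ : (involGen H))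
      ⟨v, invol_mem_involGen F hvo hv⟩))
    rw [← he, ← he']
    by_cases h1 : S.map e.toMonoidHom = S.map e'.toMonoidHom
    · have h2 : e' a ∈ S.map e.toMonoidHom := h1 ▸ mem_map_of_mem _ haS
      obtain ⟨c, hc, hce⟩ := h2
      rw [show e' a = e c from hce.symm]
      exact (hab a haS c hc).map e
    · obtain ⟨hn', -, hm'⟩ := hMN e'
      refine Subgroup.commute_of_normal_of_disjoint _ _ hn hn' (disjoint_iff.2 ?_) _ _
        (mem_map_of_mem _ haS) (mem_map_of_mem _ haS)
      by_contra h2
      haveI := hn; haveI := hn'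
      exact h1 ((hm _ inferInstance inf_le_left h2).symm.trans (hm' _ inferInstance inf_le_right h2))
  -- hence no non-identity element of `S` centralizes `S`
  have hcen : ∀ y ∈ S, (∀ y' ∈ S, Commute y y') → y = 1 := by
    intro y hy hyc
    by_contra hy1
    haveI := hSn
    have hZn : (S ⊓ centralizer (S : Set (involGen H))).Normal := inferInstance
    have hZ := hmin _ hZn inf_le_left fun h => hy1 (by
      have : y ∈ S ⊓ centralizer (S : Set (involGen H)) :=
        ⟨hy, mem_centralizer_iff.2 fun y' hy' => (hyc y' hy').eq.symm⟩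
      rwa [h, mem_bot] at this)
    exact hnab fun a ha b hb => (mem_centralizer_iff.1 (hZ.ge ha).2 b hb).symm
  -- all involutions lie in `S`
  have hall : ∀ b : (involGen H), orderOf b = 2 → b ∈ S := by
    intro b hb
    by_contra hbS
    obtain ⟨e, rfl⟩ := hconj b hb
    have hne : S.map e.toMonoidHom ≠ S := fun h => hbS (h ▸ mem_map_of_mem _ haS)
    have hab : Commute (e a) a := hcomm e hne _ (mem_map_of_mem _ haS) a haS
    have ha2 : a * a = 1 := invol_mul_self hao
    have heo : orderOf (e a) = 2 := by rw [MulEquiv.orderOf_eq, hao]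
    have hne' : a * e a ≠ 1 := fun h => hbS (by
      rw [show e a = a from (mul_left_cancel (h.trans ha2.symm))]; exact haS)
    have hco : orderOf (a * e a) = 2 := by
      refine CfsgLib.Invol.invol_iff.2 ⟨?_, hne'⟩
      rw [show a * e a * (a * e a) = a * (e a * a) * e a by group, hab.eq,
        show a * (a * e a) * e a = (a * a) * (e a * e a) by group, ha2, invol_mul_self heo, one_mul]
    obtain ⟨f, hf⟩ := hconj _ hco
    have hfne : S.map f.toMonoidHom ≠ S := fun h => hbS (by
      have h1 : a * e a ∈ S := hf ▸ h ▸ mem_map_of_mem f.toMonoidHom haS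
      have := S.mul_mem (S.inv_mem haS) h1
      rwa [inv_mul_cancel_left] at this)
    refine invol_ne_one hao (hcen a haS fun y hy => ?_)
    have h1 : Commute (a * e a) y := hf ▸ hcomm f hfne _ (mem_map_of_mem _ haS) y hy
    have h2 : Commute (e a) y := hcomm e hne _ (mem_map_of_mem _ haS) y hy
    have h3 := h1.mul_left (h2.inv_left)
    rwa [mul_inv_cancel_right] at h3
  refine eq_top_iff.2 fun g _ => ?_
  have hle : (involGen H) ≤ S.map (involGen H).subtype := by
    refine (closure_le _).2 fun u hu => ?_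
    exact ⟨⟨u, subset_closure hu⟩, hall _ (by rw [← Subgroup.orderOf_coe]; exact hu.1), rfl⟩
  obtain ⟨y, hy, e⟩ := hle g.2
  exact Subtype.ext e ▸ hy

/-- The group generated by the involutions at the base point is simple. -/
theorem isSimple : IsSimpleGroup (involGen H) := by
  haveI : Nontrivial (involGen H) :=
    ⟨⟨⟨t, invol_mem_involGen F F.t_order F.t_mem⟩, 1, fun e =>
      invol_ne_one F.t_order (congrArg Subtype.val e)⟩⟩
  refine { eq_bot_or_eq_top_of_normal := fun W hW => ?_ }
  by_contra h
  push Not at h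
  obtain ⟨S, hS'⟩ := exists_minimal_of_wellFoundedLT
    (fun S : Subgroup (involGen H) => S.Normal ∧ S ≠ ⊥ ∧ S ≤ W) ⟨W, hW, h.1, le_rfl⟩
  obtain ⟨hSn, hS1, hSW⟩ := hS'.prop
  have hS := F.eq_top_of_minimal hSn hS1 fun V hV hVS hV1 =>
    le_antisymm hVS (hS'.le_of_le ⟨hV, hV1, hVS.trans hSW⟩ hVS)
  exact h.2 (top_le_iff.1 (hS ▸ hSW))

theorem not_commutative : ¬ IsMulCommutative (involGen H) := by
  intro hc
  obtain ⟨u, hu, v, hv, huo, hvo, huv⟩ := F.noncomm
  exact huv (congrArg Subtype.val (hc.is_comm.comm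
    (⟨u, invol_mem_involGen F huo hu⟩ : involGen H) ⟨v, invol_mem_involGen F hvo hv⟩))

theorem centralizer_involGen : H ⊓ centralizer (involGen H : Set G) = ⊥ := by
  refine F.setting.toMCtx.eq_bot_of_odd_normal inf_le_left ?_ ?_
  · intro g hg
    refine mem_normalizer_iff.2 fun y => ?_
    have h2 := mem_normalizer_iff.1 (CfsgLib.Coprime.normalizer_le_normalizer_centralizer _
      (le_normalizer_involGen H hg)) y
    rw [mem_inf, mem_inf, ← h2]
    exact and_congr_left fun _ => ⟨fun hy => H.mul_mem (H.mul_mem hg hy) (H.inv_mem hg),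
      fun hy => by simpa [mul_assoc] using H.mul_mem (H.mul_mem (H.inv_mem hg) hy) hg⟩
  · rw [← Nat.not_even_iff_odd, even_iff_two_dvd]
    intro h2
    obtain ⟨u, hu⟩ := exists_prime_orderOf_dvd_card' 2 h2
    have huo : orderOf (u : G) = 2 := by rwa [Subgroup.orderOf_coe]
    have huN := invol_mem_involGen F huo u.2.1
    haveI := F.isSimple
    have hz : (⟨u, huN⟩ : involGen H) ∈ center (involGen H) := mem_center_iff.2 fun g =>
      Subtype.ext (mem_centralizer_iff.1 u.2.2 g g.2)
    rcases Subgroup.Normal.eq_bot_or_eq_top (inferInstance : (center (involGen H)).Normal) with h | h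
    · rw [h, mem_bot] at hz
      exact invol_ne_one huo (congrArg Subtype.val hz)
    · exact F.not_commutative ⟨⟨fun a b => mem_center_iff.1 (h ▸ mem_top b) a⟩⟩

end Fpf

end CfsgLib.Bender.Full
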