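import Cfsg.Agent.Lib.Bender.Defs
import Cfsg.Prelude.Def_Involutions
import Mathlib.GroupTheory.PGroup

/-!
# Bender's structure of a core-free strongly embedded subgroup, as a statement
-/

set_option autoImplicit false

namespace CfsgLib.Bender.Full

universe u

/-- A core-free strongly embedded subgroup of a group with two commuting involutions has a normal
two-subgroup regular on the other cosets. -/
def FullStatement : Prop :=
  ∀ (G : Type u) [Group G] [Finite G] (H : Subgroup G), Cfsg.IsStronglyEmbedded H → H.normalCore = ⊥ →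
    CfsgLib.Bender.HasPair G → ∃ Q : Subgroup G, Q ≤ H ∧ H ≤ Subgroup.normalizer (Q : Set G) ∧ IsPGroup 2 Q ∧
      ∀ g k : G, g ∉ H → k ∉ H → ∃! x, x ∈ Q ∧ k⁻¹ * (x * g) ∈ H

end CfsgLib.Bender.Full
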