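import Cfsg.Agent.Lib.Bender.Full.Ctx
import Cfsg.Agent.Lib.Bender.Core.LocalAt
import Cfsg.Agent.S0205

/-!
# The structure of a strongly embedded subgroup: tools

An involution normalizing a subgroup of a pair centralizes it; local subgroups; elements inverted by
a swapper fix two points; lonely centralizers; primes dividing the number of involutions.
-/

set_option autoImplicit false
set_option linter.style.haveILetI false
set_option linter.unusedSectionVars false

namespace CfsgLib.Bender.Full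

open Subgroup MulAction
open scoped commutatorElement
open CfsgLib.Coprime (IsSylowIn conjBy)
open CfsgLib.Invol (fixed_unique invol_conj invol_smul_smul invol_inv invol_mul_self invol_ne_one)

universe u

variable {G : Type u} [Group G] [Finite G] {H : Subgroup G}

/-- Two commuting involutions centralize `A`. -/
def Nonlonely (A : Subgroup G) : Prop :=
  CfsgLib.Bender.HasPair (centralizer (A : Set G))

omit [Finite G] in
theorem nonlonely_iff {A : Subgroup G} : Nonlonely A ↔ ∃ t s : G, orderOf t = 2 ∧ orderOf s = 2 ∧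
    t ≠ s ∧ Commute t s ∧ t ∈ centralizer (A : Set G) ∧ s ∈ centralizer (A : Set G) := by
  constructor
  · rintro ⟨t, s, ht, hs, hne, hc⟩
    exact ⟨t, s, by rwa [orderOf_coe], by rwa [orderOf_coe], fun e => hne (Subtype.ext e),
      congrArg Subtype.val hc, t.2, s.2⟩
  · rintro ⟨t, s, ht, hs, hne, hc, htC, hsC⟩
    exact ⟨⟨t, htC⟩, ⟨s, hsC⟩, by rwa [← orderOf_coe], by rwa [← orderOf_coe],
      fun e => hne (congrArg Subtype.val e), Subtype.ext hc⟩

omit [Finite G] in
theorem Nonlonely.mono {A B : Subgroup G} (hAB : A ≤ B) (h : Nonlonely B) : Nonlonely A := by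
  obtain ⟨t, s, ht, hs, hne, hc, htC, hsC⟩ := nonlonely_iff.1 h
  exact nonlonely_iff.2 ⟨t, s, ht, hs, hne, hc, centralizer_le hAB htC, centralizer_le hAB hsC⟩

omit [Finite G] in
theorem lonely_of_not_nonlonely {A : Subgroup G} (h : ¬ Nonlonely A) :
    Lonely (centralizer (A : Set G)) := fun v hv w hw hvo hwo hc => by
  by_contra hne
  exact h (nonlonely_iff.2 ⟨v, w, hvo, hwo, hne, hc, hv, hw⟩)

omit [Finite G] in
theorem stabilizer_base (H : Subgroup G) : stabilizer G (base H) = H :=
  MulAction.stabilizer_quotient H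

omit [Finite G] in
theorem smul_base {g : G} : g • base H = base H ↔ g ∈ H :=
  mem_stabilizer_iff.symm.trans (by rw [stabilizer_base])

theorem exists_zpowers_map (hH : Cfsg.IsStronglyEmbedded H) {t u : G}
    (ht : orderOf t = 2) (hu : orderOf u = 2) {a c : G ⧸ H}
    (hta : t • a = a) (huc : u • c = c) : ∃ g ∈ zpowers (t * u), g • a = c := by
  by_cases hac : a = c
  · exact ⟨1, one_mem _, by rw [one_smul, hac]⟩
  rcases Nat.even_or_odd (orderOf (t * u)) with hev | hodd
  · set z := (t * u) ^ (orderOf (t * u) / 2) with hz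
    have hzo : orderOf z = 2 := CfsgLib.Invol.orderOf_pow_half hev
    have h1 : Commute z t := CfsgLib.Invol.commute_pow_half (CfsgLib.Invol.invol_conj_mul ht hu) hev
    have h2 : Commute z u := CfsgLib.Invol.commute_pow_half (CfsgLib.Invol.invol_conj_mul' ht hu) hev
    refine absurd (fixed_unique hH hzo ?_ ?_) hac
    · exact mem_stabilizer_iff.1 (centralizer_le_stabilizer hH ht hta
        (mem_centralizer_singleton_iff.2 h1.eq))
    · exact mem_stabilizer_iff.1 (centralizer_le_stabilizer hH hu huc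
        (mem_centralizer_singleton_iff.2 h2.eq))
  · obtain ⟨d, hd, hdu⟩ := CfsgLib.Invol.exists_conj_eq_of_odd ht hu hodd
    refine ⟨d, hd, fixed_unique hH hu ?_ huc⟩
    rw [← hdu, CfsgLib.Invol.conj_fixes, hta]

theorem exists_map_of_invols (hH : Cfsg.IsStronglyEmbedded H) {L : Subgroup G} {t u : G}
    (ht : orderOf t = 2) (hu : orderOf u = 2) (htL : t ∈ L) (huL : u ∈ L) {a c : G ⧸ H}
    (hta : t • a = a) (huc : u • c = c) : ∃ g ∈ L, g • a = c := by
  obtain ⟨g, hg, hgc⟩ := exists_zpowers_map hH ht hu hta huc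
  exact ⟨g, zpowers_le.2 (mul_mem htL huL) hg, hgc⟩

/-- No involution centralizes a subgroup of a pair fixing only the two points. -/
theorem notMem_centralizer_of_two (hH : Cfsg.IsStronglyEmbedded H) {W : Subgroup G} {a c : G ⧸ H}
    (hW : W ≤ pairStab a c) (hac : a ≠ c) (htwo : ∀ z ∈ fixSet W H, z = a ∨ z = c) {t : G}
    (ht : orderOf t = 2) : t ∉ centralizer (W : Set G) := by
  intro htC
  obtain ⟨d, hd⟩ := exists_fixed hH ht
  have hdW : d ∈ fixSet W H := fun x hx => centralizer_le_stabilizer hH ht hd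
    (mem_centralizer_singleton_iff.2 (mem_centralizer_iff.1 htC x hx))
  have htN : t ∈ normalizer (W : Set G) := centralizer_le_normalizer _ htC
  rcases htwo d hdW with rfl | rfl
  · rcases htwo _ (smul_mem_fixSet htN (hW.trans inf_le_right : c ∈ fixSet W H)) with e | e
    · exact hac (smul_left_cancel t (hd.trans e.symm))
    · exact hac (fixed_unique hH ht hd e)
  · rcases htwo _ (smul_mem_fixSet htN (hW.trans inf_le_left : a ∈ fixSet W H)) with e | e
    · exact hac (fixed_unique hH ht e hd)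
    · exact hac (smul_left_cancel t (hd.trans e.symm)).symm

namespace MCtx

variable (h : MCtx H)
include h

theorem exists_pair_map {a c a' c' : G ⧸ H} (hac : a ≠ c) (hac' : a' ≠ c') :
    ∃ g : G, g • a = a' ∧ g • c = c' :=
  h.toCore.exists_pair_map hac hac'

/-- An element of a pair inverted by a swapper is centralized by no involution. -/
theorem not_commute_of_inverted {a c : G ⧸ H} (hac : a ≠ c) {v : G} (hv : orderOf v = 2)
    (hva : v • a = c) {f : G} (hf : f ∈ pairStab a c) (hf1 : f ≠ 1) (hinv : v * f * v⁻¹ = f⁻¹)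
    {t : G} (ht : orderOf t = 2) : ¬ Commute t f := by
  intro htf
  obtain ⟨g, hg⟩ := MulAction.exists_smul_eq G a (base H)
  have hvc : v • c = a := by rw [← hva, invol_smul_smul hv]
  have hgv : ∀ y : G ⧸ H, (g * v * g⁻¹) • g • y = g • v • y := fun y => by
    rw [smul_smul, inv_mul_cancel_right, mul_smul]
  have hgf : ∀ y : G ⧸ H, f • y = y → (g * f * g⁻¹) • g • y = g • y := fun y hy => by
    rw [smul_smul, inv_mul_cancel_right, mul_smul, hy]
  have huH : g * v * g⁻¹ ∉ H := fun e => hac (by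
    have h1 := smul_base.2 e
    rw [← hg, hgv, hva] at h1
    exact (smul_left_cancel g h1).symm)
  refine CfsgLib.Bender.Bad.false_of_bad h.coreThm h.se h.core (invol_conj hv g) huH
    (z := g * f * g⁻¹) ⟨?_, ?_⟩ ?_ ?_ (invol_conj ht g) ?_
  · exact smul_base.1 (by rw [← hg]; exact hgf a (mem_stabilizer_iff.1 hf.1))
  · refine ⟨(g * v * g⁻¹)⁻¹ * (g * f * g⁻¹) * (g * v * g⁻¹), ?_, by simp [mul_assoc]⟩
    refine smul_base.1 ?_
    rw [← hg, mul_smul, mul_smul, hgv, hva, hgf c (mem_stabilizer_iff.1 hf.2), inv_smul_eq_iff, hgv,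
      hva]
  · exact fun e => hf1 (conj_eq_one_iff.1 e)
  · rw [show g * v * g⁻¹ * (g * f * g⁻¹) * (g * v * g⁻¹)⁻¹ = g * (v * f * v⁻¹) * g⁻¹ by group, hinv]
    group
  · exact htf.map (MulAut.conj g).toMonoidHom

end MCtx

namespace Setting

variable (h : Setting H)
include h

/-- An involution fixing `a` and normalizing a subgroup of a pair through `a` centralizes it. -/
theorem commute_of_normalize {t : G} (ht : orderOf t = 2) {a c : G ⧸ H} (hta : t • a = a)
    (hca : c ≠ a) {W : Subgroup G} (hW : W ≤ pairStab a c) (htW : t ∈ normalizer (W : Set G))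
    {w : G} (hw : w ∈ W) : Commute t w := by
  have hg : w⁻¹ * (t * w * t⁻¹) ∈ W := W.mul_mem (W.inv_mem hw) ((mem_normalizer_iff.1 htW w).1 hw)
  have h1 := h.tweak _ t a c ht hta hca (mem_stabilizer_iff.1 (hW hg).1)
    (mem_stabilizer_iff.1 (hW hg).2) (by
      have htt : t * t = 1 := invol_mul_self ht
      rw [invol_inv ht]
      simp only [mul_inv_rev, inv_inv, invol_inv ht, mul_assoc]
      rw [htt, mul_one])
  rw [inv_mul_eq_one] at h1
  exact (mul_inv_eq_iff_eq_mul.1 h1.symm)

theorem mem_centralizer_of_normalize {t : G} (ht : orderOf t = 2) {a c : G ⧸ H} (hta : t • a = a)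
    (hca : c ≠ a) {W : Subgroup G} (hW : W ≤ pairStab a c) (htW : t ∈ normalizer (W : Set G)) :
    t ∈ centralizer (W : Set G) :=
  mem_centralizer_iff.2 fun _ hw => (h.commute_of_normalize ht hta hca hW htW hw).eq.symm

/-- (LOC) A `q`-group fixing three points is centralized by an involution at each fixed point. -/
theorem exists_invol_centralizing {q : ℕ} [Fact q.Prime] {A : Subgroup G} (hA : IsPGroup q A)
    {a : G ⧸ H} (ha : a ∈ fixSet A H) (h3 : 2 < (fixSet A H).ncard) :
    ∃ t : G, orderOf t = 2 ∧ t • a = a ∧ t ∈ centralizer (A : Set G) := by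
  rcases eq_or_ne q 2 with rfl | hq2
  · obtain ⟨c, hc, hca⟩ := Set.exists_ne_of_one_lt_ncard (show 1 < (fixSet A H).ncard by omega) a
    have hbot : A = ⊥ := (eq_bot_iff_forall _).2 fun x hx => by
      obtain ⟨k, hk⟩ := hA ⟨x, hx⟩
      exact CfsgLib.Invol.eq_one_of_odd_of_pow_two ((odd_pairStab h.se hca.symm).of_dvd_nat
        (Subgroup.orderOf_dvd_natCard _ (show x ∈ pairStab a c from ⟨ha hx, hc hx⟩)))
        (congrArg Subtype.val hk)
    obtain ⟨t, ht, hta⟩ := CfsgLib.Invol.exists_invol_fixing h.se a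
    exact ⟨t, ht, hta, hbot ▸ mem_centralizer_iff.2 fun x hx => by
      rw [mem_bot.1 hx, one_mul, mul_one]⟩
  obtain ⟨Q, -, hAQ, haQ, hQ3, -, hinv⟩ := h.toMCtx.toCore.exists_local_at hq2 hA ha h3
  obtain ⟨v, hvQ, hv, hva⟩ := hinv a haQ
  obtain ⟨c, hc, hca⟩ := Set.exists_ne_of_one_lt_ncard (show 1 < (fixSet Q H).ncard by omega) a
  exact ⟨v, hv, hva, centralizer_le hAQ
    (h.mem_centralizer_of_normalize hv hva hca (le_inf haQ hc) hvQ)⟩

/-- The centralizer of a `q`-group fixing three points is transitive on its fixed points. -/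
theorem exists_centralizer_map {q : ℕ} [Fact q.Prime] {A : Subgroup G} (hA : IsPGroup q A)
    {a c : G ⧸ H} (ha : a ∈ fixSet A H) (hc : c ∈ fixSet A H) (h3 : 2 < (fixSet A H).ncard) :
    ∃ g ∈ centralizer (A : Set G), g • a = c := by
  obtain ⟨t, ht, hta, htC⟩ := h.exists_invol_centralizing hA ha h3
  obtain ⟨u, hu, huc, huC⟩ := h.exists_invol_centralizing hA hc h3
  exact exists_map_of_invols h.se ht hu htC huC hta huc

/-- (F3) An element of a pair inverted by a swapper fixes only the two points. -/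
theorem fix_of_inverted {a c : G ⧸ H} (hac : a ≠ c) {v : G} (hv : orderOf v = 2) (hva : v • a = c)
    {f : G} (hf : f ∈ pairStab a c) (hf1 : f ≠ 1) (hinv : v * f * v⁻¹ = f⁻¹) {z : G ⧸ H}
    (hz : f • z = z) : z = a ∨ z = c := by
  by_contra hcon
  push Not at hcon
  obtain ⟨q, hq, hqf⟩ := Nat.exists_prime_and_dvd (n := orderOf f)
    (fun e => hf1 (orderOf_eq_one_iff.1 e))
  haveI := Fact.mk hq
  set f₀ := f ^ (orderOf f / q) with hf₀
  have hf₀o : orderOf f₀ = q := orderOf_pow_orderOf_div (orderOf_pos f).ne' hqf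
  have hfix : ∀ y : G ⧸ H, f • y = y → y ∈ fixSet (zpowers f₀) H := fun y hy =>
    zpowers_le.2 (pow_mem (mem_stabilizer_iff.2 hy : f ∈ stabilizer G y) _)
  obtain ⟨t, ht, -, htC⟩ := h.exists_invol_centralizing
    (IsPGroup.of_card (n := 1) (by rw [Nat.card_zpowers, hf₀o, pow_one]) : IsPGroup q (zpowers f₀))
    (hfix z hz) ((Set.two_lt_ncard_iff (Set.toFinite _)).2 ⟨a, c, z,
      hfix a (mem_stabilizer_iff.1 hf.1), hfix c (mem_stabilizer_iff.1 hf.2), hfix z hz, hac,
      Ne.symm hcon.1, Ne.symm hcon.2⟩)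
  refine h.toMCtx.not_commute_of_inverted hac hv hva (pow_mem hf _) ?_ ?_ ht
    (mem_centralizer_iff.1 htC f₀ (mem_zpowers f₀)).symm
  · exact fun e => hq.ne_one (by rw [← hf₀o, hf₀, e, orderOf_one])
  · rw [← conj_pow, hinv, inv_pow]

/-- (F3) An element of `G_a` centralizing such an element fixes the pair. -/
theorem centralizer_of_inverted {a c : G ⧸ H} (hac : a ≠ c) {v : G} (hv : orderOf v = 2)
    (hva : v • a = c) {f : G} (hf : f ∈ pairStab a c) (hf1 : f ≠ 1) (hinv : v * f * v⁻¹ = f⁻¹)
    {g : G} (hga : g • a = a) (hgf : Commute g f) : g ∈ pairStab a c := by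
  refine ⟨mem_stabilizer_iff.2 hga, mem_stabilizer_iff.2 ?_⟩
  have h1 : f • g • c = g • c := by
    rw [smul_smul, ← hgf.eq, mul_smul, mem_stabilizer_iff.1 hf.2]
  rcases h.fix_of_inverted hac hv hva hf hf1 hinv h1 with e | e
  · exact absurd (smul_left_cancel g (hga.trans e.symm)) hac
  · exact e

/-- (LON) In a lonely subgroup with involutions at two points, at most one involution fixes each. -/
theorem eq_of_lonely {L : Subgroup G} (hL : Lonely L) {a : G ⧸ H} {t s : G} (ht : orderOf t = 2)
    (hs : orderOf s = 2) (htL : t ∈ L) (hsL : s ∈ L) (hta : t • a = a) (hsa : s • a = a) {u : G}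
    (hu : orderOf u = 2) (huL : u ∈ L) (hua : u • a ≠ a) : t = s := by
  classical
  set O := coreOf L with hO
  haveI : Group.IsSolvable O := Cfsg.Agent.S0205.result (odd_coreOf L)
  let N : ℕ → Subgroup G := fun k => (derivedSeries O k).map O.subtype
  have hNn : ∀ k, L ≤ normalizer (N k : Set G) := fun k =>
    (le_normalizer_coreOf L).trans (CfsgLib.PGroup.normalizer_le_normalizer_map_char O _)
  have hex : ∃ k, ∀ g ∈ N k, g • a = a := by
    obtain ⟨k, hk⟩ := (Group.isSolvable_def O).1 inferInstance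
    refine ⟨k, fun g hg => ?_⟩
    obtain ⟨g', hg', rfl⟩ := hg
    rw [hk] at hg'
    rw [mem_bot.1 hg', map_one, one_smul]
  obtain ⟨k, hk⟩ : ∃ k, Nat.find hex = k + 1 := by
    refine ⟨Nat.find hex - 1, ?_⟩
    have : Nat.find hex ≠ 0 := fun e => by
      have h0 := Nat.find_spec hex
      rw [e] at h0
      have h1 := h0 (t * u) ⟨⟨t * u, mul_mem_coreOf hL htL huL ht hu⟩, mem_top _, rfl⟩
      rw [mul_smul] at h1
      exact hua (smul_left_cancel t (h1.trans hta.symm))
    omega
  obtain ⟨n, hn, hna⟩ : ∃ n ∈ N k, n • a ≠ a := by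
    have := Nat.find_min hex (m := k) (by omega)
    push Not at this
    exact this
  have hfix : ∀ g ∈ N (k + 1), ∀ x ∈ N k, g • x • a = x • a := by
    intro g hg x hx
    have hxn : x ∈ normalizer (N (k + 1) : Set G) :=
      (le_normalizer.trans (CfsgLib.PGroup.normalizer_le_normalizer_map_char O _))
        (map_subtype_le _ hx)
    have h1 := hk ▸ Nat.find_spec hex
    have h2 := h1 _ ((mem_normalizer_iff''.1 hxn g).1 hg)
    rwa [mul_smul, mul_smul, inv_smul_eq_iff] at h2
  have hfix' : ∀ x ∈ N k, ∀ y ∈ N k, ∀ z ∈ N k, (x * y) • z • a = (y * x) • z • a := by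
    intro x hx y hy z hz
    obtain ⟨x', hx', rfl⟩ := hx
    obtain ⟨y', hy', rfl⟩ := hy
    have hc : ((y' * x')⁻¹ * (x' * y') : O) ∈ derivedSeries O (k + 1) := by
      rw [derivedSeries_succ, show (y' * x')⁻¹ * (x' * y') = ⁅x'⁻¹, y'⁻¹⁆ by
        rw [commutatorElement_def]; group]
      exact commutator_mem_commutator (inv_mem hx') (inv_mem hy')
    have h1 := hfix _ ⟨_, hc, rfl⟩ z hz
    simp only [map_mul, map_inv, coe_subtype] at h1 ⊢
    rw [mul_smul, inv_smul_eq_iff] at h1
    exact h1
  have key : ∀ v : G, orderOf v = 2 → v ∈ L → v • a = a → ∀ x ∈ N k,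
      v • x • a = x⁻¹ • a := by
    intro v hv hvL hva x hx
    set x1 := v * x * v⁻¹ with hx1
    have hx1N : x1 ∈ N k := (mem_normalizer_iff.1 (hNn k hvL) x).1 hx
    have e : x1 * x = v * x * v * x := by rw [hx1, invol_inv hv]
    have h1 : v • (x1 * x) • a = (x1 * x) • a := by
      have hvx : ∀ y : G ⧸ H, (v * x * v * x) • y = v • x • v • x • y := fun y => by
        simp only [mul_smul]
      have h2 := hfix' x hx x1 hx1N 1 (N k).one_mem
      rw [one_smul] at h2
      calc v • (x1 * x) • a = v • (v * x * v * x) • a := by rw [e]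
        _ = x • v • x • v • a := by rw [hvx, invol_smul_smul hv, hva]
        _ = (x * x1) • a := by rw [hx1, invol_inv hv]; simp only [mul_smul]
        _ = (x1 * x) • a := h2
    have h3 : (x1 * x) • a = a := fixed_unique h.se hv h1 hva
    have h4 : x1⁻¹ • a = x • a := by
      rw [inv_smul_eq_iff, ← mul_smul]; exact h3.symm
    calc v • x • a = v • x1⁻¹ • a := by rw [h4]
      _ = x⁻¹ • v • a := by
        rw [hx1]; simp only [mul_inv_rev, mul_smul, invol_inv hv, invol_smul_smul hv]
      _ = x⁻¹ • a := by rw [hva]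
  have h5 : (t * s) • n • a = n • a := by
    rw [mul_smul, key s hs hsL hsa n hn, key t ht htL hta _ (inv_mem hn), inv_inv]
  have h6 := h.tweak (t * s) t a (n • a) ht hta hna (by rw [mul_smul, hsa, hta]) h5 (by
    rw [invol_inv ht, mul_inv_rev, invol_inv hs, invol_inv ht, ← mul_assoc, invol_mul_self ht,
      one_mul])
  exact (mul_eq_one_iff_eq_inv.1 h6).trans (invol_inv hs)

/-- A centralizer with two commuting involutions has two of them at each point where it has one. -/
theorem exists_two_at {A : Subgroup G} (hA : Nonlonely A) {a : G ⧸ H} {t : G} (ht : orderOf t = 2)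
    (htA : t ∈ centralizer (A : Set G)) (hta : t • a = a) :
    ∃ u v : G, orderOf u = 2 ∧ orderOf v = 2 ∧ u ≠ v ∧ Commute u v ∧ u ∈ centralizer (A : Set G) ∧
      v ∈ centralizer (A : Set G) ∧ u • a = a ∧ v • a = a := by
  obtain ⟨p, q, hp, hq, hne, hc, hpA, hqA⟩ := nonlonely_iff.1 hA
  obtain ⟨c, hpc⟩ := exists_fixed h.se hp
  have hqc : q • c = c := mem_stabilizer_iff.1 (centralizer_le_stabilizer h.se hp hpc
    (mem_centralizer_singleton_iff.2 hc.symm.eq))
  obtain ⟨g, hg, hgc⟩ := exists_map_of_invols h.se hp ht hpA htA hpc hta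
  refine ⟨g * p * g⁻¹, g * q * g⁻¹, invol_conj hp g, invol_conj hq g,
    fun e => hne (mul_left_cancel (mul_right_cancel e)), hc.map (MulAut.conj g).toMonoidHom,
    mul_mem (mul_mem hg hpA) (inv_mem hg), mul_mem (mul_mem hg hqA) (inv_mem hg), ?_, ?_⟩
  · rw [← hgc, CfsgLib.Invol.conj_fixes, hpc]
  · rw [← hgc, CfsgLib.Invol.conj_fixes, hqc]

variable {p : ℕ} [hp : Fact p.Prime]
include hp

/-- (PI) A Sylow subgroup of a pair for a prime dividing the number of involutions fixes only two
points. -/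
theorem two_of_dvd (hpm : p ∣ numInv H) {a c : G ⧸ H} (hac : a ≠ c) {R : Subgroup G}
    (hR : IsSylowIn p R (pairStab a c)) {z : G ⧸ H} (hz : z ∈ fixSet R H) : z = a ∨ z = c := by
  by_contra hcon
  push Not at hcon
  obtain ⟨t, ht, hta, htC⟩ := h.exists_invol_centralizing hR.isPGroup
    (hR.1.trans inf_le_left : a ∈ fixSet R H) ((Set.two_lt_ncard_iff (Set.toFinite _)).2 ⟨a, c, z,
      hR.1.trans inf_le_left, hR.1.trans inf_le_right, hz, hac, Ne.symm hcon.1, Ne.symm hcon.2⟩)
  have hle : R ≤ centralizer ({t} : Set G) ⊓ pairStab a c := le_inf (fun x hx =>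
    mem_centralizer_singleton_iff.2 (mem_centralizer_iff.1 htC x hx)) hR.1
  have h1 : p ∣ Nat.card (pairStab a c) / Nat.card R := by
    have h2 := relIndex_mul_card_inf (centralizer ({t} : Set G)) (pairStab a c)
    rw [relIndex_fix h.se hac ht hta] at h2
    obtain ⟨k, hk⟩ := card_dvd_of_le hle
    rw [hk] at h2
    rw [← h2, mul_comm, mul_assoc, Nat.mul_div_cancel_left _ Nat.card_pos]
    exact hpm.mul_left k
  rw [hR.2] at h1
  exact Nat.not_dvd_ordCompl hp.out Nat.card_pos.ne' h1

/-- (PI) Such a subgroup is a Sylow subgroup of the point stabilizer. -/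
theorem sylow_stab_of_dvd (hpm : p ∣ numInv H) {a c : G ⧸ H} (hac : a ≠ c) {R : Subgroup G}
    (hR : IsSylowIn p R (pairStab a c)) : IsSylowIn p R (stabilizer G a) :=
  sylowIn_stab_of_two hR hac fun _ hz => h.two_of_dvd hpm hac hR hz

/-- (PI) A prime dividing the number of involutions is prime to the number of other points. -/
theorem not_dvd_index (hpm : p ∣ numInv H) {a c : G ⧸ H} (hac : a ≠ c) :
    ¬ p ∣ (pairStab a c).relIndex (stabilizer G a) := by
  obtain ⟨R, hR, -⟩ := exists_sylowIn_ge (K := pairStab a c) (P := ⊥)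
    (IsPGroup.of_bot (p := p)) bot_le
  have h1 := (h.sylow_stab_of_dvd hpm hac hR).2
  rw [hR.2] at h1
  have h2 : Nat.card (pairStab a c) * (pairStab a c).relIndex (stabilizer G a) =
      Nat.card (stabilizer G a) := by
    have h3 := relIndex_mul_card_inf (pairStab a c) (stabilizer G a)
    rwa [inf_eq_left.2 inf_le_left, mul_comm] at h3
  intro hd
  have h4 := Nat.pow_right_injective hp.out.two_le h1
  rw [← h2, Nat.factorization_mul Nat.card_pos.ne' (relIndex_pos _ _).ne', Finsupp.add_apply] at h4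
  have := hp.out.factorization_pos_of_dvd (relIndex_pos _ _).ne' hd
  omega

/-- A prime not dividing the number of involutions: a `p`-subgroup of a pair is centralized by an
involution at each of the two points and fixes a third one. -/
theorem three_of_not_dvd (hpm : ¬ p ∣ numInv H) {a c : G ⧸ H} (hac : a ≠ c) {A : Subgroup G}
    (hA : IsPGroup p A) (hAD : A ≤ pairStab a c) : 2 < (fixSet A H).ncard := by
  obtain ⟨R, hR, hAR⟩ := exists_sylowIn_ge hA hAD
  obtain ⟨t, ht, hta⟩ := CfsgLib.Invol.exists_invol_fixing h.se a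
  obtain ⟨S, hS, -⟩ := exists_sylowIn_ge (K := centralizer ({t} : Set G) ⊓ pairStab a c) (P := ⊥)
    (IsPGroup.of_bot (p := p)) bot_le
  have hSD : IsSylowIn p S (pairStab a c) := by
    refine ⟨hS.1.trans inf_le_right, ?_⟩
    have h2 := relIndex_mul_card_inf (centralizer ({t} : Set G)) (pairStab a c)
    rw [relIndex_fix h.se hac ht hta] at h2
    have hm : numInv H ≠ 0 := fun e => by
      rw [e, zero_mul] at h2
      exact Nat.card_pos.ne' h2.symm
    rw [hS.2, ← h2, Nat.factorization_mul hm Nat.card_pos.ne', Finsupp.add_apply,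
      Nat.factorization_eq_zero_of_not_dvd hpm, zero_add]
  obtain ⟨g, hg, hgS⟩ := hSD.exists_conj hR
  have hSC : t ∈ centralizer (S : Set G) := mem_centralizer_iff.2 fun x hx =>
    mem_centralizer_singleton_iff.1 (hS.1 hx).1
  have hgC : g * t * g⁻¹ ∈ centralizer (R : Set G) := by
    refine mem_centralizer_iff.2 fun x hx => ?_
    rw [← hgS] at hx
    obtain ⟨y, hy, rfl⟩ := hx
    show g * y * g⁻¹ * (g * t * g⁻¹) = g * t * g⁻¹ * (g * y * g⁻¹)
    calc g * y * g⁻¹ * (g * t * g⁻¹) = g * (y * t) * g⁻¹ := by group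
      _ = g * (t * y) * g⁻¹ := by rw [mem_centralizer_iff.1 hSC y hy]
      _ = _ := by group
  by_contra hle
  refine notMem_centralizer_of_two h.se hR.1 hac ?_ (invol_conj ht g) hgC
  intro z hz
  by_contra hcon
  push Not at hcon
  exact hle ((Set.two_lt_ncard_iff (Set.toFinite _)).2 ⟨a, c, z, hAR.trans (hR.1.trans inf_le_left),
    hAR.trans (hR.1.trans inf_le_right), hAR.trans hz, hac, Ne.symm hcon.1, Ne.symm hcon.2⟩)

end Setting

end CfsgLib.Bender.Full
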