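import Cfsg.Agent.Lib.Block.CycloNorm
import Mathlib.NumberTheory.NumberField.Cyclotomic.Basic

/-!
# Cyclotomic sums divisible by `r`

`sq_mul_totient_le_sum`: if `f i = ∑ j, m j * ζ ^ (i * j)` for a primitive `r ^ k`-th root of unity
`ζ` and integers `m j`, all `f i / r` (`i` prime to `r`) are integral, and one of them is non-zero,
then the squares of their absolute values sum to at least `r ^ 2 φ (r ^ k)`.
-/

set_option autoImplicit false
set_option linter.style.haveILetI false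

open Finset
open scoped ComplexConjugate

namespace CfsgLib.Bender.Full.Vanish

open CfsgLib.Block

variable {r : ℕ} [hr : Fact r.Prime] {k : ℕ}

/-- An algebraic integer which is a rational multiple of a cyclotomic integer of prime power
level is a cyclotomic integer. -/
theorem mem_cycInt_of_isIntegral {ζ : ℂ} (hζ : IsPrimitiveRoot ζ (r ^ k)) {z c : ℂ}
    (hc : c ∈ cycInt (r ^ k)) {q : ℚ} (hzc : z = (q : ℂ) * c) (hz : IsIntegral ℤ z) :
    z ∈ cycInt (r ^ k) := by
  haveI : NeZero (r ^ k) := ⟨pow_ne_zero _ hr.out.ne_zero⟩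
  set K := IntermediateField.adjoin ℚ ({ζ} : Set ℂ) with hK
  haveI : IsCyclotomicExtension {r ^ k} ℚ K := by
    haveI := hζ.adjoin_isCyclotomicExtension ℚ
    exact IsCyclotomicExtension.equiv {r ^ k} ℚ _ (Subalgebra.equivOfEq _ _
      (IntermediateField.adjoin_simple_toSubalgebra_of_isAlgebraic
        (((hζ.isIntegral (Nat.pos_of_ne_zero (pow_ne_zero _ hr.out.ne_zero))).tower_top (A := ℚ)).isAlgebraic)).symm)
  let ζK : K := ⟨ζ, IntermediateField.mem_adjoin_simple_self ℚ ζ⟩
  have hζK : IsPrimitiveRoot ζK (r ^ k) :=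
    IsPrimitiveRoot.of_map_of_injective (f := algebraMap K ℂ) hζ (algebraMap K ℂ).injective
  haveI := IsCyclotomicExtension.Rat.isIntegralClosure_adjoin_singleton_of_prime_pow hζK
  have hcK : c ∈ K := by
    clear hzc
    induction hc using Subring.closure_induction with
    | mem x hx =>
      obtain ⟨i, -, hi⟩ := hζ.eq_pow_of_pow_eq_one hx
      rw [← hi]
      exact pow_mem (IntermediateField.mem_adjoin_simple_self ℚ ζ) i
    | zero => exact zero_mem _
    | one => exact one_mem _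
    | add x y _ _ hx hy => exact add_mem hx hy
    | neg x _ hx => exact neg_mem hx
    | mul x y _ _ hx hy => exact mul_mem hx hy
  have hzK : z ∈ K := by
    rw [hzc]
    exact mul_mem (SubfieldClass.ratCast_mem K q) hcK
  have hint : IsIntegral ℤ (⟨z, hzK⟩ : K) :=
    (isIntegral_algebraMap_iff (algebraMap K ℂ).injective).mp hz
  obtain ⟨⟨w, hw⟩, hw'⟩ := (IsIntegralClosure.isIntegral_iff (A := Algebra.adjoin ℤ ({ζK} : Set K))).1 hint
  have hwz : (w : ℂ) = z := congrArg (fun x : K => (x : ℂ)) hw'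
  rw [← hwz]
  clear hwz hw'
  induction hw using Algebra.adjoin_induction with
  | mem x hx =>
    rw [Set.mem_singleton_iff] at hx
    rw [hx]
    exact mem_cycInt_of_pow hζ.pow_eq_one
  | algebraMap a =>
    show ((algebraMap ℤ K a : K) : ℂ) ∈ cycInt _
    rw [eq_intCast]
    push_cast
    exact intCast_mem _ a
  | add x y _ _ hx hy => exact add_mem hx hy
  | mul x y _ _ hx hy => exact mul_mem hx hy

/-- Sums of powers of a root of unity over the residues prime to `r` are integers. -/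
theorem exists_int_sum_coprime {ω : ℂ} (hω : ω ^ r ^ (k + 1) = 1) :
    ∃ a : ℤ, ∑ i ∈ (range (r ^ (k + 1))).filter (fun i => (r ^ (k + 1)).Coprime i), ω ^ i = a := by
  have geom : ∀ (x : ℂ) (n : ℕ), x ^ n = 1 → ∃ a : ℤ, ∑ i ∈ range n, x ^ i = a := by
    intro x n hx
    by_cases h : x = 1
    · exact ⟨n, by simp [h]⟩
    · exact ⟨0, by rw [geom_sum_eq h, hx, sub_self, zero_div, Int.cast_zero]⟩
  obtain ⟨a, ha⟩ := geom ω _ hω
  obtain ⟨b, hb⟩ := geom (ω ^ r) (r ^ k) (by rw [← pow_mul, ← pow_succ', hω])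
  refine ⟨a - b, ?_⟩
  have hset : (range (r ^ (k + 1))).filter (fun i => ¬ (r ^ (k + 1)).Coprime i) =
      (range (r ^ k)).image (fun t => r * t) := by
    ext i
    simp only [mem_filter, mem_range, mem_image]
    rw [Nat.coprime_pow_left_iff (by omega), hr.out.coprime_iff_not_dvd, not_not]
    constructor
    · rintro ⟨hi, t, rfl⟩
      refine ⟨t, ?_, rfl⟩
      rw [pow_succ'] at hi
      exact Nat.lt_of_mul_lt_mul_left hi
    · rintro ⟨t, ht, rfl⟩
      exact ⟨by rw [pow_succ']; exact (Nat.mul_lt_mul_left hr.out.pos).2 ht, dvd_mul_right _ _⟩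
  have hsplit := Finset.sum_filter_add_sum_filter_not (range (r ^ (k + 1)))
    (fun i => (r ^ (k + 1)).Coprime i) (fun i => ω ^ i)
  rw [hset, Finset.sum_image (fun x _ y _ h => Nat.eq_of_mul_eq_mul_left hr.out.pos h)] at hsplit
  simp only [pow_mul] at hsplit
  rw [hb, ha] at hsplit
  push_cast
  linear_combination hsplit

/-- The theorem. -/
theorem sq_mul_totient_le_sum {ζ : ℂ} (hζ : IsPrimitiveRoot ζ (r ^ (k + 1))) (m : ℕ → ℕ)
    (f : ℕ → ℂ) (hf : ∀ i, f i = ∑ j ∈ range (r ^ (k + 1)), (m j : ℂ) * ζ ^ (i * j))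
    (hint : ∀ i, (r ^ (k + 1)).Coprime i → IsIntegral ℤ (f i / r))
    {i₀ : ℕ} (hi₀ : (r ^ (k + 1)).Coprime i₀) (h0 : f i₀ ≠ 0) :
    (r : ℝ) ^ 2 * (r ^ (k + 1)).totient ≤
      ∑ i ∈ (range (r ^ (k + 1))).filter (fun i => (r ^ (k + 1)).Coprime i), ‖f i‖ ^ 2 := by
  classical
  set n := r ^ (k + 1) with hn
  have hn0 : n ≠ 0 := pow_ne_zero _ hr.out.ne_zero
  have hr0 : (r : ℂ) ≠ 0 := by exact_mod_cast hr.out.ne_zero
  set U := (range n).filter (fun i => n.Coprime i) with hU
  have hcyc : ∀ i, f i ∈ cycInt n := fun i => by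
    rw [hf i]
    exact sum_mem fun j _ => mul_mem (natCast_mem _ _)
      (mem_cycInt_of_pow (by rw [← pow_mul, mul_comm, pow_mul, hζ.pow_eq_one, one_pow]))
  -- all the values are non-zero
  have hne : ∀ i, n.Coprime i → f i ≠ 0 := by
    intro i hi hfi
    let P : Polynomial ℚ := ∑ j ∈ range n, Polynomial.C (m j : ℚ) * Polynomial.X ^ j
    have haeval : ∀ l, Polynomial.aeval (ζ ^ l) P = f l := fun l => by
      rw [hf l, map_sum]
      refine Finset.sum_congr rfl fun j _ => ?_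
      rw [map_mul, Polynomial.aeval_C, map_natCast, map_pow, Polynomial.aeval_X, ← pow_mul]
    have hmin : ∀ l, n.Coprime l → minpoly ℚ (ζ ^ l) = minpoly ℚ ζ := fun l hl => by
      rw [← Polynomial.cyclotomic_eq_minpoly_rat hζ (Nat.pos_of_ne_zero hn0),
        Polynomial.cyclotomic_eq_minpoly_rat (hζ.pow_of_coprime l hl.symm) (Nat.pos_of_ne_zero hn0)]
    have hdvd : minpoly ℚ (ζ ^ i) ∣ P := minpoly.dvd ℚ _ ((haeval i).trans hfi)
    rw [hmin i hi, ← hmin i₀ hi₀] at hdvd
    obtain ⟨Q, hQ⟩ := hdvd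
    apply h0
    rw [← haeval i₀, hQ, map_mul, minpoly.aeval, zero_mul]
  have hmem : ∀ i : U, f (i : ℕ) / r ∈ cycInt n := fun i =>
    mem_cycInt_of_isIntegral hζ (hcyc i) (q := (r : ℚ)⁻¹) (by push_cast; rw [div_eq_inv_mul])
      (hint i (Finset.mem_filter.1 i.2).2)
  -- the sum of squares is an integer
  obtain ⟨S, hS⟩ : ∃ S : ℤ, ∑ i ∈ U, f i * conj (f i) = S := by
    have hterm : ∀ j l, ∃ a : ℤ, ∑ i ∈ U, ζ ^ (i * j) * conj (ζ ^ (i * l)) = a := fun j l => by
      obtain ⟨a, ha⟩ := exists_int_sum_coprime (r := r) (k := k) (ω := ζ ^ j * conj (ζ ^ l)) (by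
        rw [mul_pow, ← map_pow, ← pow_mul, ← pow_mul, mul_comm j, mul_comm l, pow_mul, pow_mul,
          hζ.pow_eq_one, one_pow, one_pow, map_one, mul_one])
      refine ⟨a, ha ▸ Finset.sum_congr rfl fun i _ => ?_⟩
      rw [mul_pow, ← map_pow, ← pow_mul, ← pow_mul, mul_comm j, mul_comm l]
    choose a ha using hterm
    refine ⟨∑ j ∈ range n, ∑ l ∈ range n, (m j : ℤ) * m l * a j l, ?_⟩
    push_cast
    calc ∑ i ∈ U, f i * conj (f i)
        = ∑ i ∈ U, ∑ j ∈ range n, ∑ l ∈ range n,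
            ((m j : ℂ) * m l) * (ζ ^ (i * j) * conj (ζ ^ (i * l))) := by
          refine Finset.sum_congr rfl fun i _ => ?_
          rw [hf i, map_sum, Finset.sum_mul_sum]
          refine Finset.sum_congr rfl fun j _ => Finset.sum_congr rfl fun l _ => ?_
          rw [map_mul, map_natCast]
          ring
      _ = ∑ j ∈ range n, ∑ l ∈ range n, ∑ i ∈ U,
            ((m j : ℂ) * m l) * (ζ ^ (i * j) * conj (ζ ^ (i * l))) := by
          rw [Finset.sum_comm]
          exact Finset.sum_congr rfl fun j _ => Finset.sum_comm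
      _ = _ := Finset.sum_congr rfl fun j _ => Finset.sum_congr rfl fun l _ => by
          rw [← Finset.mul_sum, ha j l]
  obtain ⟨N, hN⟩ : ∃ N : ℤ, ∑ i : U, (f (i : ℕ) / r) * conj (f (i : ℕ) / r) = N := by
    have e : ∑ i : U, (f (i : ℕ) / r) * conj (f (i : ℕ) / r) = algebraMap ℚ ℂ ((S : ℚ) / (r : ℚ) ^ 2) := by
      rw [Finset.univ_eq_attach, Finset.sum_attach U (fun i => (f i / r) * conj (f i / r)), map_div₀,
        map_intCast, map_pow, map_natCast, ← hS, Finset.sum_div]
      refine Finset.sum_congr rfl fun i _ => ?_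
      rw [map_div₀, map_natCast]
      ring
    have hI : IsIntegral ℤ (∑ i : U, (f (i : ℕ) / r) * conj (f (i : ℕ) / r)) :=
      IsIntegral.sum _ fun i _ => (hint i (Finset.mem_filter.1 i.2).2).mul
        ((hint i (Finset.mem_filter.1 i.2).2).map (starRingEnd ℂ).toIntAlgHom)
    rw [e, isIntegral_algebraMap_iff (algebraMap ℚ ℂ).injective,
      IsIntegrallyClosed.isIntegral_iff] at hI
    obtain ⟨N, hN⟩ := hI
    exact ⟨N, by rw [e, ← hN, eq_intCast, map_intCast]⟩
  have hle := card_le_sum_normSq hn0 (fun i : U => (⟨f (i : ℕ) / r, hmem i⟩ : cycInt n))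
    (fun i => div_ne_zero (hne i (Finset.mem_filter.1 i.2).2) hr0) hN
  have hcard : Fintype.card U = n.totient := by
    rw [Fintype.card_coe, hU, Nat.totient_eq_card_coprime]
  rw [hcard] at hle
  have hNre : (N : ℝ) * (r : ℝ) ^ 2 = ∑ i ∈ U, ‖f i‖ ^ 2 := by
    have h : (((N : ℝ) * (r : ℝ) ^ 2 : ℝ) : ℂ) = ((∑ i ∈ U, ‖f i‖ ^ 2 : ℝ) : ℂ) := by
      push_cast
      rw [← hN, Finset.univ_eq_attach, Finset.sum_attach U (fun i => (f i / r) * conj (f i / r)),
        Finset.sum_mul]
      refine Finset.sum_congr rfl fun i _ => ?_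
      rw [Complex.mul_conj', norm_div, Complex.norm_natCast]
      push_cast
      field_simp
    exact_mod_cast h
  calc (r : ℝ) ^ 2 * n.totient ≤ (r : ℝ) ^ 2 * N := by
        refine mul_le_mul_of_nonneg_left ?_ (by positivity)
        exact_mod_cast hle
    _ = _ := by rw [mul_comm, hNre]

end CfsgLib.Bender.Full.Vanish
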